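import Cfsg.Agent.H59.O8S.Num_m3
import Cfsg.Agent.ClassicalGeometry.SympGamma
import Cfsg.Agent.H966.PSpAut
import Cfsg.Agent.H441.Wei.CentU3_m3
import Cfsg.Agent.H118.O8S.Mac
import Cfsg.Agent.H740.FiveBase
import Cfsg.Agent.S2603
import Cfsg.Agent.H955.QClass
import Cfsg.Agent.H375.O8.TypeA_m3
import Cfsg.Agent.H884.ElRows_m3
import Cfsg.Agent.H823.O8S.Main
import Cfsg.Agent.S0296
import Cfsg.Agent.H424.Spr.O8.Lin_m3
import Cfsg.Agent.H688.Cov.OMinusFinal_m3
import Cfsg.Agent.AutOrth.Main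
import Cfsg.Agent.AutOrth.Final
import Cfsg.Agent.H946.ExcNum_m3
import Cfsg.Agent.H198.Carriers
import Cfsg.Agent.FastGrp
import Cfsg.Agent.Prune
set_option linter.all false

section
prune_inst 0x7ff3a8f9fbb83bdfdf7f7e75a69ccdfc3b911fffa4dff94bbfe021ff0bdf031049c123ad09e010fc0e86401410a87843fbffeeffe26fd87ffffd1ff41ffbee0ff5f7b500519488340fbc0ffe03f0678e7f3fffffffffffffffffffffffffffbeffbfffffffff

-- part: H466/O8S/Schur
section
set_option linter.all false
open scoped Cfsg.Agent.FastGrp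

/-!
# S3938-OPLUS8: an element of order `r ^ k` acts irreducibly on `K ^ 6` over the prime field (helper466)
-/

set_option autoImplicit false

namespace Cfsg.Agent.H466.O8S

open Module
open Cfsg.Agent.H436 (Prim)

section irr

variable {V : Type*} [AddCommGroup V] [Finite V]

/-- an additive subgroup of a group of order `p ^ n` has order `p ^ m`, `m ≤ n` -/
theorem card_addSub {p n : ℕ} (hp : p.Prime) (hV : Nat.card V = p ^ n) (W : AddSubgroup V) :
    ∃ m, m ≤ n ∧ Nat.card W = p ^ m := by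
  have h := W.card_addSubgroup_dvd_card
  rw [hV] at h
  exact (Nat.dvd_prime_pow hp).1 h

/-- **irreducibility** -/
theorem irr_add {p n r k : ℕ} (hp : p.Prime) (hn : 0 < n) (hr : Prim p n r) (hV : Nat.card V = p ^ n)
    {X : V →+ V} (hX : ∀ v, (X^[r ^ k]) v = v) (hX1 : ∃ v, X v ≠ v) {W : AddSubgroup V} (hW : ∀ v ∈ W, X v ∈ W) :
    W = ⊥ ∨ W = ⊤ := by
  classical
  have := Fintype.ofFinite V
  have : Fact r.Prime := ⟨hr.prime⟩
  have key : ∀ U : AddSubgroup V, (∀ v ∈ U, X v ∈ U) →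
      ∀ C : AddSubgroup V, (∀ v, v ∈ C ↔ v ∈ U ∧ X v = v) → Nat.card U ≡ Nat.card C [MOD r] := by
    intro U hU C hC
    let f : Function.End U := fun v => ⟨X v, hU v v.2⟩
    have hit : ∀ (j : ℕ) (v : U), (((f ^ j) v : U) : V) = (X^[j]) v := by
      intro j
      induction j with
      | zero => intro v; rfl
      | succ j ih =>
        intro v
        rw [pow_succ', Function.iterate_succ_apply']
        change X ((f ^ j) v : U) = _
        rw [ih]
    have hf : f ^ r ^ k = 1 := by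
      funext v
      apply Subtype.ext
      rw [hit, hX]
      rfl
    have h1 := Equiv.Perm.card_fixedPoints_modEq hf
    rw [← Nat.card_eq_fintype_card, ← Nat.card_eq_fintype_card] at h1
    have h2 : Nat.card (Function.fixedPoints f) = Nat.card C := by
      refine Nat.card_congr ⟨fun v => ⟨v.1.1, (hC _).2 ⟨v.1.2, congrArg Subtype.val v.2⟩⟩,
        fun v => ⟨⟨v.1, ((hC _).1 v.2).1⟩, Subtype.ext ((hC _).1 v.2).2⟩, fun v => rfl, fun v => rfl⟩
    rwa [h2] at h1
  -- no fixed points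
  let C : AddSubgroup V :=
    { carrier := {v | X v = v}
      zero_mem' := map_zero X
      add_mem' := fun {a b} ha hb => by
        rw [Set.mem_setOf_eq] at ha hb ⊢
        rw [map_add, ha, hb]
      neg_mem' := fun {a} ha => by
        rw [Set.mem_setOf_eq] at ha ⊢
        rw [map_neg, ha] }
  have hCmem : ∀ v, v ∈ C ↔ X v = v := fun v => Iff.rfl
  have hCtop : C ≠ ⊤ := by
    intro h
    obtain ⟨v, hv⟩ := hX1
    exact hv ((hCmem v).1 (h ▸ AddSubgroup.mem_top v))
  have hC : C = ⊥ := by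
    obtain ⟨m, hm, hm'⟩ := card_addSub hp hV C
    have h1 := key ⊤ (fun v _ => AddSubgroup.mem_top _) C (fun v => by
      rw [hCmem]
      exact ⟨fun h => ⟨AddSubgroup.mem_top _, h⟩, fun h => h.2⟩)
    rw [AddSubgroup.card_top, hV, hm'] at h1
    have h2 : p ^ m ≤ p ^ n := Nat.pow_le_pow_right hp.pos hm
    have h3 := (Nat.modEq_iff_dvd' h2).1 h1.symm
    have h4 : p ^ n - p ^ m = p ^ m * (p ^ (n - m) - 1) := by
      rw [Nat.mul_sub, mul_one, ← pow_add, Nat.add_sub_cancel' hm]
    rw [h4] at h3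
    have h5 := (hr.prime.dvd_mul.1 h3).resolve_left (hr.not_dvd_pow m)
    have h6 := (hr.dvd_iff _).1 h5
    have h7 : n - m = 0 ∨ n - m = n := by
      rcases Nat.eq_zero_or_pos (n - m) with h | h
      · exact Or.inl h
      · exact Or.inr (le_antisymm (Nat.sub_le _ _) (Nat.le_of_dvd h h6))
    rcases h7 with h7 | h7
    · exfalso
      apply hCtop
      apply AddSubgroup.eq_top_of_card_eq
      rw [hm', hV, show m = n by omega]
    · rw [← AddSubgroup.card_eq_one, hm', show m = 0 by omega, pow_zero]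
  obtain ⟨m, hm, hm'⟩ := card_addSub hp hV W
  have h1 := key W hW ⊥ (fun v => by
    rw [AddSubgroup.mem_bot]
    constructor
    · rintro rfl
      exact ⟨W.zero_mem, map_zero X⟩
    · rintro ⟨-, h⟩
      rw [← hCmem, hC, AddSubgroup.mem_bot] at h
      exact h)
  rw [AddSubgroup.card_bot, hm'] at h1
  have h3 := (Nat.modEq_iff_dvd' (Nat.one_le_pow m p hp.pos)).1 h1.symm
  have h6 := (hr.dvd_iff _).1 h3
  rcases Nat.eq_zero_or_pos m with h | h
  · left
    rw [← AddSubgroup.card_eq_one, hm', h, pow_zero]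
  · right
    apply AddSubgroup.eq_top_of_card_eq
    rw [hm', hV, le_antisymm hm (Nat.le_of_dvd h h6)]

/-- an additive map commuting with `X` is zero or injective -/
theorem eq_zero_of_apply {X : V →+ V} (hI : ∀ W : AddSubgroup V, (∀ v ∈ W, X v ∈ W) → W = ⊥ ∨ W = ⊤) {f : V →+ V}
    (hf : ∀ v, f (X v) = X (f v)) {v : V} (hv : v ≠ 0) (h : f v = 0) : f = 0 := by
  rcases hI f.ker (fun w hw => by rw [AddMonoidHom.mem_ker] at hw ⊢; rw [hf, hw, map_zero]) with h1 | h1
  · exfalso
    apply hv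
    rw [← AddSubgroup.mem_bot, ← h1]
    exact h
  · ext w
    have : w ∈ f.ker := by rw [h1]; exact AddSubgroup.mem_top w
    exact this

/-- **Schur, Wedderburn**: the additive maps which commute with `X` commute -/
theorem comm_of_comm [Nontrivial V] {X : V →+ V} (hI : ∀ W : AddSubgroup V, (∀ v ∈ W, X v ∈ W) → W = ⊥ ∨ W = ⊤)
    {f g : V →+ V} (hf : ∀ v, f (X v) = X (f v)) (hg : ∀ v, g (X v) = X (g v)) (v : V) : f (g v) = g (f v) := by
  let D : Subring (AddMonoid.End V) := Subring.centralizer {(X : AddMonoid.End V)}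
  have hD : ∀ f : AddMonoid.End V, f ∈ D ↔ ∀ v, f (X v) = X (f v) := by
    intro f
    rw [Subring.mem_centralizer_iff]
    constructor
    · intro h v
      exact (DFunLike.congr_fun (h X rfl) v).symm
    · rintro h _ rfl
      ext v
      exact (h v).symm
  have : Finite (AddMonoid.End V) := DFunLike.finite (AddMonoid.End V)
  have : Finite D := Subtype.finite
  have hnt : Nontrivial D := ⟨0, 1, fun h => by
    obtain ⟨v, hv⟩ := exists_ne (0 : V)
    have h1 : (0 : AddMonoid.End V) = 1 := congrArg Subtype.val h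
    exact hv (DFunLike.congr_fun h1 v).symm⟩
  have hnz : NoZeroDivisors D := ⟨by
    rintro ⟨a, ha⟩ ⟨b, hb⟩ hab
    have hab' : a * b = 0 := congrArg Subtype.val hab
    by_cases hb0 : b = 0
    · exact Or.inr (Subtype.ext hb0)
    left
    apply Subtype.ext
    obtain ⟨v, hv⟩ : ∃ v, b v ≠ 0 := by
      by_contra hcon
      push Not at hcon
      exact hb0 (AddMonoidHom.ext hcon)
    exact eq_zero_of_apply hI ((hD a).1 ha) hv (DFunLike.congr_fun hab' v)⟩
  have hdom : IsDomain D := NoZeroDivisors.to_isDomain D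
  have hfield := Finite.isDomain_to_isField D
  have h := hfield.mul_comm ⟨f, (hD f).2 hf⟩ ⟨g, (hD g).2 hg⟩
  exact DFunLike.congr_fun (congrArg Subtype.val h) v

end irr

end Cfsg.Agent.H466.O8S
end

-- part: H466/O8S/SpLin
section
prune_inst 0xc57040007c4200000018a09433201c42a200000200480400a4e007020f888842cd400820aa30251518a800440830004001100080024000000e000000011e008000018004b0480000080010000100000000000000000000000000000000000004000000000
set_option linter.all false
open scoped Cfsg.Agent.FastGrp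

/-!
# S3938-OPLUS8: similitudes of `K ^ 6` generating `F_{q²}` (helper466)
-/

set_option autoImplicit false

namespace Cfsg.Agent.H466.O8S

open Module
open Cfsg.Agent.ClassicalGeometry.SympBasic

variable {K : Type} [Field K]

local notation "V6" => (Fin 3 ⊕ Fin 3 → K)

local notation "B" => sympForm 3 K

/-- `T` generates a quadratic extension and its adjoint is `c - T` -/
structure QT (T : Module.End K V6) (c l : K) : Prop where
  sq : ∀ v, T (T v) = c • T v - l • v
  adj : ∀ u v, B (T u) v = c * B u v - B u (T v)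
  inj : ∀ v, v ≠ 0 → T v + T v - c • v ≠ 0

section quad

variable [Fintype K]

/-- an element `z` of a ring of endomorphisms with `z ^ q = z` and without zero divisors is a scalar -/
theorem scalar_of_pow {z : Module.End K V6} (hI : ∀ a : K, (∃ v, v ≠ 0 ∧ z v = a • v) → z = a • (1 : Module.End K V6))
    (hz : z ^ Fintype.card K = z) : ∃ a : K, z = a • (1 : Module.End K V6) := by
  classical
  by_contra hcon
  push Not at hcon
  have hinj : ∀ a : K, Function.Injective (z - a • (1 : Module.End K V6)) := by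
    intro a
    rw [injective_iff_map_eq_zero]
    intro v hv
    by_contra hv0
    refine hcon a (hI a ⟨v, hv0, ?_⟩)
    rw [LinearMap.sub_apply, LinearMap.smul_apply, Module.End.one_apply] at hv
    exact sub_eq_zero.1 hv
  have hprod : ∀ s : Finset K, Function.Injective (Polynomial.aeval z (∏ a ∈ s, (Polynomial.X - Polynomial.C a))) := by
    intro s
    induction s using Finset.induction_on with
    | empty =>
      rw [Finset.prod_empty, map_one]
      exact Function.injective_id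
    | insert a s ha ih =>
      rw [Finset.prod_insert ha, map_mul, map_sub, Polynomial.aeval_X, Polynomial.aeval_C, Module.End.mul_eq_comp,
        LinearMap.coe_comp]
      refine Function.Injective.comp ?_ ih
      have := hinj a
      rwa [← Algebra.algebraMap_eq_smul_one] at this
  have h1 := hprod Finset.univ
  have h2 : (∏ a ∈ (Finset.univ : Finset K), (Polynomial.X - Polynomial.C a)) =
      Polynomial.X ^ Fintype.card K - Polynomial.X := by
    have e1 := FiniteField.roots_X_pow_card_sub_X K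
    have e2 : (Polynomial.X ^ Fintype.card K - Polynomial.X : Polynomial K).natDegree = Fintype.card K :=
      FiniteField.X_pow_card_sub_X_natDegree_eq K Fintype.one_lt_card
    have e3 : (Polynomial.X ^ Fintype.card K - Polynomial.X : Polynomial K).Monic :=
      Polynomial.monic_X_pow_sub (by rw [Polynomial.degree_X]; exact_mod_cast Fintype.one_lt_card)
    have e4 := Polynomial.prod_multiset_X_sub_C_of_monic_of_roots_card_eq e3 (by
      rw [e1, e2]
      exact Finset.card_univ)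
    rw [e1] at e4
    exact e4
  rw [h2, map_sub, map_pow, Polynomial.aeval_X, hz, sub_self] at h1
  have h3 : (Pi.single (Sum.inl 0) 1 : V6) ≠ 0 := by
    intro h
    have := congrFun h (Sum.inl 0)
    simp at this
  exact h3 (h1 (by simp))

/-- **`T` generates a quadratic field extension** -/
theorem quad {p a : ℕ} (hp : p.Prime) (hK : Fintype.card K = p ^ a) {X : V6 →+ V6} (hXs : ∀ (a : K) v, X (a • v) = a • X v)
    (hI : ∀ f : Module.End K V6, (∀ v, f (X v) = X (f v)) → ∀ v, v ≠ 0 → f v = 0 → f = 0) {T : Module.End K V6}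
    (hTX : ∀ v, T (X v) = X (T v)) {l : K} (hl : l ≠ 0) (hB : ∀ u v, B (T u) (T v) = l * B u v)
    (hT0 : ∃ d : K, T ^ (Fintype.card K + 1) = d • (1 : Module.End K V6)) (hT1 : ∀ e : K, ∃ v, T (T v) ≠ e • v) :
    ∃ c, QT T c l := by
  have : Fact p.Prime := ⟨hp⟩
  obtain ⟨d, hd⟩ := hT0
  have hTinj : ∀ v, T v = 0 → v = 0 := by
    intro v hv
    apply eq_zero_of_forall_sympForm_right
    intro w
    have h1 := hB v w
    rw [hv, sympForm_zero_left] at h1
    exact (mul_eq_zero.1 h1.symm).resolve_left hl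
  have hTns : ∀ e : K, T ≠ e • (1 : Module.End K V6) := by
    intro e he
    obtain ⟨v, hv⟩ := hT1 (e * e)
    apply hv
    rw [he]
    simp only [LinearMap.smul_apply, Module.End.one_apply, smul_smul]
  have hpowX : ∀ (n : ℕ) v, (T ^ n) (X v) = X ((T ^ n) v) := by
    intro n
    induction n with
    | zero => intro v; rfl
    | succ n ih => intro v; rw [pow_succ', Module.End.mul_apply, Module.End.mul_apply, ih, hTX]
  have hTpinj : ∀ (n : ℕ) v, (T ^ n) v = 0 → v = 0 := by
    intro n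
    induction n with
    | zero => intro v hv; exact hv
    | succ n ih => intro v hv; rw [pow_succ', Module.End.mul_apply] at hv; exact ih v (hTinj _ hv)
  obtain ⟨v0, hv0⟩ := exists_ne (0 : V6)
  have hd0 : d ≠ 0 := by
    rintro rfl
    apply hv0
    apply hTpinj (Fintype.card K + 1) v0
    rw [hd, zero_smul, LinearMap.zero_apply]
  have hq : 1 < Fintype.card K := Fintype.one_lt_card
  have hqq : (T ^ Fintype.card K) ^ Fintype.card K = T := by
    have e1 : Fintype.card K * Fintype.card K = (Fintype.card K + 1) * (Fintype.card K - 1) + 1 := by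
      obtain ⟨n, hn⟩ : ∃ n, Fintype.card K = n + 1 := ⟨Fintype.card K - 1, by omega⟩
      rw [hn, Nat.add_sub_cancel]
      ring
    rw [← pow_mul, e1, pow_add, pow_mul, hd, smul_pow, one_pow, FiniteField.pow_card_sub_one_eq_one d hd0, one_smul,
      one_mul, pow_one]
  have hcharK : CharP K p := by
    have h1 := FiniteField.card K (ringChar K)
    obtain ⟨n, hn, hn'⟩ := h1
    have h2 : ringChar K ∣ p ^ a := by
      rw [← hK, hn']
      exact dvd_pow_self _ n.pos.ne'
    have h3 := (Nat.prime_dvd_prime_iff_eq hn hp).1 (hn.dvd_of_dvd_pow h2)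
    rw [← h3]
    exact ringChar.charP K
  have hcharE : CharP (Module.End K V6) p :=
    charP_of_injective_algebraMap (FaithfulSMul.algebraMap_injective K (Module.End K V6)) p
  have hz : (T + T ^ Fintype.card K) ^ Fintype.card K = T + T ^ Fintype.card K := by
    have h1 : (T + T ^ Fintype.card K) ^ p ^ a = T ^ p ^ a + (T ^ Fintype.card K) ^ p ^ a :=
      add_pow_char_pow_of_commute p a (Commute.self_pow T _)
    rw [← hK, hqq] at h1
    rw [h1, add_comm]
  obtain ⟨c, hc⟩ := scalar_of_pow (fun b hb => by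
    obtain ⟨v, hv, hv'⟩ := hb
    have h1 := hI (T + T ^ Fintype.card K - b • (1 : Module.End K V6)) (fun w => by
      simp only [LinearMap.sub_apply, LinearMap.add_apply, LinearMap.smul_apply, Module.End.one_apply, hTX, hpowX, map_sub,
        map_add, hXs]) v hv (by
      rw [LinearMap.sub_apply, hv', LinearMap.smul_apply, Module.End.one_apply, sub_self])
    exact sub_eq_zero.1 h1) hz
  have hTb : T ^ Fintype.card K = c • (1 : Module.End K V6) - T := by rw [← hc, add_sub_cancel_left]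
  have hTbv : ∀ v, (T ^ Fintype.card K) v = c • v - T v := fun v => by
    rw [hTb, LinearMap.sub_apply, LinearMap.smul_apply, Module.End.one_apply]
  have hdv : ∀ v, T (c • v - T v) = d • v := fun v => by
    rw [← hTbv, ← Module.End.mul_apply, ← pow_succ', hd, LinearMap.smul_apply, Module.End.one_apply]
  have hsq : ∀ v, T (T v) = c • T v - d • v := fun v => by
    have := hdv v
    rw [map_sub, map_smul] at this
    rw [← this, sub_sub_cancel]
  -- the adjoint, up to a factor
  obtain ⟨μ, hμ⟩ : ∃ μ, μ = l / d := ⟨_, rfl⟩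
  have hμd : μ * d = l := by rw [hμ, div_mul_cancel₀ _ hd0]
  have hadj : ∀ u v, B (T u) v = μ * (c * B u v - B u (T v)) := by
    intro u v
    have h1 : B (T u) (d • v) = l * (c * B u v - B u (T v)) := by
      rw [← hdv, hB, sympForm_sub_right, sympForm_smul_right]
    rw [sympForm_smul_right, ← hμd] at h1
    have h2 : d * (B (T u) v - μ * (c * B u v - B u (T v))) = 0 := by linear_combination h1
    exact sub_eq_zero.1 ((mul_eq_zero.1 h2).resolve_left hd0)
  have hadj2 : ∀ u v, (1 - μ * μ) * B u (T v) = μ * c * (1 - μ) * B u v := by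
    intro u v
    have h1 := hadj v u
    have h2 := hadj u v
    rw [sympForm_swap (T v) u, sympForm_swap v u, sympForm_swap v (T u)] at h1
    linear_combination -h1 - μ * h2
  have hμ1 : (1 - μ * μ) = 0 := by
    by_contra h0
    refine hTns (μ * c * (1 - μ) / (1 - μ * μ)) (LinearMap.ext fun v => ?_)
    apply eq_of_forall_sympForm_left
    intro u
    rw [LinearMap.smul_apply, Module.End.one_apply, sympForm_smul_right]
    apply mul_left_cancel₀ h0
    rw [hadj2 u v, ← mul_assoc, mul_div_cancel₀ _ h0]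
  have hμ2 : μ = 1 := by
    by_contra h1
    have h2 : (1 - μ) * (1 + μ) = 0 := by linear_combination hμ1
    have h3 : μ = -1 := by
      rcases mul_eq_zero.1 h2 with h | h
      · exact absurd (sub_eq_zero.1 h).symm h1
      · linear_combination h
    have h4 : (2 : K) ≠ 0 := by
      intro h4
      apply h1
      rw [h3]
      linear_combination -h4
    have h5 : c = 0 := by
      have h6 : ∀ u v, (μ * c * (1 - μ)) * B u v = 0 := fun u v => by rw [← hadj2, hμ1, zero_mul]
      by_contra h5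
      apply hv0
      apply eq_zero_of_forall_sympForm_left
      intro w
      refine (mul_eq_zero.1 (h6 w v0)).resolve_left ?_
      rw [h3]
      intro h7
      have h8 : 2 * c = 0 := by linear_combination -h7
      rcases mul_eq_zero.1 h8 with h | h
      · exact h4 h
      · exact h5 h
    obtain ⟨v, hv⟩ := hT1 (-d)
    apply hv
    rw [hsq, h5, zero_smul, zero_sub, neg_smul]
  have hdl : d = l := by rw [← hμd, hμ2, one_mul]
  refine ⟨c, ⟨fun v => by rw [hsq, hdl], fun u v => by rw [hadj, hμ2, one_mul], fun v hv h => ?_⟩⟩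
  have h1 := hI (T + T - c • (1 : Module.End K V6)) (fun w => by
    simp only [LinearMap.sub_apply, LinearMap.add_apply, LinearMap.smul_apply, Module.End.one_apply, hTX, map_sub,
      map_add, hXs]) v hv (by
    rw [LinearMap.sub_apply, LinearMap.smul_apply, Module.End.one_apply]
    exact h)
  have h2 : ∀ v, T v + T v = c • v := fun v => by
    have := LinearMap.congr_fun h1 v
    rw [LinearMap.sub_apply, LinearMap.smul_apply, Module.End.one_apply] at this
    exact sub_eq_zero.1 this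
  by_cases h4 : (2 : K) = 0
  · obtain ⟨v, hv⟩ := hT1 (-d)
    apply hv
    have h5 : c • T v = 0 := by
      rw [← h2, ← two_smul K, h4, zero_smul]
    rw [hsq, h5, zero_sub, neg_smul]
  · refine hTns (c / 2) (LinearMap.ext fun v => ?_)
    have h5 := h2 v
    rw [← two_smul K] at h5
    rw [LinearMap.smul_apply, Module.End.one_apply, div_eq_inv_mul, mul_smul, ← h5, smul_smul, inv_mul_cancel₀ h4,
      one_smul]

end quad

/-! ### the planes -/

section plane

variable {T : Module.End K (Fin 3 ⊕ Fin 3 → K)} {c l : K}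

/-- the orthogonal projection to the plane spanned by `u`, `T u` -/
def pr (T : Module.End K V6) (u : V6) : Module.End K V6 :=
  (B u (T u))⁻¹ • (((sympBilin 3 K).flip (T u)).smulRight u + ((sympBilin 3 K) u).smulRight (T u))

theorem pr_apply (T : Module.End K V6) (u v : V6) :
    pr T u v = (B u (T u))⁻¹ • (B v (T u) • u + B u v • T u) := rfl

theorem QT.adj' (h : QT T c l) (u v : V6) : B u (T v) = c * B u v - B (T u) v := by rw [h.adj]; ring

theorem QT.sim (h : QT T c l) (u v : V6) : B (T u) (T v) = l * B u v := by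
  rw [h.adj, h.sq, sympForm_sub_right, sympForm_smul_right, sympForm_smul_right]
  ring

theorem pr_self {u : V6} (hu : B u (T u) ≠ 0) : pr T u u = u := by
  rw [pr_apply, sympForm_self, zero_smul, add_zero, smul_smul, inv_mul_cancel₀ hu, one_smul]

theorem pr_T {u : V6} (hu : B u (T u) ≠ 0) : pr T u (T u) = T u := by
  rw [pr_apply, sympForm_self, zero_smul, zero_add, smul_smul, inv_mul_cancel₀ hu, one_smul]

theorem QT.pr_comm (h : QT T c l) (u v : V6) : pr T u (T v) = T (pr T u v) := by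
  rw [pr_apply, pr_apply, map_smul, map_add, map_smul, map_smul, h.sq, h.sim, h.adj' u v, sympForm_swap (T u) v,
    sympForm_swap v u]
  congr 1
  simp only [smul_sub, smul_smul]
  module

theorem pr_perp {u : V6} (hu : B u (T u) ≠ 0) (v : V6) : B (v - pr T u v) u = 0 ∧ B (v - pr T u v) (T u) = 0 := by
  constructor
  · rw [pr_apply, sympForm_sub_left, sympForm_smul_left, sympForm_add_left, sympForm_smul_left, sympForm_smul_left,
      sympForm_self, sympForm_swap (T u) u, sympForm_swap v u]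
    field_simp
    ring
  · rw [pr_apply, sympForm_sub_left, sympForm_smul_left, sympForm_add_left, sympForm_smul_left, sympForm_smul_left,
      sympForm_self]
    field_simp
    ring

theorem pr_eq_zero {u v : V6} (h1 : B u v = 0) (h2 : B v (T u) = 0) : pr T u v = 0 := by
  rw [pr_apply, h1, h2, zero_smul, zero_smul, add_zero, smul_zero]

/-- `T` on the orthogonal complement of the plane, the conjugate `c - T` on the plane -/
def Tc (T : Module.End K V6) (c : K) (u : V6) : Module.End K V6 :=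
  T + (c • (1 : Module.End K V6) - T - T) * pr T u

theorem Tc_apply (T : Module.End K V6) (c : K) (u v : V6) :
    Tc T c u v = T v + (c • pr T u v - T (pr T u v) - T (pr T u v)) := rfl

theorem QT.Tc_comm (h : QT T c l) (u v : V6) : T (Tc T c u v) = Tc T c u (T v) := by
  rw [Tc_apply, Tc_apply, h.pr_comm]
  simp only [map_add, map_sub, map_smul]

theorem Tc_self {u : V6} (hu : B u (T u) ≠ 0) : Tc T c u u = c • u - T u := by
  rw [Tc_apply, pr_self hu]
  abel

theorem Tc_perp {u v : V6} (h1 : B u v = 0) (h2 : B v (T u) = 0) : Tc T c u v = T v := by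
  rw [Tc_apply, pr_eq_zero h1 h2]
  simp

/-- the isometry `u ↦ e u`, `T u ↦ e (c - T) u`, `e = x + y T`, trivial on the complement of the plane -/
def wm (T : Module.End K V6) (c l x y : K) (u : V6) : Module.End K V6 :=
  1 - pr T u + (B u (T u))⁻¹ • (((sympBilin 3 K).flip (T u)).smulRight (x • u + y • T u) +
    ((sympBilin 3 K) u).smulRight ((c * x + l * y) • u - x • T u))

theorem wm_apply (T : Module.End K V6) (c l x y : K) (u v : V6) :
    wm T c l x y u v = v - pr T u v + (B u (T u))⁻¹ • (B v (T u) • (x • u + y • T u) +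
      B u v • ((c * x + l * y) • u - x • T u)) := rfl

theorem wm_iso {x y : K} (hxy : x * x + c * x * y + l * y * y = -1) {u : V6} (hu : B u (T u) ≠ 0) (v v' : V6) :
    B (wm T c l x y u v) (wm T c l x y u v') = B v v' := by
  obtain ⟨h1, h2⟩ := pr_perp hu v
  obtain ⟨h3, h4⟩ := pr_perp hu v'
  have e : B v v' = B (v - pr T u v + pr T u v) (v' - pr T u v' + pr T u v') := by rw [sub_add_cancel, sub_add_cancel]
  rw [e, wm_apply, wm_apply]
  obtain ⟨v₀, hv₀⟩ : ∃ v₀, v₀ = v - pr T u v := ⟨_, rfl⟩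
  obtain ⟨w₀, hw₀⟩ : ∃ w₀, w₀ = v' - pr T u v' := ⟨_, rfl⟩
  rw [← hv₀] at h1 h2 ⊢
  rw [← hw₀] at h3 h4 ⊢
  have h5 : B u w₀ = 0 := by rw [sympForm_swap, h3, neg_zero]
  have h6 : B (T u) w₀ = 0 := by rw [sympForm_swap, h4, neg_zero]
  rw [pr_apply, pr_apply]
  simp only [sympForm_add_left, sympForm_add_right, sympForm_sub_left, sympForm_sub_right, sympForm_smul_left,
    sympForm_smul_right, h1, h2, h5, h6, sympForm_self, sympForm_swap (T u) u]
  obtain ⟨b, hb⟩ : ∃ b, b = B u (T u) := ⟨_, rfl⟩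
  rw [← hb] at hu ⊢
  field_simp
  linear_combination (-(b * (B v (T u) * B u v' - B u v * B v' (T u)))) * hxy

theorem QT.wm_T (h : QT T c l) (x y : K) {u : V6} (hu : B u (T u) ≠ 0) (v : V6) :
    wm T c l x y u (T v) = Tc T c u (wm T c l x y u v) := by
  obtain ⟨b, hb⟩ : ∃ b, b = (B u (T u))⁻¹ := ⟨_, rfl⟩
  obtain ⟨α, hα⟩ : ∃ α, α = b * B v (T u) := ⟨_, rfl⟩
  obtain ⟨β, hβ⟩ : ∃ β, β = b * B u v := ⟨_, rfl⟩
  have e1 : wm T c l x y u v = v - pr T u v + (α • (x • u + y • T u) + β • ((c * x + l * y) • u - x • T u)) := by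
    rw [wm_apply, hα, hβ, hb, smul_add, smul_smul, smul_smul]
  have e2 : wm T c l x y u (T v) = T v - T (pr T u v) + ((-l * β) • (x • u + y • T u) +
      (c * β + α) • ((c * x + l * y) • u - x • T u)) := by
    rw [wm_apply, h.pr_comm, h.sim, h.adj' u v, sympForm_swap (T u) v, sympForm_swap v u, hα, hβ, hb, smul_add, smul_smul,
      smul_smul]
    congr 2
    · congr 1
      ring
    · congr 1
      ring
  have e3 : pr T u (v - pr T u v + (α • (x • u + y • T u) + β • ((c * x + l * y) • u - x • T u))) =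
      α • (x • u + y • T u) + β • ((c * x + l * y) • u - x • T u) := by
    obtain ⟨h1, h2⟩ := pr_perp hu v
    rw [map_add, pr_eq_zero (by rw [sympForm_swap, h1, neg_zero]) h2, zero_add]
    simp only [map_add, map_sub, map_smul, pr_self hu, pr_T hu]
  rw [e1, e2, Tc_apply, e3]
  simp only [map_add, map_sub, map_smul, h.sq]
  module

/-- pairwise orthogonal planes -/
structure Orth {n : ℕ} (T : Module.End K V6) (u : Fin n → V6) : Prop where
  ne : ∀ i, B (u i) (T (u i)) ≠ 0
  perp : ∀ i j, i ≠ j → B (u i) (u j) = 0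
  perpT : ∀ i j, i ≠ j → B (u i) (T (u j)) = 0

/-- a further plane -/
theorem QT.exists_next (h : QT T c l) {n : ℕ} (hn : n < 3) {u : Fin n → V6} (hu : Orth T u) :
    ∃ v : V6, B v (T v) ≠ 0 ∧ ∀ i, B (u i) v = 0 ∧ B v (T (u i)) = 0 := by
  by_contra hcon
  push Not at hcon
  have hW : ∀ v : V6, (∀ i, B (u i) v = 0 ∧ B v (T (u i)) = 0) → B v (T v) = 0 := by
    intro v hv
    by_contra h0
    obtain ⟨i, hi⟩ := hcon v h0
    exact hi (hv i).1 (hv i).2
  -- a nonzero vector in the complement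
  let φ : V6 →ₗ[K] (Fin n ⊕ Fin n → K) := LinearMap.pi (Sum.elim (fun i => (sympBilin 3 K).flip (T (u i)))
    (fun i => (sympBilin 3 K) (u i)))
  have hker : LinearMap.ker φ ≠ ⊥ := by
    apply LinearMap.ker_ne_bot_of_finrank_lt
    rw [finrank_fintype_fun_eq_card, finrank_fintype_fun_eq_card, Fintype.card_sum, Fintype.card_sum, Fintype.card_fin,
      Fintype.card_fin]
    omega
  obtain ⟨w, hw, hw0⟩ := Submodule.exists_mem_ne_zero_of_ne_bot hker
  rw [LinearMap.mem_ker] at hw
  have hw' : ∀ i, B (u i) w = 0 ∧ B w (T (u i)) = 0 := fun i =>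
    ⟨congrFun hw (Sum.inr i), congrFun hw (Sum.inl i)⟩
  refine h.inj w hw0 (eq_zero_of_forall_sympForm_left fun z => ?_)
  obtain ⟨z₀, hz₀⟩ : ∃ z₀, z₀ = z - ∑ i, pr T (u i) z := ⟨_, rfl⟩
  have hz : z = z₀ + ∑ i, pr T (u i) z := by rw [hz₀, sub_add_cancel]
  have e1 : ∀ (x : V6) (f : Fin n → V6), B x (∑ i, f i) = ∑ i, B x (f i) := fun x f =>
    map_sum (sympBilin 3 K x) f Finset.univ
  have e2 : ∀ (x : V6) (f : Fin n → V6), B (∑ i, f i) x = ∑ i, B (f i) x := fun x f =>
    map_sum ((sympBilin 3 K).flip x) f Finset.univ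
  have hz₀W : ∀ j, B (u j) z₀ = 0 ∧ B z₀ (T (u j)) = 0 := by
    intro j
    have h1 := pr_perp (hu.ne j) z
    constructor
    · rw [hz₀, sympForm_sub_right, e1, Finset.sum_eq_single j]
      · rw [← sympForm_sub_right, sympForm_swap, h1.1, neg_zero]
      · intro i _ hij
        rw [pr_apply, sympForm_smul_right, sympForm_add_right, sympForm_smul_right, sympForm_smul_right,
          hu.perp j i hij.symm, hu.perpT j i hij.symm]
        ring
      · intro h2
        exact absurd (Finset.mem_univ j) h2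
    · rw [hz₀, sympForm_sub_left, e2, Finset.sum_eq_single j]
      · rw [← sympForm_sub_left, h1.2]
      · intro i _ hij
        rw [pr_apply, sympForm_smul_left, sympForm_add_left, sympForm_smul_left, sympForm_smul_left,
          hu.perpT i j hij, h.sim, hu.perp i j hij]
        ring
      · intro h2
        exact absurd (Finset.mem_univ j) h2
  have hT : ∀ i, B (u i) (T w) = 0 ∧ B (T (u i)) (T w) = 0 := by
    intro i
    constructor
    · rw [h.adj', (hw' i).1, sympForm_swap, (hw' i).2]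
      ring
    · rw [h.sim, (hw' i).1, mul_zero]
  rw [hz, sympForm_add_left, e2]
  have e3 : B z₀ (T w + T w - c • w) = 0 := by
    have h1 := hW (z₀ + w) (fun i => by
      rw [sympForm_add_right, sympForm_add_left, (hz₀W i).1, (hz₀W i).2, (hw' i).1, (hw' i).2, add_zero]
      exact ⟨rfl, rfl⟩)
    rw [map_add, sympForm_add_left, sympForm_add_right, sympForm_add_right, hW z₀ hz₀W, hW w hw', zero_add, add_zero,
      sympForm_swap w, h.adj z₀ w] at h1
    rw [sympForm_sub_right, sympForm_add_right, sympForm_smul_right]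
    linear_combination h1
  rw [e3, zero_add]
  refine Finset.sum_eq_zero fun i _ => ?_
  have h2 : B (T (u i)) w = 0 := by rw [sympForm_swap, (hw' i).2, neg_zero]
  rw [pr_apply, sympForm_smul_left, sympForm_add_left, sympForm_smul_left, sympForm_smul_left, sympForm_sub_right,
    sympForm_sub_right, sympForm_add_right, sympForm_add_right, sympForm_smul_right, sympForm_smul_right, (hT i).1, (hT i).2,
    (hw' i).1, h2]
  ring

/-- three planes -/
theorem QT.exists_orth (h : QT T c l) (n : ℕ) (hn : n ≤ 3) : ∃ u : Fin n → V6, Orth T u := by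
  induction n with
  | zero => exact ⟨Fin.elim0, ⟨fun i => i.elim0, fun i => i.elim0, fun i => i.elim0⟩⟩
  | succ n ih =>
    obtain ⟨u, hu⟩ := ih (by omega)
    obtain ⟨v, hv, hv'⟩ := h.exists_next (by omega) hu
    refine ⟨Fin.snoc u v, ⟨fun i => ?_, fun i j hij => ?_, fun i j hij => ?_⟩⟩
    · induction i using Fin.lastCases with
      | last => simpa using hv
      | cast i => simpa using hu.ne i
    · induction i using Fin.lastCases with
      | last =>
        induction j using Fin.lastCases with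
        | last => exact absurd rfl hij
        | cast j =>
          simp only [Fin.snoc_last, Fin.snoc_castSucc]
          rw [sympForm_swap, (hv' j).1, neg_zero]
      | cast i =>
        induction j using Fin.lastCases with
        | last =>
          simp only [Fin.snoc_last, Fin.snoc_castSucc]
          exact (hv' i).1
        | cast j =>
          simp only [Fin.snoc_castSucc]
          exact hu.perp i j (fun h0 => hij (by rw [h0]))
    · induction i using Fin.lastCases with
      | last =>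
        induction j using Fin.lastCases with
        | last => exact absurd rfl hij
        | cast j =>
          simp only [Fin.snoc_last, Fin.snoc_castSucc]
          exact (hv' j).2
      | cast i =>
        induction j using Fin.lastCases with
        | last =>
          simp only [Fin.snoc_last, Fin.snoc_castSucc]
          rw [h.adj', (hv' i).1, sympForm_swap (T (u i)) v, (hv' i).2]
          ring
        | cast j =>
          simp only [Fin.snoc_castSucc]
          exact hu.perpT i j (fun h0 => hij (by rw [h0]))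

/-- the decomposition into three planes -/
theorem QT.decomp (h : QT T c l) {u : Fin 3 → V6} (hu : Orth T u) (v : V6) :
    pr T (u 0) v + pr T (u 1) v + pr T (u 2) v = v := by
  let φ : V6 →ₗ[K] V6 := LinearMap.pi (Sum.elim (fun i => (sympBilin 3 K).flip (T (u i)))
    (fun i => (sympBilin 3 K) (u i)))
  have hφ1 : ∀ (z : V6) i, φ z (Sum.inl i) = B z (T (u i)) := fun _ _ => rfl
  have hφ2 : ∀ (z : V6) i, φ z (Sum.inr i) = B (u i) z := fun _ _ => rfl
  have hone : ∀ (i : Fin 3) (z : V6), (∀ j, B (pr T (u i) z) (T (u j)) = if i = j then B z (T (u j)) else 0) ∧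
      ∀ j, B (u j) (pr T (u i) z) = if i = j then B (u j) z else 0 := by
    intro i z
    have h1 := pr_perp (hu.ne i) z
    constructor
    · intro j
      split_ifs with hij
      · subst hij
        have := h1.2
        rw [sympForm_sub_left] at this
        exact (sub_eq_zero.1 this).symm
      · rw [pr_apply, sympForm_smul_left, sympForm_add_left, sympForm_smul_left, sympForm_smul_left,
          hu.perpT i j hij, h.sim, hu.perp i j hij]
        ring
    · intro j
      split_ifs with hij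
      · subst hij
        have := h1.1
        rw [sympForm_swap, sympForm_sub_right, neg_sub] at this
        exact sub_eq_zero.1 this
      · rw [pr_apply, sympForm_smul_right, sympForm_add_right, sympForm_smul_right, sympForm_smul_right,
          hu.perp j i (fun h0 => hij h0.symm), hu.perpT j i (fun h0 => hij h0.symm)]
        ring
  have hsum : ∀ z, φ (pr T (u 0) z + pr T (u 1) z + pr T (u 2) z) = φ z := by
    intro z
    funext j
    rcases j with j | j
    · rw [hφ1, hφ1, sympForm_add_left, sympForm_add_left, (hone 0 z).1, (hone 1 z).1, (hone 2 z).1]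
      fin_cases j <;> simp
    · rw [hφ2, hφ2, sympForm_add_right, sympForm_add_right, (hone 0 z).2, (hone 1 z).2, (hone 2 z).2]
      fin_cases j <;> simp
  have hsurj : Function.Surjective φ := by
    intro y
    let f : Fin 3 → V6 := fun i => (B (u i) (T (u i)))⁻¹ • (y (Sum.inl i) • u i + y (Sum.inr i) • T (u i))
    have hf : ∀ i, (∀ j, B (f i) (T (u j)) = if i = j then y (Sum.inl j) else 0) ∧
        ∀ j, B (u j) (f i) = if i = j then y (Sum.inr j) else 0 := by
      intro i
      have hb := hu.ne i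
      constructor
      · intro j
        change B ((B (u i) (T (u i)))⁻¹ • (y (Sum.inl i) • u i + y (Sum.inr i) • T (u i))) (T (u j)) = _
        rw [sympForm_smul_left, sympForm_add_left, sympForm_smul_left, sympForm_smul_left]
        split_ifs with hij
        · subst hij
          rw [sympForm_self]
          field_simp
          ring
        · rw [hu.perpT i j hij, h.sim, hu.perp i j hij]
          ring
      · intro j
        change B (u j) ((B (u i) (T (u i)))⁻¹ • (y (Sum.inl i) • u i + y (Sum.inr i) • T (u i))) = _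
        rw [sympForm_smul_right, sympForm_add_right, sympForm_smul_right, sympForm_smul_right]
        split_ifs with hij
        · subst hij
          rw [sympForm_self]
          field_simp
          ring
        · rw [hu.perp j i (fun h0 => hij h0.symm), hu.perpT j i (fun h0 => hij h0.symm)]
          ring
    refine ⟨f 0 + f 1 + f 2, ?_⟩
    funext j
    rcases j with j | j
    · rw [hφ1, sympForm_add_left, sympForm_add_left, (hf 0).1, (hf 1).1, (hf 2).1]
      fin_cases j <;> simp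
    · rw [hφ2, sympForm_add_right, sympForm_add_right, (hf 0).2, (hf 1).2, (hf 2).2]
      fin_cases j <;> simp
  exact LinearMap.injective_iff_surjective.2 hsurj (hsum v)

end plane

end Cfsg.Agent.H466.O8S
end

-- part: H466/O8S/SpTri
section
set_option linter.all false
open scoped Cfsg.Agent.FastGrp

/-!
# S3938-OPLUS8: the three conjugates of `T` (helper466)
-/

set_option autoImplicit false

namespace Cfsg.Agent.H466.O8S

open Module
open Cfsg.Agent.ClassicalGeometry.SympBasic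

variable {K : Type} [Field K] {T : Module.End K (Fin 3 ⊕ Fin 3 → K)} {c l : K}

local notation "V6" => (Fin 3 ⊕ Fin 3 → K)

local notation "B" => sympForm 3 K

theorem QT.pr_pr (h : QT T c l) {n : ℕ} {u : Fin n → V6} (hu : Orth T u) {i j : Fin n} (hij : i ≠ j) (v : V6) :
    pr T (u i) (pr T (u j) v) = 0 := by
  apply pr_eq_zero
  · rw [pr_apply, sympForm_smul_right, sympForm_add_right, sympForm_smul_right, sympForm_smul_right,
      hu.perp i j hij, hu.perpT i j hij]
    ring
  · rw [pr_apply, sympForm_smul_left, sympForm_add_left, sympForm_smul_left, sympForm_smul_left,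
      hu.perpT j i hij.symm, h.sim, hu.perp j i hij.symm]
    ring

/-- the product of the three conjugates -/
theorem QT.triple (h : QT T c l) {u : Fin 3 → V6} (hu : Orth T u) (v : V6) :
    Tc T c (u 0) (Tc T c (u 1) (Tc T c (u 2) v)) = l • T v := by
  have hd := h.decomp hu v
  obtain ⟨v0, hv0⟩ : ∃ v0, v0 = pr T (u 0) v := ⟨_, rfl⟩
  obtain ⟨v1, hv1⟩ : ∃ v1, v1 = pr T (u 1) v := ⟨_, rfl⟩
  obtain ⟨v2, hv2⟩ : ∃ v2, v2 = pr T (u 2) v := ⟨_, rfl⟩
  rw [← hv0, ← hv1, ← hv2] at hd
  have h12 : pr T (u 1) v2 = 0 := by rw [hv2]; exact h.pr_pr hu (by decide) v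
  have h02 : pr T (u 0) v2 = 0 := by rw [hv2]; exact h.pr_pr hu (by decide) v
  have h01 : pr T (u 0) v1 = 0 := by rw [hv1]; exact h.pr_pr hu (by decide) v
  have e2 : Tc T c (u 2) v = T v + (c • v2 - T v2 - T v2) := by rw [Tc_apply, ← hv2]
  have e1 : pr T (u 1) (Tc T c (u 2) v) = T v1 := by
    rw [e2]
    simp only [map_add, map_sub, map_smul, h.pr_comm, h12, ← hv1, map_zero, smul_zero, sub_zero, add_zero]
  have e0 : pr T (u 0) (Tc T c (u 1) (Tc T c (u 2) v)) = T (T v0) := by
    rw [Tc_apply, e1, e2]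
    simp only [map_add, map_sub, map_smul, h.pr_comm, h02, h01, ← hv0, map_zero, smul_zero, sub_zero, add_zero]
  rw [Tc_apply, e0, Tc_apply, e1, e2, ← hd]
  simp only [map_add, map_sub, map_smul, h.sq]
  module

theorem QT.exists_norm [Fintype K] (h : QT T c l) : ∃ x y : K, x * x + c * x * y + l * y * y = -1 := by
  by_cases h2 : (2 : K) = 0
  · refine ⟨1, 0, ?_⟩
    linear_combination h2
  · have hδ : l - c * c / 4 ≠ 0 := by
      intro h0
      have h4 : (4 : K) ≠ 0 := by
        intro h4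
        have : (2 : K) * 2 = 0 := by linear_combination h4
        rcases mul_eq_zero.1 this with h | h <;> exact h2 h
      have hl : 4 * l = c * c := by
        field_simp at h0
        linear_combination h0
      obtain ⟨v, hv⟩ := exists_ne (0 : V6)
      refine h.inj _ (h.inj v hv) ?_
      simp only [map_add, map_sub, map_smul, h.sq]
      have : (c * c) • v - (4 * l) • v = 0 := by rw [hl, sub_self]
      rw [← this]
      module
    have hodd : Fintype.card K % 2 = 1 := FiniteField.odd_card_of_char_ne_two (by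
      intro h0
      apply h2
      have := ringChar.Nat.cast_ringChar (R := K)
      rw [h0] at this
      exact_mod_cast this)
    obtain ⟨s, y, hsy⟩ := FiniteField.exists_root_sum_quadratic
      (f := Polynomial.C (1 : K) * Polynomial.X ^ 2 + Polynomial.C 0 * Polynomial.X + Polynomial.C 1)
      (g := Polynomial.C (l - c * c / 4) * Polynomial.X ^ 2 + Polynomial.C 0 * Polynomial.X + Polynomial.C 0)
      (Polynomial.degree_quadratic one_ne_zero) (Polynomial.degree_quadratic hδ) hodd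
    simp only [Polynomial.eval_add, Polynomial.eval_mul, Polynomial.eval_C, Polynomial.eval_pow, Polynomial.eval_X] at hsy
    obtain ⟨c', hc'⟩ : ∃ c', c' = c / 2 := ⟨_, rfl⟩
    have e1 : c = 2 * c' := by rw [hc', mul_div_cancel₀ _ h2]
    have h4 : (4 : K) ≠ 0 := by
      intro h4
      have : (2 : K) * 2 = 0 := by linear_combination h4
      rcases mul_eq_zero.1 this with h | h <;> exact h2 h
    have e2 : c * c / 4 = c' * c' := by
      rw [div_eq_iff h4, e1]
      ring
    rw [e2] at hsy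
    refine ⟨s - c' * y, y, ?_⟩
    rw [e1]
    linear_combination hsy

end Cfsg.Agent.H466.O8S
end

-- part: H466/O8S/SpConj
section
prune_inst 0xc5706044004202080000a58613201c42860004b0004b04008ca000420c8088624d802e60b03025178a2080854031004001000190024000000e000400011c00a08083d2043340a00006001f000180000000000000000000000000000000000000000000000
set_option linter.all false
open scoped Cfsg.Agent.FastGrp

/-!
# S3938-OPLUS8: O6 (`sp6_conj`), socle `PSp₆(q)`, all `q` (helper466)
-/

set_option autoImplicit false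

namespace Cfsg.Agent.H466.O8S

open Module Cfsg
open Cfsg.Agent.H436 (Prim)
open Cfsg.Agent.H823.O8S (RW RK mt mt_dvd)
open Cfsg.Agent.ClassicalGeometry.SympBasic Cfsg.Agent.ClassicalGeometry.SympAutSemi
  Cfsg.Agent.ClassicalGeometry.SympGamma

/-! ### numbers -/

section num

variable {p a r k : ℕ}

theorem RW_coprime (h : RW p a r k) : Nat.Coprime (a * (p ^ a - 1)) (r ^ k) := by
  have hr := h.prim.prime
  apply Nat.Coprime.pow_right
  rw [Nat.coprime_comm, hr.coprime_iff_not_dvd]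
  intro h1
  have ha := h.ha
  rcases hr.dvd_mul.1 h1 with h2 | h2
  · have h3 := Nat.le_of_dvd (by omega) h2
    have h4 : r ∣ p ^ (r - 1) - 1 := by
      have : Fact r.Prime := ⟨hr⟩
      have h5 : (p : ZMod r) ≠ 0 := by
        intro h0
        exact h.prim.not_dvd ((ZMod.natCast_eq_zero_iff p r).1 h0)
      have h6 := ZMod.pow_card_sub_one_eq_one h5
      have h7 : ((p ^ (r - 1) - 1 : ℕ) : ZMod r) = 0 := by
        rw [Nat.cast_sub (Nat.one_le_pow _ _ h.hp.pos), Nat.cast_pow, h6]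
        simp
      exact (ZMod.natCast_eq_zero_iff _ _).1 h7
    have h5 := (h.prim.dvd_iff _).1 h4
    have h6 := Nat.le_of_dvd (by have := hr.two_le; omega) h5
    omega
  · have h3 := (h.prim.dvd_iff a).1 h2
    have h4 := Nat.le_of_dvd (by omega) h3
    omega

theorem RW_exists (h : RW p a r k) : ∃ N : ℕ, N ≡ 1 [MOD r ^ k] ∧ a * (p ^ a - 1) ∣ N := by
  obtain ⟨N, hN1, hN2⟩ := Nat.chineseRemainder (RW_coprime h) 0 1
  exact ⟨N, hN2, (Nat.modEq_zero_iff_dvd).1 hN1⟩

end num

variable {K : Type} [Field K]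

theorem scal_pow (s : Kˣ) (n : ℕ) : scal 3 K s ^ n = scal 3 K (s ^ n) := by
  induction n with
  | zero =>
    ext1 v
    rw [pow_zero, pow_zero, Equiv.Perm.one_apply, scal_apply, Units.val_one, one_smul]
  | succ n ih =>
    rw [pow_succ, ih]
    ext1 v
    rw [Equiv.Perm.mul_apply, scal_apply, scal_apply, scal_apply, smul_smul, pow_succ, Units.val_mul]

theorem scal_eq_one {s : Kˣ} (h : scal 3 K s = 1) : s = 1 := by
  have h1 := congrFun (DFunLike.congr_fun h (Pi.single (Sum.inl 0) 1)) (Sum.inl 0)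
  rw [scal_apply, Equiv.Perm.one_apply, Pi.smul_apply, Pi.single_eq_same, smul_eq_mul, mul_one] at h1
  exact Units.ext h1

theorem Psi_eq_one {g : semiSim 3 K} {s : Kˣ} (h : g.1 = scal 3 K s) : Psi 3 K g = 1 := by
  have h1 : scal 3 K s ∈ semiSim 3 K := h ▸ g.2
  have h2 : g = ⟨scal 3 K s, h1⟩ := Subtype.ext h
  rw [h2, Psi_scal]

/-- the additive map of a semisimilitude -/
def addOf (g : semiSim 3 K) : (Fin 3 ⊕ Fin 3 → K) →+ (Fin 3 ⊕ Fin 3 → K) where
  toFun := g.1
  map_add' := by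
    obtain ⟨g, φ, l, hl, hg⟩ := g
    exact hg.1
  map_zero' := by
    obtain ⟨g, φ, l, hl, hg⟩ := g
    have := hg.1 0 0
    rw [add_zero] at this
    exact left_eq_add.1 this

/-- multiplication by a scalar as an additive map -/
def sAdd (s : K) : (Fin 3 ⊕ Fin 3 → K) →+ (Fin 3 ⊕ Fin 3 → K) := DistribSMul.toAddMonoidHom _ s

theorem recog6 [Finite K] (α : MulAut (PSp 3 K)) : ∃ g : semiSim 3 K, Psi 3 K g = α :=
  ClassicalGeometry.SympAutExists.exists_semi (by norm_num) α
    (ClassicalGeometry.SympAutOddA.recog (by norm_num) (Or.inl le_rfl) α)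

/-- **a linear irreducible representative of `x`** -/
theorem exists_X [Fintype K] {p a r k : ℕ} (hK : Fintype.card K = p ^ a) (h : RW p a r k) {α : MulAut (PSp 3 K)}
    (hα : orderOf α = r ^ k) : ∃ X : semiSim 3 K, Psi 3 K X = α ∧ (∀ (s : K) v, X.1 (s • v) = s • X.1 v) ∧
      X ^ r ^ k = 1 ∧ (∃ v, X.1 v ≠ v) ∧
      ∀ W : AddSubgroup (Fin 3 ⊕ Fin 3 → K), (∀ v ∈ W, addOf X v ∈ W) → W = ⊥ ∨ W = ⊤ := by
  have : Fact p.Prime := ⟨h.hp⟩
  obtain ⟨X₀, hX₀⟩ := recog6 α
  obtain ⟨N, hN1, hN2⟩ := RW_exists h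
  obtain ⟨φ, l, hl, hs⟩ := X₀.2
  have hcard := Lib.FieldAutCard.card_ringAut h.ha hK
  have hφ : φ ^ N = 1 := by
    have : Finite (K ≃+* K) := Nat.finite_of_card_ne_zero (by rw [hcard]; have := h.ha; omega)
    have h1 : φ ^ a = 1 := by rw [← hcard]; exact pow_card_eq_one'
    obtain ⟨m, hm⟩ := dvd_trans (Dvd.intro _ rfl) hN2
    rw [hm, pow_mul, h1, one_pow]
  have h1 : Psi 3 K (X₀ ^ r ^ k) = 1 := by rw [map_pow, hX₀, ← hα, pow_orderOf_eq_one]
  obtain ⟨s, hs'⟩ := exists_scal_of_Psi_eq_one (by norm_num) _ h1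
  have hsN : s ^ N = 1 := by
    obtain ⟨m, hm⟩ := dvd_trans (Dvd.intro_left _ rfl) hN2
    have h2 : s ^ (p ^ a - 1) = 1 := by
      apply Units.ext
      rw [Units.val_pow_eq_pow_val, ← hK, FiniteField.pow_card_sub_one_eq_one _ s.ne_zero, Units.val_one]
    rw [hm, pow_mul, h2, one_pow]
  have hXk : (X₀ ^ N) ^ r ^ k = 1 := by
    rw [← pow_mul, mul_comm, pow_mul]
    apply Subtype.ext
    rw [SubgroupClass.coe_pow, hs', scal_pow, hsN]
    ext1 v
    rw [scal_apply, Units.val_one, one_smul]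
    rfl
  have hΨ : Psi 3 K (X₀ ^ N) = α := by
    rw [map_pow, hX₀]
    conv_rhs => rw [← pow_one α]
    rw [pow_eq_pow_iff_modEq, hα]
    exact hN1
  have hlin : ∀ (s : K) v, (X₀ ^ N).1 (s • v) = s • (X₀ ^ N).1 v := by
    intro s v
    have h2 := (H966.PSpField.isSemi_pow hs N).2.1 s v
    rw [hφ] at h2
    rw [SubgroupClass.coe_pow]
    exact h2
  have hne : ∃ v, (X₀ ^ N).1 v ≠ v := by
    by_contra hcon
    push Not at hcon
    have h2 : X₀ ^ N = 1 := Subtype.ext (Equiv.ext hcon)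
    rw [h2, map_one] at hΨ
    rw [← hΨ, orderOf_one] at hα
    have h3 : 1 < r ^ k := Nat.one_lt_pow (by have := h.hk; omega) h.prim.prime.one_lt
    omega
  refine ⟨X₀ ^ N, hΨ, hlin, hXk, hne, fun W hW => ?_⟩
  have ha := h.ha
  refine irr_add (p := p) (n := 6 * a) (r := r) (k := k) h.hp (by omega) h.prim ?_ ?_ hne hW
  · rw [Nat.card_eq_fintype_card, Fintype.card_fun, hK, ← pow_mul, Fintype.card_sum, Fintype.card_fin, mul_comm]
  · intro v
    have h2 : ∀ (n : ℕ) v, ((addOf (X₀ ^ N))^[n]) v = ((X₀ ^ N) ^ n).1 v := by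
      intro n
      induction n with
      | zero => intro v; rfl
      | succ n ih =>
        intro v
        rw [Function.iterate_succ_apply', ih, pow_succ']
        rfl
    rw [h2, hXk]
    rfl

/-- **the three conjugates in the automorphism group** -/
theorem core [Fintype K] {p a r k : ℕ} (hK : Fintype.card K = p ^ a) (h : RW p a r k) {α β : MulAut (PSp 3 K)}
    (hα : orderOf α = r ^ k) (hβ : orderOf β = mt (p ^ a)) (hc : α * β = β * α) :
    ∃ w : Fin 3 → PSp 3 K, (∀ i, β * (MulAut.conj (w i) * β * (MulAut.conj (w i))⁻¹) =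
        (MulAut.conj (w i) * β * (MulAut.conj (w i))⁻¹) * β) ∧
      (∀ i (n : ℕ), MulAut.conj (w i) * β * (MulAut.conj (w i))⁻¹ ≠ β ^ n) ∧
      (MulAut.conj (w 0) * β * (MulAut.conj (w 0))⁻¹) * (MulAut.conj (w 1) * β * (MulAut.conj (w 1))⁻¹) *
        (MulAut.conj (w 2) * β * (MulAut.conj (w 2))⁻¹) = β := by
  have hq4 := h.four
  obtain ⟨X, hX, hXlin, hXk, -, hI⟩ := exists_X hK h hα
  obtain ⟨T₀, hT₀⟩ := recog6 β
  -- `T₀` commutes with `X`
  have hTX : ∀ v, T₀.1 (X.1 v) = X.1 (T₀.1 v) := by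
    have h1 : Psi 3 K (T₀ * X * T₀⁻¹ * X⁻¹) = 1 := by
      rw [map_mul, map_mul, map_mul, map_inv, map_inv, hX, hT₀, ← hc]
      group
    obtain ⟨s, hs⟩ := exists_scal_of_Psi_eq_one (by norm_num) _ h1
    have h2 : (T₀ * X * T₀⁻¹ : semiSim 3 K).1 = scal 3 K s * X.1 := by
      rw [← hs, ← Subgroup.coe_mul, inv_mul_cancel_right]
    have hcomm : Commute (scal 3 K s) X.1 := by
      refine Equiv.ext fun v => ?_
      change (s : K) • X.1 v = X.1 ((s : K) • v)
      rw [hXlin]
    have h3 : (T₀ * X * T₀⁻¹) ^ r ^ k = 1 := by rw [conj_pow, hXk, mul_one, mul_inv_cancel]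
    have h4 : scal 3 K (s ^ r ^ k) = 1 := by
      have h5 := congrArg Subtype.val h3
      rw [SubgroupClass.coe_pow, h2, hcomm.mul_pow, ← SubgroupClass.coe_pow, hXk] at h5
      rw [← scal_pow]
      exact h5
    have h5 := scal_eq_one h4
    have h6 : s ^ (p ^ a - 1) = 1 := by
      apply Units.ext
      rw [Units.val_pow_eq_pow_val, ← hK, FiniteField.pow_card_sub_one_eq_one _ s.ne_zero, Units.val_one]
    have h7 : Nat.gcd (r ^ k) (p ^ a - 1) = 1 := (RW_coprime h).coprime_mul_left.symm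
    have h8 : s = 1 := by
      have h9 := pow_gcd_eq_one.2 ⟨h5, h6⟩
      rwa [h7, pow_one] at h9
    have h9 : (T₀ * X * T₀⁻¹ : semiSim 3 K) = X := by
      apply Subtype.ext
      rw [h2, h8]
      ext1 v
      rw [Equiv.Perm.mul_apply, scal_apply, Units.val_one, one_smul]
    have h10 := mul_inv_eq_iff_eq_mul.1 h9
    exact fun v => DFunLike.congr_fun (congrArg Subtype.val h10) v
  -- `T₀` is linear
  have hlin : ∀ (s : K) v, T₀.1 (s • v) = s • T₀.1 v := fun s v =>
    comm_of_comm hI (f := addOf T₀) (g := sAdd s) hTX (fun v => (hXlin s v).symm) v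
  obtain ⟨φ, l, hl, hs⟩ := T₀.2
  obtain ⟨v0, hv0⟩ := exists_ne (0 : Fin 3 ⊕ Fin 3 → K)
  have hT0 : T₀.1 0 = 0 := map_zero (addOf T₀)
  have hB : ∀ u v, sympForm 3 K (T₀.1 u) (T₀.1 v) = l * sympForm 3 K u v := by
    have h1 : ∀ s : K, φ s = s := by
      intro s
      have h2 : (φ s - s) • T₀.1 v0 = 0 := by rw [sub_smul, ← hs.2.1, hlin, sub_self]
      exact sub_eq_zero.1 ((smul_eq_zero.1 h2).resolve_right (fun h3 => hv0 (T₀.1.injective (h3.trans hT0.symm))))
    intro u v
    rw [hs.2.2, h1]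
  let T : Module.End K (Fin 3 ⊕ Fin 3 → K) :=
    { toFun := T₀.1
      map_add' := hs.1
      map_smul' := hlin }
  have hT : ∀ v, T v = T₀.1 v := fun _ => rfl
  have hTpow : ∀ (n : ℕ) v, (T ^ n) v = (T₀ ^ n).1 v := by
    intro n
    induction n with
    | zero => intro v; rfl
    | succ n ih =>
      intro v
      rw [pow_succ', Module.End.mul_apply, ih, pow_succ']
      rfl
  have hmt := h.mt_three
  have hI' : ∀ f : Module.End K (Fin 3 ⊕ Fin 3 → K), (∀ v, f (addOf X v) = addOf X (f v)) → ∀ v, v ≠ 0 → f v = 0 → f = 0 := by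
    intro f hf v hv hfv
    have h1 := eq_zero_of_apply hI (f := f.toAddMonoidHom) hf hv hfv
    exact LinearMap.ext fun w => DFunLike.congr_fun h1 w
  obtain ⟨c, hQ⟩ : ∃ c, QT T c l := by
    refine quad h.hp hK (X := addOf X) (fun s v => hXlin s v) hI' hTX hl hB ?_ ?_
    · have h1 : Psi 3 K (T₀ ^ (Fintype.card K + 1)) = 1 := by
        obtain ⟨m, hm⟩ := mt_dvd (p ^ a) (by omega)
        rw [map_pow, hT₀, hK, hm, pow_mul, ← hβ, pow_orderOf_eq_one, one_pow]
      obtain ⟨s, hs⟩ := exists_scal_of_Psi_eq_one (by norm_num) _ h1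
      refine ⟨s, LinearMap.ext fun v => ?_⟩
      rw [hTpow, hs, scal_apply, LinearMap.smul_apply, Module.End.one_apply]
    · intro e
      by_contra hcon
      push Not at hcon
      have he : e ≠ 0 := by
        rintro rfl
        have h1 := hcon v0
        rw [zero_smul, hT, hT] at h1
        exact hv0 (T₀.1.injective ((T₀.1.injective (h1.trans hT0.symm)).trans hT0.symm))
      have h1 : (T₀ ^ 2).1 = scal 3 K (Units.mk0 e he) := by
        ext1 v
        rw [scal_apply, Units.val_mk0, ← hcon v, ← hTpow, pow_two]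
        rfl
      have h2 := Psi_eq_one h1
      rw [map_pow, hT₀] at h2
      have h3 := orderOf_dvd_of_pow_eq_one h2
      rw [hβ] at h3
      have h4 := Nat.le_of_dvd (by norm_num) h3
      omega
  obtain ⟨u, hu⟩ := hQ.exists_orth 3 le_rfl
  obtain ⟨x, y, hxy⟩ := hQ.exists_norm
  -- the conjugating elements
  have hA : ∀ i, LinearMap.toMatrix' (wm T c l x y (u i)) ∈ Matrix.symplecticGroup (Fin 3) K := by
    intro i
    rw [mem_symplecticGroup_iff]
    intro v v'
    rw [LinearMap.toMatrix'_mulVec, LinearMap.toMatrix'_mulVec, wm_iso hxy (hu.ne i)]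
  let A : Fin 3 → Matrix.symplecticGroup (Fin 3) K := fun i => ⟨_, hA i⟩
  have hAv : ∀ i v, rho 3 K (A i) v = wm T c l x y (u i) v := fun i v => by
    rw [rho_apply]
    exact LinearMap.toMatrix'_mulVec _ _
  have hAm : ∀ i, rho 3 K (A i) ∈ semiSim 3 K := fun i => ⟨RingEquiv.refl K, 1, one_ne_zero, isSemi_rho (A i)⟩
  let g : Fin 3 → semiSim 3 K := fun i => ⟨rho 3 K (A i), hAm i⟩
  have hg : ∀ i, Psi 3 K (g i) = MulAut.conj (QuotientGroup.mk (A i)) := fun i => H966.PSpAut.Psi_rho (A i) (hAm i)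
  have hS : ∀ i v, (g i * T₀ * (g i)⁻¹).1 v = Tc T c (u i) v := by
    intro i v
    obtain ⟨v', rfl⟩ := (g i).1.surjective v
    have h1 : (g i * T₀ * (g i)⁻¹).1 ((g i).1 v') = (g i).1 (T₀.1 v') := by
      have h2 : (g i * T₀ * (g i)⁻¹) * g i = g i * T₀ := inv_mul_cancel_right _ _
      exact DFunLike.congr_fun (congrArg Subtype.val h2) v'
    rw [h1]
    change rho 3 K (A i) (T v') = Tc T c (u i) (rho 3 K (A i) v')
    rw [hAv, hAv, hQ.wm_T x y (hu.ne i)]
  have hΨ : ∀ i, MulAut.conj (QuotientGroup.mk (A i) : PSp 3 K) * β * (MulAut.conj (QuotientGroup.mk (A i) : PSp 3 K))⁻¹ =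
      Psi 3 K (g i * T₀ * (g i)⁻¹) := by
    intro i
    rw [map_mul, map_mul, map_inv, hg, hT₀]
  refine ⟨fun i => QuotientGroup.mk (A i), fun i => ?_, fun i n => ?_, ?_⟩
  · rw [hΨ, ← hT₀, ← map_mul, ← map_mul]
    congr 1
    apply Subtype.ext
    ext1 v
    change T ((g i * T₀ * (g i)⁻¹).1 v) = (g i * T₀ * (g i)⁻¹).1 (T v)
    rw [hS, hS, hQ.Tc_comm]
  · rw [hΨ, ← hT₀, ← map_pow]
    intro h0
    have h1 : Psi 3 K ((g i * T₀ * (g i)⁻¹) * (T₀ ^ n)⁻¹) = 1 := by
      rw [map_mul, map_inv, h0, mul_inv_cancel]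
    obtain ⟨μ, hμ⟩ := exists_scal_of_Psi_eq_one (by norm_num) _ h1
    have h2 : ∀ v, Tc T c (u i) v = (μ : K) • (T ^ n) v := by
      intro v
      rw [← hS, hTpow]
      have h3 : ((g i * T₀ * (g i)⁻¹) * (T₀ ^ n)⁻¹) * T₀ ^ n = g i * T₀ * (g i)⁻¹ := inv_mul_cancel_right _ _
      have h4 := DFunLike.congr_fun (congrArg Subtype.val h3) v
      rw [← h4]
      change (((g i * T₀ * (g i)⁻¹) * (T₀ ^ n)⁻¹ : semiSim 3 K).1) ((T₀ ^ n).1 v) = _
      rw [hμ, scal_apply]
    obtain ⟨j, hj⟩ : ∃ j, j ≠ i := exists_ne i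
    have hpowX : ∀ v, (T ^ n) (addOf X v) = addOf X ((T ^ n) v) := by
      have : ∀ (n : ℕ) v, (T ^ n) (addOf X v) = addOf X ((T ^ n) v) := by
        intro n
        induction n with
        | zero => intro v; rfl
        | succ n ih =>
          intro v
          rw [pow_succ', Module.End.mul_apply, Module.End.mul_apply, ih]
          exact hTX _
      exact this n
    have hXs : ∀ (s : K) v, addOf X (s • v) = s • addOf X v := hXlin
    have hTX' : ∀ v, T (addOf X v) = addOf X (T v) := hTX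
    have hune : ∀ i, u i ≠ 0 := by
      intro i h0
      apply hu.ne i
      rw [h0, sympForm_zero_left]
    have h3 := hI' (c • (1 : Module.End K (Fin 3 ⊕ Fin 3 → K)) - T - (μ : K) • T ^ n) (fun v => by
      simp only [LinearMap.sub_apply, LinearMap.smul_apply, Module.End.one_apply, hpowX, hTX', map_sub, hXs]) (u i)
      (hune i) (by
        rw [LinearMap.sub_apply, LinearMap.sub_apply, LinearMap.smul_apply, LinearMap.smul_apply, Module.End.one_apply,
          ← h2, Tc_self (hu.ne i), sub_self])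
    have h4 := hI' (T - (μ : K) • T ^ n) (fun v => by
      simp only [LinearMap.sub_apply, LinearMap.smul_apply, hpowX, hTX', map_sub, hXs]) (u j)
      (hune j) (by
        rw [LinearMap.sub_apply, LinearMap.smul_apply, ← h2, Tc_perp (hu.perp i j hj.symm) (hu.perpT j i hj), sub_self])
    apply hQ.inj v0 hv0
    have h5 := LinearMap.congr_fun h3 v0
    have h6 := LinearMap.congr_fun h4 v0
    rw [LinearMap.sub_apply, LinearMap.sub_apply, LinearMap.smul_apply, LinearMap.smul_apply, Module.End.one_apply,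
      LinearMap.zero_apply] at h5
    rw [LinearMap.sub_apply, LinearMap.smul_apply, LinearMap.zero_apply] at h6
    have h7 : T v0 + T v0 - c • v0 = (T v0 - (μ : K) • (T ^ n) v0) - (c • v0 - T v0 - (μ : K) • (T ^ n) v0) := by abel
    rw [h7, h5, h6, sub_self]
  · simp only [hΨ]
    rw [← map_mul, ← map_mul]
    have h1 : ((g 0 * T₀ * (g 0)⁻¹) * (g 1 * T₀ * (g 1)⁻¹) * (g 2 * T₀ * (g 2)⁻¹) * T₀⁻¹ : semiSim 3 K).1 =
        scal 3 K (Units.mk0 l hl) := by
      ext1 v
      obtain ⟨v', rfl⟩ := T₀.1.surjective v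
      have h2 : ((g 0 * T₀ * (g 0)⁻¹) * (g 1 * T₀ * (g 1)⁻¹) * (g 2 * T₀ * (g 2)⁻¹) * T₀⁻¹) * T₀ =
        (g 0 * T₀ * (g 0)⁻¹) * (g 1 * T₀ * (g 1)⁻¹) * (g 2 * T₀ * (g 2)⁻¹) := inv_mul_cancel_right _ _
      have h3 := DFunLike.congr_fun (congrArg Subtype.val h2) v'
      have h4 : ((g 0 * T₀ * (g 0)⁻¹) * (g 1 * T₀ * (g 1)⁻¹) * (g 2 * T₀ * (g 2)⁻¹) * T₀⁻¹ : semiSim 3 K).1 (T₀.1 v') =
        (g 0 * T₀ * (g 0)⁻¹).1 ((g 1 * T₀ * (g 1)⁻¹).1 ((g 2 * T₀ * (g 2)⁻¹).1 v')) := h3
      rw [h4, hS, hS, hS, hQ.triple hu, scal_apply, Units.val_mk0]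
      rfl
    have h2 := Psi_eq_one h1
    rw [map_mul, map_inv, mul_inv_eq_one] at h2
    rw [h2, hT₀]

/-! ### the group -/

section grp

variable {p a r k : ℕ} {R : Type} [Group R] [Finite R] (S : Subgroup R) [S.Normal]

/-- conjugation on the socle, transported to `PSp` -/
noncomputable def kap (e : S ≃* PSp 3 K) : R →* MulAut (PSp 3 K) :=
  (MulAut.congr e).toMonoidHom.comp MulAut.conjNormal

omit [Finite R] in
theorem kap_apply (e : S ≃* PSp 3 K) (g : R) (s : S) : kap S e g (e s) = e (MulAut.conjNormal g s) := by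
  change e (MulAut.conjNormal g (e.symm (e s))) = _
  rw [e.symm_apply_apply]

omit [Finite R] in
theorem kap_injective (hC : Subgroup.centralizer (S : Set R) = ⊥) (e : S ≃* PSp 3 K) : Function.Injective (kap S e) := by
  rw [injective_iff_map_eq_one]
  intro g hg
  rw [← Subgroup.mem_bot, ← hC, Subgroup.mem_centralizer_iff]
  intro s hs
  have h1 := kap_apply S e g ⟨s, hs⟩
  rw [hg, MulAut.one_apply] at h1
  have h2 := congrArg Subtype.val (e.injective h1)
  rw [MulAut.conjNormal_apply] at h2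
  exact (mul_inv_eq_iff_eq_mul.1 h2.symm).symm

omit [Finite R] in
theorem kap_coe (e : S ≃* PSp 3 K) (s : S) : kap S e (s : R) = MulAut.conj (e s) := by
  ext y
  obtain ⟨y, rfl⟩ := e.surjective y
  rw [kap_apply, MulAut.conj_apply, ← map_mul, ← map_inv, ← map_mul]
  congr 1

/-- **O6, weak hypotheses, all `q ≥ 4`** -/
theorem sp6_conj_w [Fintype K] (hC : Subgroup.centralizer (S : Set R) = ⊥) {x t : R} (hx : orderOf x = r ^ k)
    (ht : orderOf t = mt (p ^ a)) (hxt : x * t = t * x) (hK : Fintype.card K = p ^ a) (h : RW p a r k) (e : S ≃* PSp 3 K) :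
    ∃ t₁ t₂ t₃ : R, IsConj t t₁ ∧ IsConj t t₂ ∧ IsConj t t₃ ∧ t * t₁ = t₁ * t ∧ t * t₂ = t₂ * t ∧ t * t₃ = t₃ * t ∧
      t₁ ∉ Subgroup.zpowers t ∧ t₂ ∉ Subgroup.zpowers t ∧ t₃ ∉ Subgroup.zpowers t ∧ t₁ * t₂ * t₃ = t := by
  have hinj := kap_injective S hC e
  obtain ⟨w, h1, h2, h3⟩ := core hK h (α := kap S e x) (β := kap S e t)
    (by rw [orderOf_injective _ hinj, hx]) (by rw [orderOf_injective _ hinj, ht]) (by rw [← map_mul, hxt, map_mul])
  have hk : ∀ i, kap S e (((e.symm (w i) : S) : R) * t * ((e.symm (w i) : S) : R)⁻¹) =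
      MulAut.conj (w i) * kap S e t * (MulAut.conj (w i))⁻¹ := by
    intro i
    rw [map_mul, map_mul, map_inv, kap_coe, e.apply_symm_apply]
  have hcomm : ∀ i, t * (((e.symm (w i) : S) : R) * t * ((e.symm (w i) : S) : R)⁻¹) =
      (((e.symm (w i) : S) : R) * t * ((e.symm (w i) : S) : R)⁻¹) * t := by
    intro i
    apply hinj
    rw [map_mul, map_mul (kap S e) _ t, hk, h1]
  have hnot : ∀ i, ((e.symm (w i) : S) : R) * t * ((e.symm (w i) : S) : R)⁻¹ ∉ Subgroup.zpowers t := by
    intro i hi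
    rw [← mem_powers_iff_mem_zpowers] at hi
    obtain ⟨n, hn⟩ := hi
    apply h2 i n
    rw [← hk, ← map_pow]
    exact congrArg _ hn.symm
  refine ⟨_, _, _, isConj_iff.2 ⟨((e.symm (w 0) : S) : R), rfl⟩, isConj_iff.2 ⟨((e.symm (w 1) : S) : R), rfl⟩,
    isConj_iff.2 ⟨((e.symm (w 2) : S) : R), rfl⟩, hcomm 0, hcomm 1, hcomm 2, hnot 0, hnot 1, hnot 2, ?_⟩
  apply hinj
  rw [map_mul, map_mul, hk, hk, hk, h3]

/-- **O6 = `sp6_conj`** -/
theorem sp6_conj [Fintype K] (hC : Subgroup.centralizer (S : Set R) = ⊥) {x t : R} (hx : orderOf x = r ^ k)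
    (ht : orderOf t = mt (p ^ a)) (hxt : x * t = t * x) (hK : Fintype.card K = p ^ a) (h : RK p a r k) (e : S ≃* PSp 3 K) :
    ∃ t₁ t₂ t₃ : R, IsConj t t₁ ∧ IsConj t t₂ ∧ IsConj t t₃ ∧ t * t₁ = t₁ * t ∧ t * t₂ = t₂ * t ∧ t * t₃ = t₃ * t ∧
      t₁ ∉ Subgroup.zpowers t ∧ t₂ ∉ Subgroup.zpowers t ∧ t₃ ∉ Subgroup.zpowers t ∧ t₁ * t₂ * t₃ = t :=
  sp6_conj_w S hC hx ht hxt hK h.weak e

end grp

end Cfsg.Agent.H466.O8S
end

-- part: H424/Spr/O8/HhAll
section
set_option linter.all false
open scoped Cfsg.Agent.FastGrp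

/-!
# S3938-OPLUS8, (O12) for helper823's plan (helper424)
-/

set_option autoImplicit false
set_option linter.unusedSectionVars false

namespace Cfsg.Agent.H424.O8L

open Module QuadraticMap Cfsg Cfsg.Geo
open Cfsg.Agent.LieClassical.OrthCore Cfsg.Agent.LieClassical.OrthFinite
open Cfsg.Agent.LieClassical.OrthTrans (Good)
open Cfsg.Agent.H951 (fx cm Inv mem_fx mem_cm)
open Cfsg.Agent.H884.El (lin)
open Cfsg.Agent.H823.O8S (RK Wit Two Fld U₁ U₂ NJ SW)
open Cfsg.Agent.H708.O8 (I8 T8)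
open scoped MatrixGroups Matrix Pointwise

variable {F : Type} [Field F] [Fintype F] {p a r k : ℕ} {x t : GL I8 F} {J J' : Module.End F (I8 → F)} {c d : F}

theorem fj_of {J : Module.End F (I8 → F)} (f : Fld J c d) (cx : J * lin x = lin x * J) (ct : J * lin t = lin t * J) :
    Fj (LieClassical.OrthForms.plusForm 4 F) x t J c d where
  sq v := by
    have h := congrArg (fun T : Module.End F (I8 → F) => T v) f.sq
    exact h
  irr := f.irr
  sim v := f.sim v
  cx v := congrArg (fun T : Module.End F (I8 → F) => T v) cx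
  ct v := congrArg (fun T : Module.End F (I8 → F) => T v) ct

theorem cf_of (hF : Nat.card F = p ^ a) (h : RK p a r k) (w : Wit x t (r ^ k)) :
    Cf (LieClassical.OrthForms.plusForm 4 F) x t (r ^ k) := by
  have hodd : Odd (r ^ k) := (Nat.odd_iff.2 (h.prim.odd (by have := h.ha; omega))).pow
  have hcop : (r ^ k).Coprime (Nat.card F) := by
    rw [hF]
    exact Nat.Coprime.pow _ _ ((Nat.Prime.coprime_iff_not_dvd h.prim.prime).2 h.prim.not_dvd)
  have hpow : x ^ (r ^ k) = 1 := by
    rw [← w.x_ord]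
    exact pow_orderOf_eq_one x
  refine
    { good := good_of_finite (LieClassical.OrthForms.nondeg_plusForm 4 F) (by
        rw [Module.finrank_fintype_fun_eq_card]
        simp)
      four := by rw [hF]; exact h.four
      dim := by simp
      odd := hodd
      cop := hcop
      cop' := ?_
      x_mem := w.x_mem
      t_mem := w.t_mem
      x_pow := hpow
      x_dim := w.x_dim
      t_fix := ?_
      t_ne := ?_ }
  · intro i hi hi6
    apply Nat.Coprime.pow_left
    rw [Nat.Prime.coprime_iff_not_dvd h.prim.prime, hF, ← pow_mul]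
    apply h.prim.not_dvd_sub
    intro hd
    have h1 := Nat.le_of_dvd (by have := h.ha; positivity) hd
    have h2 := h.ha
    nlinarith
  · intro v hv
    have hco : ∀ v, lin t (lin x v) = lin x (lin t v) := by
      intro v
      rw [← l_mul, ← l_mul, w.comm]
    have h1 : lin t v - v ∈ fx (lin x) := w.le (mem_cm.2 ⟨v, rfl⟩)
    have h2 : lin t v - v ∈ cm (lin x) := by
      obtain ⟨z, rfl⟩ := mem_cm.1 hv
      refine mem_cm.2 ⟨lin t z - z, ?_⟩
      rw [map_sub, map_sub, hco]
      abel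
    have hx : (lin x) ^ (r ^ k) = 1 := by
      rw [← l_pow, hpow]
      exact LinearMap.ext fun v => l_one v
    have h3 := (H951.isCompl_fx_cm (H383.Cov.coprime_ne_zero (F := F) hcop) hx).inf_eq_bot
    have h4 : lin t v - v ∈ fx (lin x) ⊓ cm (lin x) := ⟨h1, h2⟩
    rw [h3, Submodule.mem_bot] at h4
    exact sub_eq_zero.1 h4
  · intro ht
    have h1 := w.t_ord
    rw [ht, orderOf_one, H823.O8S.mt, hF] at h1
    have h2 := h.four
    have h3 : Nat.gcd 2 (p ^ a - 1) ≤ 2 := Nat.gcd_le_left _ (by norm_num)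
    have h4 : 0 < Nat.gcd 2 (p ^ a - 1) := Nat.gcd_pos_of_pos_left _ (by norm_num)
    have h5 : 2 ≤ (p ^ a + 1) / Nat.gcd 2 (p ^ a - 1) := by
      rw [Nat.le_div_iff_mul_le h4]
      omega
    omega

/-- **(O12)** -/
theorem hH (hF : Nat.card F = p ^ a) (h : RK p a r k) (w : Wit x t (r ^ k)) (f : Two x t J J' c d)
    (a : MulAut (T8 F)) (h1 : ∃ y : T8 F, a • U₁ x = H424.Spr.c y • U₁ x)
    (_ : ∃ y : T8 F, a • U₂ J c = H424.Spr.c y • U₂ J c)
    (_ : ∃ y : T8 F, a • U₂ J' c = H424.Spr.c y • U₂ J' c) (hne : a • U₁ x ≠ U₁ x) :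
    ∃ y ∈ U₁ x, a • (H424.Spr.c y • U₂ J c) ≠ H424.Spr.c y • U₂ J c ∧
      a • (H424.Spr.c y • U₂ J' c) ≠ H424.Spr.c y • U₂ J' c :=
  end_gameF (f := quadFormPlus 4 F) rfl (cf_of hF h w) (fj_of f.fJ f.cx f.ct) (fj_of f.fJ' f.cx' f.ct') f.agree
    (fun _ => Iff.rfl) (fun _ => Iff.rfl) (fun _ => Iff.rfl) a h1 hne

end Cfsg.Agent.H424.O8L

private theorem dce_524384fc8ae4 : _root_.True := by
  try have : _root_.True := by simp only [_root_.Cfsg.Agent.H823.O8S.mt.eq_1]
  exact _root_.True.intro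
end

-- part: H823/O8S/RowOf
section
prune_inst 0x206004004200080000850000001c42ca0004200048040084800a000680880000000020a0a00111008000040030004001000000020000000a000000011900800000100400400000000010000000000000000000000000000000000000000000000000000
set_option linter.all false
open scoped Cfsg.Agent.FastGrp

-- part: H118/O8S/Psl2
section
/-!
# S3938, `PΩ⁺₈(q)`, (O5): the socle `PSL₂(q³)` (helper118)
-/

set_option autoImplicit false

namespace Cfsg.Agent.H118.O8S

open Matrix Cfsg.Agent.H823.O8S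
open scoped MatrixGroups
open Cfsg.Agent.Ree.PSLTori (tr tr_mul_comm tr_conj)
open Cfsg.Agent.ClassicalGeometry.AutPSL.Root (pr pr_surjective)
open Cfsg.Agent.ClassicalGeometry.AutPSL.Auto (cj fld lift lift_pr coe_cj coe_fld_apply)
open Cfsg.Agent.ClassicalGeometry.AutPSL.Main (surj_two)

section aut

variable {K : Type*} [Field K]

theorem fld_mul_cj (σ : K ≃+* K) (C : GL (Fin 2) K) :
    (fld σ * cj C : MulAut SL(2, K)) = cj (Matrix.GeneralLinearGroup.map (σ : K →+* K) C) * fld σ := by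
  apply MulEquiv.ext
  intro g
  apply Subtype.ext
  change (((C : Matrix (Fin 2) (Fin 2) K) * g.1 * ((C⁻¹ : GL (Fin 2) K) : Matrix (Fin 2) (Fin 2) K))).map σ =
    ((C : Matrix (Fin 2) (Fin 2) K).map σ) * (g.1.map σ) * ((C⁻¹ : GL (Fin 2) K) : Matrix (Fin 2) (Fin 2) K).map σ
  rw [Matrix.map_mul, Matrix.map_mul]

theorem pow_cj_fld (A : GL (Fin 2) K) (σ : K ≃+* K) (m : ℕ) :
    ∃ B : GL (Fin 2) K, (cj A * fld σ : MulAut SL(2, K)) ^ m = cj B * fld (σ ^ m) := by
  induction m with
  | zero => exact ⟨1, by simp⟩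
  | succ m ih =>
    obtain ⟨B, hB⟩ := ih
    refine ⟨B * Matrix.GeneralLinearGroup.map ((σ ^ m : K ≃+* K) : K →+* K) A, ?_⟩
    rw [pow_succ, hB, mul_assoc, ← mul_assoc (fld (σ ^ m)), fld_mul_cj, map_mul, pow_succ, map_mul]
    group

/-- the element of `SL₂` proportional to `A²` -/
theorem exists_sq (A : GL (Fin 2) K) : ∃ D : SL(2, K), ∀ y, cj (A * A) y = D * y * D⁻¹ := by
  have hA : (A : Matrix (Fin 2) (Fin 2) K).det ≠ 0 := (Matrix.isUnit_iff_isUnit_det _).1 A.isUnit |>.ne_zero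
  set c : K := ((A : Matrix (Fin 2) (Fin 2) K).det)⁻¹ with hc
  have hdet : (c • ((A : Matrix (Fin 2) (Fin 2) K) * (A : Matrix (Fin 2) (Fin 2) K))).det = 1 := by
    rw [det_smul, det_mul, Fintype.card_fin, hc]
    field_simp
  let D : SL(2, K) := ⟨c • ((A : Matrix (Fin 2) (Fin 2) K) * (A : Matrix (Fin 2) (Fin 2) K)), hdet⟩
  refine ⟨D, fun y => eq_mul_inv_of_mul_eq ?_⟩
  apply Subtype.ext
  change ((A * A : GL (Fin 2) K) : Matrix (Fin 2) (Fin 2) K) * y.1 *
    (((A * A)⁻¹ : GL (Fin 2) K) : Matrix (Fin 2) (Fin 2) K) *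
    (c • ((A : Matrix (Fin 2) (Fin 2) K) * (A : Matrix (Fin 2) (Fin 2) K))) =
    (c • ((A : Matrix (Fin 2) (Fin 2) K) * (A : Matrix (Fin 2) (Fin 2) K))) * y.1
  rw [← Units.val_mul A A, mul_smul_comm, mul_assoc, ← Units.val_mul (A * A)⁻¹ (A * A), inv_mul_cancel, Units.val_one,
    mul_one, smul_mul_assoc]

theorem tr_fld (σ : K ≃+* K) (g : SL(2, K)) : tr (fld σ g) = σ (tr g) := by
  simp only [tr]
  rw [map_add]
  rfl

theorem tr_cj (A : GL (Fin 2) K) (g : SL(2, K)) : tr (cj A g) = tr g := by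
  have h1 : ∀ y : SL(2, K), tr y = (y : Matrix (Fin 2) (Fin 2) K).trace := fun y => by
    rw [Matrix.trace_fin_two]
    rfl
  rw [h1, h1, coe_cj, Matrix.trace_mul_comm, ← mul_assoc, ← Units.val_mul, inv_mul_cancel, Units.val_one, one_mul]

end aut

section

variable {K : Type*} [Field K] {R : Type*} [Group R] (S : Subgroup R) [S.Normal]

/-- the action of `R` on `PSL₂(K)` -/
def act (e : S ≃* Matrix.ProjectiveSpecialLinearGroup (Fin 2) K) :
    R →* MulAut (Matrix.ProjectiveSpecialLinearGroup (Fin 2) K) :=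
  (MulAut.congr e).toMonoidHom.comp MulAut.conjNormal

variable {S}

theorem act_apply (e : S ≃* Matrix.ProjectiveSpecialLinearGroup (Fin 2) K) (g : R) (s : S) :
    act S e g (e s) = e (MulAut.conjNormal g s) := by
  change e (MulAut.conjNormal g (e.symm (e s))) = _
  rw [e.symm_apply_apply]

theorem act_injective (hC : Subgroup.centralizer (S : Set R) = ⊥)
    (e : S ≃* Matrix.ProjectiveSpecialLinearGroup (Fin 2) K) : Function.Injective (act S e) := by
  rw [injective_iff_map_eq_one]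
  intro g hg
  have h1 : g ∈ Subgroup.centralizer (S : Set R) := by
    rw [Subgroup.mem_centralizer_iff]
    intro s hs
    have h2 := act_apply e g ⟨s, hs⟩
    rw [hg, MulAut.one_apply] at h2
    have h3 := congrArg Subtype.val (e.injective h2)
    rw [MulAut.conjNormal_apply] at h3
    change s = g * s * g⁻¹ at h3
    rw [eq_mul_inv_iff_mul_eq] at h3
    exact h3
  rw [hC] at h1
  exact h1

theorem act_mem (e : S ≃* Matrix.ProjectiveSpecialLinearGroup (Fin 2) K) (y : Matrix.ProjectiveSpecialLinearGroup (Fin 2) K) :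
    act S e (e.symm y : S) = MulAut.conj y := by
  apply MulEquiv.ext
  intro z
  obtain ⟨s, rfl⟩ := e.surjective z
  rw [act_apply, MulAut.conj_apply]
  have h1 : MulAut.conjNormal ((e.symm y : S) : R) s = e.symm y * s * (e.symm y)⁻¹ := by
    apply Subtype.ext
    rw [MulAut.conjNormal_apply]
    rfl
  rw [h1, map_mul, map_mul, map_inv, e.apply_symm_apply]

/-- `g² ∈ S` if `g` acts as an element of `PGL₂(K)`. -/
theorem sq_mem (hC : Subgroup.centralizer (S : Set R) = ⊥)
    (e : S ≃* Matrix.ProjectiveSpecialLinearGroup (Fin 2) K) {g : R} {A : GL (Fin 2) K}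
    (hg : act S e g = lift (cj A)) : ∃ D : SL(2, K), g ^ 2 = (e.symm (pr D) : S) := by
  obtain ⟨D, hD⟩ := exists_sq A
  refine ⟨D, act_injective hC e ?_⟩
  rw [act_mem, map_pow, hg, ← map_pow, ← map_pow, pow_two]
  apply MulEquiv.ext
  intro z
  obtain ⟨y, rfl⟩ := pr_surjective z
  rw [lift_pr, hD, MulAut.conj_apply, map_mul, map_mul, map_inv]

end

/-- the power map of a field automorphism -/
theorem exists_frob {F : Type*} [Field F] [Fintype F] {p : ℕ} [Fact p.Prime] [CharP F p] (σ : F ≃+* F) :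
    ∃ i : ℕ, ∀ a, σ a = a ^ p ^ i := by
  let _ : Algebra (ZMod p) F := ZMod.algebra F p
  have hcomm : ∀ r : ZMod p, σ (algebraMap (ZMod p) F r) = algebraMap (ZMod p) F r := by
    intro r
    obtain ⟨n, rfl⟩ := ZMod.natCast_zmod_surjective r
    rw [map_natCast, map_natCast]
  obtain ⟨i, hi⟩ := (FiniteField.bijective_frobeniusAlgEquivOfAlgebraic_pow (ZMod p) F).2
    (AlgEquiv.ofRingEquiv (f := σ) hcomm)
  refine ⟨i, fun a => ?_⟩
  have h1 := DFunLike.congr_fun hi a
  have h3 : (AlgEquiv.ofRingEquiv (f := σ) hcomm) a = σ a := rfl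
  rw [← h3, ← h1]
  have h5 : ∀ j : ℕ, ((FiniteField.frobeniusAlgEquivOfAlgebraic (ZMod p) F) ^ j) a = a ^ p ^ j := by
    intro j
    induction j with
    | zero => simp
    | succ j ih =>
      rw [pow_succ', AlgEquiv.mul_apply, ih, FiniteField.coe_frobeniusAlgEquivOfAlgebraic]
      simp only [ZMod.card]
      rw [← pow_mul, pow_succ]
  exact h5 _

theorem sigma_pow {F : Type*} [Field F] [Fintype F] {p f : ℕ} [Fact p.Prime] [CharP F p]
    (hF : Fintype.card F = p ^ f) (σ : F ≃+* F) : σ ^ f = 1 := by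
  obtain ⟨i, hi⟩ := exists_frob (p := p) σ
  have h1 : ∀ (m : ℕ) (y : F), (σ ^ m) y = y ^ p ^ (i * m) := by
    intro m
    induction m with
    | zero => intro y; simp
    | succ m ih =>
      intro y
      rw [pow_succ, RingAut.mul_apply, ih, hi, ← pow_mul, ← pow_add]
      congr 2
      ring
  apply RingEquiv.ext
  intro y
  rw [h1, mul_comm, pow_mul, ← hF]
  change _ = y
  clear hi h1
  induction i with
  | zero => rw [pow_zero, pow_one]
  | succ c ih => rw [pow_succ, pow_mul, ih, FiniteField.pow_card]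

theorem mt_ge {q : ℕ} (h4 : 4 ≤ q) (h5 : q ≠ 5) : 4 ≤ H823.O8S.mt q := by
  have hg : Nat.gcd 2 (q - 1) ≤ 2 := Nat.gcd_le_left _ (by norm_num)
  have hg0 : 0 < Nat.gcd 2 (q - 1) := Nat.gcd_pos_of_pos_left _ (by norm_num)
  rcases Nat.lt_or_ge q 7 with h7 | h7
  · obtain rfl | rfl : q = 4 ∨ q = 6 := by omega
    all_goals decide
  · unfold H823.O8S.mt
    rw [Nat.le_div_iff_mul_le hg0]
    omega

theorem mt_dvd (q : ℕ) (hq : 1 ≤ q) : H823.O8S.mt q ∣ q + 1 := by
  unfold H823.O8S.mt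
  refine Nat.div_dvd_of_dvd ?_
  have h1 : Nat.gcd 2 (q - 1) ∣ 2 := Nat.gcd_dvd_left _ _
  have h2 : Nat.gcd 2 (q - 1) ∣ q - 1 := Nat.gcd_dvd_right _ _
  have h3 : q + 1 = (q - 1) + 2 := by omega
  rw [h3]
  exact dvd_add h2 h1

section main

variable {K : Type} [Field K] [Fintype K] {p a r k : ℕ} {R : Type} [Group R] [Finite R] (S : Subgroup R) [S.Normal]
  (hC : Subgroup.centralizer (S : Set R) = ⊥) {x t : R} (hx : orderOf x = r ^ k) (ht : orderOf t = H823.O8S.mt (p ^ a))
  (hxt : x * t = t * x)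

include hC hx ht hxt in
/-- **(O5)** `PSL₂(q³)`: `x` is the product of two conjugates of `t²` -/
theorem psl2_conj (hK : Fintype.card K = p ^ (3 * a)) (h : RK p a r k)
    (e : S ≃* Matrix.ProjectiveSpecialLinearGroup (Fin 2) K) :
    ∃ t₁ t₂ : R, IsConj (t ^ 2) t₁ ∧ IsConj (t ^ 2) t₂ ∧ t₁ * t₂ = x := by
  have hp : Fact p.Prime := ⟨h.hp⟩
  have hch : CharP K p := by
    obtain ⟨p', hp'⟩ := CharP.exists K
    obtain ⟨n, hpp, hn⟩ := FiniteField.card K p'
    have h1 : p' ∣ p ^ (3 * a) := by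
      rw [← hK, hn]
      exact dvd_pow_self p' n.ne_zero
    have h2 : p' = p := (Nat.prime_dvd_prime_iff_eq hpp h.hp).1 (hpp.dvd_of_dvd_pow h1)
    rw [← h2]
    exact hp'
  have hrp : r.Prime := h.prim.prime
  have ha := h.ha
  have hk : k ≠ 0 := by
    rcases h.cases with ⟨-, h1⟩ | ⟨-, h1⟩ <;> omega
  have hr7 : 7 ≤ r := by
    rcases h.cases with ⟨h1, -⟩ | ⟨h1, -⟩ <;> omega
  have hpr : ¬ r ∣ p := h.prim.not_dvd
  have hcop : Nat.Coprime (r ^ k) p := Nat.Coprime.pow_left _ ((Nat.Prime.coprime_iff_not_dvd hrp).2 hpr)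
  have hodd : Odd (r ^ k) := (hrp.odd_of_ne_two (by omega)).pow
  -- `r` does not divide `6 a`
  have h6 : Nat.Coprime (r ^ k) (3 * a * 2) := by
    refine Nat.Coprime.pow_left _ ((Nat.Prime.coprime_iff_not_dvd hrp).2 ?_)
    intro hd
    have h1 : r ∣ p ^ (r - 1) - 1 := by
      have : Fact r.Prime := ⟨hrp⟩
      have h2 : (p : ZMod r) ≠ 0 := by
        rw [Ne, ZMod.natCast_eq_zero_iff]
        exact hpr
      have h3 := ZMod.pow_card_sub_one_eq_one h2
      rw [← ZMod.natCast_eq_zero_iff, Nat.cast_sub (Nat.one_le_pow _ _ h.hp.pos)]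
      push_cast
      rw [h3, sub_self]
    have h2 : 6 * a ∣ r - 1 := (h.prim.dvd_iff _).1 h1
    have h3 : 6 * a ≤ r - 1 := Nat.le_of_dvd (by omega) h2
    have h4 : r ≤ 3 * a * 2 := Nat.le_of_dvd (by omega) hd
    omega
  -- every element of `R`, to the power `6 a`, is in `S`
  have hmem : ∀ g : R, g ^ (3 * a * 2) ∈ S := by
    intro g
    obtain ⟨A, σ, hA⟩ := surj_two p (act S e g)
    obtain ⟨B, hB⟩ := pow_cj_fld A σ (3 * a)
    rw [sigma_pow hK, map_one, mul_one] at hB
    obtain ⟨D, hD⟩ := sq_mem hC e (g := g ^ (3 * a)) (A := B) (by rw [map_pow, hA, ← map_pow, hB])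
    rw [pow_mul, hD]
    exact (e.symm (pr D)).2
  have hxS : x ∈ S := by
    have h1 : Nat.Coprime (orderOf x) (3 * a * 2) := by rw [hx]; exact h6
    obtain ⟨u, hu⟩ := exists_pow_eq_self_of_coprime h1.symm
    rw [← hu]
    exact pow_mem (hmem x) u
  -- a lift of `x`
  obtain ⟨X₀, hX₀⟩ := pr_surjective (e ⟨x, hxS⟩)
  have hexp : ∀ m : ℕ, (e ⟨x, hxS⟩) ^ m = e (⟨x, hxS⟩ ^ m) := fun m => (map_pow e _ m).symm
  have hxk : (e ⟨x, hxS⟩) ^ r ^ k = 1 := by
    rw [hexp]
    have h1 : (⟨x, hxS⟩ : S) ^ r ^ k = 1 := Subtype.ext (by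
      change x ^ r ^ k = 1
      rw [← hx, pow_orderOf_eq_one])
    rw [h1, map_one]
  have hX₀2 : (X₀ ^ r ^ k) ^ 2 = 1 := by
    have h1 : pr (X₀ ^ r ^ k) = 1 := by rw [map_pow, hX₀, hxk]
    rcases (Cfsg.Agent.ClassicalGeometry.PSLTorus.pr_eq_one_iff _).1 h1 with h2 | h2
    · rw [h2, one_pow]
    · rw [h2, neg_one_sq]
  set X : SL(2, K) := X₀ ^ (r ^ k + 1) with hXdef
  have hXpr : pr X = e ⟨x, hxS⟩ := by
    rw [hXdef, map_pow, hX₀, pow_succ, hxk, one_mul]
  have hXk : X ^ r ^ k = 1 := by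
    obtain ⟨m, hm⟩ := hodd
    have h1 : (r ^ k + 1) * r ^ k = r ^ k * 2 * (m + 1) := by
      rw [show r ^ k + 1 = 2 * (m + 1) by omega]; ring
    rw [hXdef, ← pow_mul, h1, pow_mul, pow_mul, hX₀2, one_pow]
  have hXtr : tr X ^ 2 ≠ 4 := by
    intro h1
    have h2 := pow_of_trace (p := p) X h1
    rw [hXpr, hexp, ← map_one e] at h2
    have h3 : x ^ p = 1 := congrArg Subtype.val (e.injective h2)
    have h4 : r ^ k ∣ p := by rw [← hx]; exact orderOf_dvd_of_pow_eq_one h3
    exact hpr ((dvd_pow_self r hk).trans h4)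
  -- `t` acts linearly
  obtain ⟨A, σ, hA⟩ := surj_two p (act S e t)
  have htx : act S e t (pr X) = pr X := by
    rw [hXpr, act_apply]
    congr 1
    apply Subtype.ext
    rw [MulAut.conjNormal_apply]
    change t * x * t⁻¹ = x
    rw [← hxt, mul_inv_cancel_right]
  rw [hA, lift_pr] at htx
  have hfix : (cj A * fld σ : MulAut SL(2, K)) X = X := by
    rcases (Cfsg.Agent.ClassicalGeometry.PSLTorus.pr_eq_iff _ _).1 htx with h1 | h1
    · exact h1
    · have h2 : ((cj A * fld σ : MulAut SL(2, K)) X) ^ r ^ k = 1 := by rw [← map_pow, hXk, map_one]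
      rw [h1, hodd.neg_pow, hXk] at h2
      rw [h1, ← neg_one_mul, h2, one_mul]
  have hσtr : σ (tr X) = tr X := by
    have h1 := congrArg tr hfix
    rw [MulAut.mul_apply, tr_cj, tr_fld] at h1
    exact h1
  obtain ⟨b, hb⟩ := exists_frob (p := p) σ
  have hσ : σ = 1 := eq_one_of_trace hK h.prim hXtr hXk hb hσtr
  rw [hσ, map_one, mul_one] at hA
  obtain ⟨D, hD⟩ := sq_mem hC e hA
  have hDtr : tr D ^ 2 ≠ 4 := by
    intro h1
    have h2 := pow_of_trace (p := p) D h1
    have h3 : t ^ (2 * p) = 1 := by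
      rw [pow_mul, hD]
      have h4 : (e.symm (pr D)) ^ p = 1 := by rw [← map_pow, h2, map_one]
      exact congrArg Subtype.val h4
    have h4 : H823.O8S.mt (p ^ a) ∣ 2 * p := by rw [← ht]; exact orderOf_dvd_of_pow_eq_one h3
    have h5 : Nat.Coprime (H823.O8S.mt (p ^ a)) p := by
      refine Nat.Coprime.coprime_dvd_left (mt_dvd _ (by have := h.four; omega)) ?_
      rw [Nat.coprime_comm, Nat.Prime.coprime_iff_not_dvd h.hp]
      intro hd
      have h6 : p ∣ 1 := (Nat.dvd_add_right (dvd_pow_self p (by omega : a ≠ 0))).1 hd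
      exact h.hp.one_lt.ne' (Nat.dvd_one.1 h6)
    have h6 : H823.O8S.mt (p ^ a) ∣ 2 := h5.dvd_of_dvd_mul_right h4
    have h7 := Nat.le_of_dvd (by norm_num) h6
    have h8 := mt_ge h.four h.five
    omega
  obtain ⟨A', B', hAB, hA', hB'⟩ := macbeath X (tr D) hXtr
  have key : ∀ Z : SL(2, K), tr Z = tr D → IsConj (t ^ 2) ((e.symm (pr Z) : S) : R) := by
    intro Z hZ
    rw [hD]
    have h1 : IsConj D Z := exists_conj D Z hDtr hZ.symm
    have h2 : IsConj (pr D) (pr Z) := MonoidHom.map_isConj pr h1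
    have h3 : IsConj (e.symm (pr D)) (e.symm (pr Z)) := MonoidHom.map_isConj e.symm.toMonoidHom h2
    exact MonoidHom.map_isConj S.subtype h3
  refine ⟨_, _, key A' hA', key B' hB', ?_⟩
  rw [← Subgroup.coe_mul, ← map_mul, ← map_mul, hAB, hXpr, e.symm_apply_apply]

end main

end Cfsg.Agent.H118.O8S
end

-- part: H332/O8S/Psu3
section
/-!
# S3938-OPLUS8-O8: `PSU₃(q)` (helper332)
-/

set_option autoImplicit false

namespace Cfsg.Agent.H332.O8S

open Cfsg Cfsg.Agent.H823.O8S Cfsg.Agent.OrdDiv Cfsg.Agent.H436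

section

variable {p a r k : ℕ} {R : Type} [Group R] [Finite R] (S : Subgroup R) [S.Normal]

/-- a primitive prime divisor of `p ^ (6 a) - 1` is larger than `6 a` -/
theorem lt_prim (_ha : 1 ≤ a) (hr : Prim p (6 * a) r) : 6 * a < r := by
  have := Fact.mk hr.prime
  have h1 : r ∣ p ^ (r - 1) - 1 := by
    have h2 : ((p : ℤ)) ^ (r - 1) ≡ 1 [ZMOD r] := by
      apply Int.ModEq.pow_card_sub_one_eq_one hr.prime
      rw [Int.isCoprime_iff_gcd_eq_one, Int.gcd_natCast_natCast]
      exact ((Nat.Prime.coprime_iff_not_dvd hr.prime).2 hr.not_dvd).symm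
    have h3 : p ^ (r - 1) ≡ 1 [MOD r] := by exact_mod_cast h2
    have h4 : 1 ≤ p ^ (r - 1) := by
      rcases Nat.eq_zero_or_pos p with rfl | h5
      · exact absurd (dvd_zero r) hr.not_dvd
      · exact Nat.one_le_pow _ _ h5
    exact (Nat.modEq_iff_dvd' h4).1 h3.symm
  have h5 := Nat.le_of_dvd (by have := hr.prime.two_le; omega) ((hr.dvd_iff _).1 h1)
  have := hr.prime.two_le
  omega

variable (hC : Subgroup.centralizer (S : Set R) = ⊥) (hS : IsNamed (.psu 3 (p ^ a)) S)

omit [Finite R] in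
include hC hS in
/-- elements of order `r` lie in `S` -/
theorem mem_of_psu3 (hp : p.Prime) (ha : 1 ≤ a) (h2 : p ^ a ≠ 2) (hr : Prim p (6 * a) r) {z : R}
    (hz : z ^ r = 1) : z ∈ S := by
  have := Fact.mk hp
  obtain ⟨F, iF, iF', hF, ⟨e⟩⟩ := hS.real
  obtain ⟨φ, hφ, -, hk⟩ := S2603.result (K := F) (n := 3) ha rfl hF le_rfl (fun h => h2 h.2)
  have h1 : Nat.card (Cfsg.Out (PSU 3 F (p ^ a)) ⧸ φ.ker) = 2 * a := by
    rw [Nat.card_congr (QuotientGroup.quotientKerEquivOfSurjective φ hφ).toEquiv,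
      Nat.card_congr Multiplicative.toAdd, Nat.card_zmod]
  have h3 : Nat.card (Cfsg.Out S) = 2 * a * Nat.gcd 3 (p ^ a + 1) := by
    rw [Nat.card_congr (H816.OutEmb.out_congr e).some.toEquiv, Subgroup.card_eq_card_quotient_mul_card_subgroup φ.ker,
      h1, hk]
  have h4 : S.index ∣ 2 * a * Nat.gcd 3 (p ^ a + 1) := by
    rw [← h3]
    exact H816.OutEmb.index_dvd S (by rw [hC]; exact bot_le)
  have hlt := lt_prim ha hr
  have h5 : ¬ r ∣ S.index := by
    intro h6
    rcases (Nat.Prime.dvd_mul hr.prime).1 (h6.trans h4) with h7 | h7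
    · have := Nat.le_of_dvd (by omega) h7
      omega
    · have := Nat.le_of_dvd (by norm_num) (h7.trans (Nat.gcd_dvd_left _ _))
      omega
  -- the image of `z` in `R / S` is trivial
  have h8 : (QuotientGroup.mk' S z) ^ r = 1 := by rw [← map_pow, hz, map_one]
  have h9 : (QuotientGroup.mk' S z) ^ (Nat.card (R ⧸ S)) = 1 := pow_card_eq_one'
  have h10 : (QuotientGroup.mk' S z) = 1 := by
    have h11 : orderOf (QuotientGroup.mk' S z) ∣ 1 := by
      have h12 := Nat.dvd_gcd (orderOf_dvd_of_pow_eq_one h8) (orderOf_dvd_of_pow_eq_one h9)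
      have h13 : Nat.gcd r (Nat.card (R ⧸ S)) = 1 := (Nat.Prime.coprime_iff_not_dvd hr.prime).2 h5
      rwa [h13] at h12
    exact orderOf_eq_one_iff.1 (Nat.dvd_one.1 h11)
  exact (QuotientGroup.eq_one_iff z).1 h10

include hC hS in
/-- an element of order `r ^ k` commutes only with elements of order dividing `q² - q + 1` -/
theorem order_dvd_psu3 (hp : p.Prime) (ha : 1 ≤ a) (h2 : p ^ a ≠ 2) (hr : Prim p (6 * a) r) (hk : 1 ≤ k) {x t : R}
    (hx : orderOf x = r ^ k) (hxt : x * t = t * x) : orderOf t ∣ (p ^ a) ^ 2 - p ^ a + 1 := by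
  have hrpos := hr.prime.pos
  obtain ⟨z, hz⟩ : ∃ z : R, z = x ^ r ^ (k - 1) := ⟨_, rfl⟩
  have hzo : orderOf z = r := by
    rw [hz, orderOf_pow, hx, Nat.gcd_eq_right (pow_dvd_pow r (by omega))]
    have : r ^ k = r ^ (k - 1) * r := by rw [← pow_succ]; congr 1; omega
    rw [this, Nat.mul_div_cancel_left _ (pow_pos hrpos _)]
  have hzr : z ^ r = 1 := by rw [← hzo, pow_orderOf_eq_one]
  have h1 := H441.Wei.card_cent_psu3 hp ha h2 S hC hS hr (mem_of_psu3 S hC hS hp ha h2 hr hzr) hzo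
  have h3 : t ∈ (Subgroup.centralizer {z} : Subgroup R) := by
    rw [Subgroup.mem_centralizer_singleton_iff, hz]
    exact (Commute.pow_left (show Commute x t from hxt) _).eq.symm
  have h4 : orderOf (⟨t, h3⟩ : (Subgroup.centralizer {z} : Subgroup R)) = orderOf t := by
    rw [← Subgroup.orderOf_coe]
  rw [← h4]
  exact (orderOf_dvd_natCard _).trans h1

omit hS in
include hC in
/-- **(O8)** `PSU₃(q)` -/
theorem psu3_false {x t : R} (hx : orderOf x = r ^ k) (ht : orderOf t = mt (p ^ a))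
    (hxt : x * t = t * x) (h : RK p a r k) (hS : IsNamed (.psu 3 (p ^ a)) S) : False := by
  have h4 := h.four
  have h1 := order_dvd_psu3 S hC hS h.hp h.ha (by omega) h.prim h.hk hx hxt
  rw [ht] at h1
  have h2 := mt_dvd (p ^ a) (by omega)
  have h3 := h.mt_four
  generalize hm : mt (p ^ a) = m at h1 h2 h3
  generalize hq : p ^ a = q at h1 h2 h4
  have h5 : m ∣ 3 := by
    have h6 : q ^ 2 - q + 1 + 3 * q = (q + 1) * (q + 1) := by
      have : q ≤ q ^ 2 := Nat.le_self_pow (by norm_num) q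
      zify [this]
      ring
    have h7 : m ∣ 3 * q := by
      rw [← Nat.dvd_add_right h1, h6]
      exact h2.mul_left _
    have h8 : m ∣ 3 * q + 3 := by
      have : 3 * q + 3 = 3 * (q + 1) := by ring
      rw [this]
      exact h2.mul_left _
    exact (Nat.dvd_add_right h7).1 h8
  have := Nat.le_of_dvd (by norm_num) h5
  omega

end

end Cfsg.Agent.H332.O8S
end

-- part: H466/O8S/Model
section
/-!
# S3938-OPLUS8 (O2): the model `K ⊕ F²` of the space of plus type of dimension eight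

`K / F` of degree six, `σ` the involution, `ω σ(ω) = 1`, `c = ω + σ(ω)`; `Q'(v, a) = φ(v σ(v)) - φ(1) (a₁² + a₂² + c a₁ a₂)`.
-/

set_option autoImplicit false
set_option linter.unusedSectionVars false

namespace Cfsg.Agent.H466.O8S

open Module QuadraticMap Cfsg.Agent.LieClassical.OrthCore Cfsg.Agent.H955

section Model

variable {F K : Type} [Field F] [Field K] [Algebra F K]

/-- the embedding of `F²` -/
def eta (ω : K) : F × F →ₗ[F] K where
  toFun a := algebraMap F K a.1 + algebraMap F K a.2 * ω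
  map_add' a b := by
    rw [Prod.fst_add, Prod.snd_add, map_add, map_add]
    ring
  map_smul' r a := by
    rw [Prod.smul_fst, Prod.smul_snd, smul_eq_mul, smul_eq_mul, map_mul, map_mul, RingHom.id_apply,
      Algebra.smul_def]
    ring

theorem eta_apply (ω : K) (a : F × F) : eta ω a = algebraMap F K a.1 + algebraMap F K a.2 * ω := rfl

/-- the norm form -/
def nn (c : F) (a : F × F) : F := a.1 * a.1 + a.2 * a.2 + c * (a.1 * a.2)

/-- multiplication by `ω` -/
def rot (c : F) : (F × F) ≃ₗ[F] (F × F) where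
  toFun a := (-a.2, a.1 + c * a.2)
  invFun a := (c * a.1 + a.2, -a.1)
  map_add' a b := by
    refine Prod.ext ?_ ?_
    · simp only [Prod.fst_add, Prod.snd_add]
      ring
    · simp only [Prod.fst_add, Prod.snd_add]
      ring
  map_smul' r a := by
    refine Prod.ext ?_ ?_
    · simp only [Prod.smul_fst, Prod.smul_snd, smul_eq_mul, RingHom.id_apply]
      ring
    · simp only [Prod.smul_fst, Prod.smul_snd, smul_eq_mul, RingHom.id_apply]
      ring
  left_inv a := by
    refine Prod.ext ?_ ?_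
    · simp only
      ring
    · simp only
      ring
  right_inv a := by
    refine Prod.ext ?_ ?_
    · simp only
      ring
    · simp only
      ring

theorem rot_apply (c : F) (a : F × F) : rot c a = (-a.2, a.1 + c * a.2) := rfl

theorem rot_symm_apply (c : F) (a : F × F) : (rot c).symm a = (c * a.1 + a.2, -a.1) := rfl

theorem nn_rot (c : F) (a : F × F) : nn c (rot c a) = nn c a := by
  rw [nn, nn, rot_apply]
  ring

/-- the data -/
structure Dat (σ : K →ₐ[F] K) (φ : K →ₗ[F] F) (ω α : K) (c : F) : Prop where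
  inv : ∀ z, σ (σ z) = z
  ne : ∃ z, z + σ z ≠ 0
  om : ω * σ ω = 1
  tr : algebraMap F K c = ω + σ ω
  nmem : ∀ z : F, algebraMap F K z ≠ ω
  al : σ α = α
  al0 : α ≠ 0
  phi0 : φ 1 ≠ 0
  phi1 : φ α = 0
  phi2 : φ (α * α) = 0

variable {σ : K →ₐ[F] K} {φ : K →ₗ[F] F} {ω α : K} {c : F}

theorem Dat.sq (D : Dat σ φ ω α c) : ω * ω = algebraMap F K c * ω - 1 := by
  rw [D.tr]
  linear_combination -D.om

theorem Dat.eta_rot (D : Dat σ φ ω α c) (a : F × F) : eta ω (rot c a) = ω * eta ω a := by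
  rw [eta_apply, eta_apply, rot_apply, map_neg, map_add, map_mul]
  linear_combination (-(algebraMap F K a.2)) * D.sq

theorem Dat.eta_inj (D : Dat σ φ ω α c) : Function.Injective (eta ω : F × F →ₗ[F] K) := by
  rw [← LinearMap.ker_eq_bot, LinearMap.ker_eq_bot']
  intro a ha
  rw [eta_apply] at ha
  by_cases h2 : a.2 = 0
  · rw [h2, map_zero, zero_mul, add_zero, map_eq_zero] at ha
    exact Prod.ext ha h2
  · exfalso
    refine D.nmem (-(a.1 / a.2)) ?_
    have h3 : algebraMap F K a.2 ≠ 0 := (map_ne_zero _).2 h2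
    rw [map_neg, map_div₀]
    field_simp
    linear_combination -ha

theorem Dat.sig_eta (_ : Dat σ φ ω α c) (a : F × F) :
    σ (eta ω a) = algebraMap F K a.1 + algebraMap F K a.2 * σ ω := by
  rw [eta_apply, map_add, map_mul, AlgHom.commutes, AlgHom.commutes]

theorem Dat.eta_mul (D : Dat σ φ ω α c) (a : F × F) : eta ω a * σ (eta ω a) = algebraMap F K (nn c a) := by
  rw [D.sig_eta, eta_apply, nn, map_add, map_add, map_mul, map_mul, map_mul, map_mul, D.tr]
  linear_combination (algebraMap F K a.2) ^ 2 * D.om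

/-- the mixed term -/
theorem Dat.eta_mix (D : Dat σ φ ω α c) (a b : F × F) : ∃ m : F,
    eta ω a * σ (eta ω b) + eta ω b * σ (eta ω a) = algebraMap F K m := by
  refine ⟨2 * (a.1 * b.1) + 2 * (a.2 * b.2) + c * (a.1 * b.2 + a.2 * b.1), ?_⟩
  rw [D.sig_eta, D.sig_eta, eta_apply, eta_apply]
  simp only [map_add, map_mul, D.tr, map_ofNat]
  linear_combination (2 * (algebraMap F K a.2) * (algebraMap F K b.2)) * D.om

/-- the form on `K` -/
def QK (σ : K →ₐ[F] K) (φ : K →ₗ[F] F) : QuadraticForm F K :=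
  LinearMap.BilinMap.toQuadraticMap (LinearMap.mk₂ F (fun v w => φ (v * σ w))
    (fun a b v => by rw [add_mul, map_add]) (fun r a b => by rw [smul_mul_assoc, map_smul])
    (fun a b v => by rw [map_add, mul_add, map_add]) (fun r a b => by rw [map_smul, mul_smul_comm, map_smul]))

theorem QK_apply (v : K) : QK σ φ v = φ (v * σ v) := rfl

theorem polar_QK (v w : K) : polar (QK σ φ) v w = φ (v * σ w + w * σ v) := by
  rw [polar, QK_apply, QK_apply, QK_apply, ← map_sub, ← map_sub, map_add]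
  congr 1
  ring

/-- the form on `F²` -/
def QE (c e : F) : QuadraticForm F (F × F) :=
  LinearMap.BilinMap.toQuadraticMap (LinearMap.mk₂ F (fun v w => e * (v.1 * w.1 + v.2 * w.2 + c * (v.1 * w.2)))
    (fun a b v => by simp only [Prod.fst_add, Prod.snd_add]; ring)
    (fun r a b => by simp only [Prod.smul_fst, Prod.smul_snd, smul_eq_mul]; ring)
    (fun a b v => by simp only [Prod.fst_add, Prod.snd_add]; ring)
    (fun r a b => by simp only [Prod.smul_fst, Prod.smul_snd, smul_eq_mul]; ring))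

theorem QE_apply (c e : F) (a : F × F) : QE c e a = e * nn c a := rfl

theorem polar_QE (c e : F) (a b : F × F) :
    polar (QE c e) a b = e * (2 * (a.1 * b.1) + 2 * (a.2 * b.2) + c * (a.1 * b.2 + a.2 * b.1)) := by
  rw [polar, QE_apply, QE_apply, QE_apply, nn, nn, nn, Prod.fst_add, Prod.snd_add]
  ring

theorem Dat.nondeg_QK (D : Dat σ φ ω α c) : Nondeg (QK σ φ) := by
  intro v hv
  by_contra hv0
  obtain ⟨z, hz⟩ := D.ne
  have hσv : σ v ≠ 0 := fun h => hv0 (by rw [← D.inv v, h, map_zero])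
  have h1 := hv (σ (z / (z + σ z)) / σ v)
  rw [polar_QK, map_div₀, D.inv, D.inv] at h1
  have h2 : v * (z / (z + σ z) / v) + σ (z / (z + σ z)) / σ v * σ v = 1 := by
    rw [map_div₀, map_add, D.inv]
    have h3 : σ z + z ≠ 0 := by rwa [add_comm]
    field_simp
    ring
  rw [h2] at h1
  exact D.phi0 h1

theorem Dat.disc (D : Dat σ φ ω α c) : c * c - 4 ≠ 0 := by
  intro h
  have h1 := congrArg (algebraMap F K) h
  rw [map_sub, map_mul, D.tr, map_ofNat, map_zero] at h1
  have h2 : (ω - σ ω) * (ω - σ ω) = 0 := by linear_combination h1 - 4 * D.om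
  have h3 : ω = σ ω := by
    rcases mul_eq_zero.1 h2 with h3 | h3 <;> exact sub_eq_zero.1 h3
  have h4 := D.om
  rw [← h3] at h4
  rcases mul_self_eq_one_iff.1 h4 with h5 | h5
  · exact D.nmem 1 (by rw [map_one, h5])
  · exact D.nmem (-1) (by rw [map_neg, map_one, h5])

theorem Dat.nondeg_QE (D : Dat σ φ ω α c) {e : F} (he : e ≠ 0) : Nondeg (QE c e) := by
  intro a ha
  have h1 := ha (1, 0)
  have h2 := ha (0, 1)
  rw [polar_QE] at h1 h2
  have h3 := (mul_eq_zero.1 h1).resolve_left he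
  have h4 := (mul_eq_zero.1 h2).resolve_left he
  simp only at h3 h4
  refine Prod.ext ?_ ?_
  · have h5 : (c * c - 4) * a.1 = 0 := by linear_combination c * h4 - 2 * h3
    exact (mul_eq_zero.1 h5).resolve_left D.disc
  · have h5 : (c * c - 4) * a.2 = 0 := by linear_combination c * h3 - 2 * h4
    exact (mul_eq_zero.1 h5).resolve_left D.disc

/-- the form on `K ⊕ F²` -/
abbrev QV (σ : K →ₐ[F] K) (φ : K →ₗ[F] F) (c : F) : QuadraticForm F (K × (F × F)) :=
  osum (QK σ φ) (QE c (-φ 1))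

theorem QV_apply (v : K × (F × F)) : QV σ φ c v = φ (v.1 * σ v.1) - φ 1 * nn c v.2 := by
  rw [QV, osum_apply, QK_apply, QE_apply]
  ring

theorem Dat.nondeg (D : Dat σ φ ω α c) : Nondeg (QV σ φ c) :=
  nondeg_osum D.nondeg_QK (D.nondeg_QE (neg_ne_zero.2 D.phi0))

/-- the singular subspace -/
def sing (ω α : K) : ((F × F) × (F × F)) →ₗ[F] (K × (F × F)) where
  toFun x := (eta ω x.1 * α + eta ω x.2, x.2)
  map_add' x y := by
    refine Prod.ext ?_ rfl
    simp only [Prod.fst_add, Prod.snd_add, map_add]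
    ring
  map_smul' r x := by
    refine Prod.ext ?_ rfl
    simp only [Prod.smul_fst, Prod.smul_snd, map_smul, RingHom.id_apply, smul_add, smul_mul_assoc]

theorem Dat.isPlus (D : Dat σ φ ω α c) (h6 : finrank F K = 6) [FiniteDimensional F K] : IsPlus (QV σ φ c) := by
  refine ⟨LinearMap.range (sing ω α), ?_, ?_⟩
  · rintro _ ⟨x, rfl⟩
    change QV σ φ c (eta ω x.1 * α + eta ω x.2, x.2) = 0
    rw [QV_apply]
    simp only
    obtain ⟨m, hm⟩ := D.eta_mix x.1 x.2
    have h1 : (eta ω x.1 * α + eta ω x.2) * σ (eta ω x.1 * α + eta ω x.2) =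
        (nn c x.1) • (α * α) + m • α + (nn c x.2) • (1 : K) := by
      rw [map_add, map_mul, D.al, Algebra.smul_def, Algebra.smul_def, Algebra.smul_def, ← D.eta_mul,
        ← D.eta_mul, ← hm]
      ring
    rw [h1, map_add, map_add, map_smul, map_smul, map_smul, D.phi1, D.phi2, smul_zero, smul_zero,
      zero_add, zero_add, smul_eq_mul]
    ring
  · have hinj : Function.Injective (sing ω α : ((F × F) × (F × F)) →ₗ[F] (K × (F × F))) := by
      rw [← LinearMap.ker_eq_bot, LinearMap.ker_eq_bot']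
      intro x hx
      have h2 : x.2 = 0 := congrArg Prod.snd hx
      have h1 : eta ω x.1 * α + eta ω x.2 = 0 := congrArg Prod.fst hx
      rw [h2, map_zero, add_zero] at h1
      have h3 := (mul_eq_zero.1 h1).resolve_right D.al0
      exact Prod.ext (D.eta_inj (h3.trans (map_zero _).symm)) h2
    have h2 : finrank F (F × F) = 2 := by rw [Module.finrank_prod, Module.finrank_self]
    have h3 : finrank F ((F × F) × (F × F)) = 4 := by rw [Module.finrank_prod, h2]
    have h4 : finrank F (K × (F × F)) = 8 := by rw [Module.finrank_prod, h2, h6]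
    rw [LinearMap.finrank_range_of_inj hinj, h3, h4]

end Model

end Cfsg.Agent.H466.O8S
end

-- part: H466/O8S/Fld
section
/-!
# S3938-OPLUS8 (O2): the fields
-/

set_option autoImplicit false
set_option linter.unusedSectionVars false

namespace Cfsg.Agent.H466.O8S

open Module

variable {F : Type} [Field F] [Fintype F]

theorem frob_pow {K : Type} [Field K] [Algebra F K] [Finite K] (j : ℕ) (x : K) :
    (FiniteField.frobeniusAlgEquivOfAlgebraic F K ^ j) x = x ^ Fintype.card F ^ j := by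
  induction j generalizing x with
  | zero => rw [pow_zero, pow_zero, pow_one]; rfl
  | succ j ih => rw [pow_succ, AlgEquiv.mul_apply, ih, FiniteField.coe_frobeniusAlgEquivOfAlgebraic, ← pow_mul,
      pow_succ, mul_comm]

theorem exists_algebraMap {K : Type} [Field K] [Algebra F K] [Finite K] {x : K} (hx : x ^ Fintype.card F = x) :
    ∃ c : F, algebraMap F K c = x := by
  have h1 : x ∈ Set.range (algebraMap F K) := by
    rw [IsGalois.mem_range_algebraMap_iff_fixed]
    intro σ
    obtain ⟨i, hi⟩ := (FiniteField.bijective_frobeniusAlgEquivOfAlgebraic_pow F K).2 σ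
    rw [← hi]
    simp only [frob_pow]
    generalize (i : ℕ) = j
    induction j with
    | zero => rw [pow_zero, pow_one]
    | succ j ih => rw [pow_succ, pow_mul, ih, hx]
  exact h1

/-- elements of degree at least three -/
theorem three_le_degree {K : Type} [Field K] [Algebra F K] [Finite K] {x : Kˣ}
    (hx : orderOf x = Fintype.card F ^ 3 - 1) : 3 ≤ (minpoly F (x : K)).natDegree := by
  have hq : 2 ≤ Fintype.card F := Fintype.one_lt_card
  have hint : IsIntegral F (x : K) := Algebra.IsIntegral.isIntegral _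
  have h3 : finrank F (IntermediateField.adjoin F {(x : K)}) = (minpoly F (x : K)).natDegree :=
    IntermediateField.adjoin.finrank hint
  have h6 : Nat.card (IntermediateField.adjoin F {(x : K)}) = Fintype.card F ^ (minpoly F (x : K)).natDegree := by
    rw [Module.natCard_eq_pow_finrank (K := F), h3, Nat.card_eq_fintype_card]
  have h7 : (x : K) ^ (Fintype.card F ^ (minpoly F (x : K)).natDegree) = x := by
    have := Fintype.ofFinite (IntermediateField.adjoin F {(x : K)})
    have h8 := FiniteField.pow_card (⟨(x : K), IntermediateField.mem_adjoin_simple_self F (x : K)⟩ :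
      IntermediateField.adjoin F {(x : K)})
    rw [← Nat.card_eq_fintype_card, h6] at h8
    exact congrArg Subtype.val h8
  have hpos : 0 < (minpoly F (x : K)).natDegree := minpoly.natDegree_pos hint
  by_contra hlt
  set d := (minpoly F (x : K)).natDegree with hd
  have h1 : 1 ≤ Fintype.card F ^ d := Nat.one_le_pow _ _ (by omega)
  have h9 : x ^ (Fintype.card F ^ d - 1) = 1 := by
    have h10 : x ^ (Fintype.card F ^ d) = x := by
      apply Units.ext
      rw [Units.val_pow_eq_pow_val]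
      exact h7
    have h11 : x ^ (Fintype.card F ^ d - 1) * x = 1 * x := by
      rw [← pow_succ, Nat.sub_add_cancel h1, h10, one_mul]
    exact mul_right_cancel h11
  have h12 := orderOf_dvd_of_pow_eq_one h9
  rw [hx] at h12
  have h13 : Fintype.card F ^ 1 ≤ Fintype.card F ^ d := Nat.pow_le_pow_right (by omega) hpos
  have h14 : Fintype.card F ^ d ≤ Fintype.card F ^ 2 := Nat.pow_le_pow_right (by omega) (by omega)
  have h15 : Fintype.card F ^ 2 < Fintype.card F ^ 3 := Nat.pow_lt_pow_right (by omega) (by norm_num)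
  rw [pow_one] at h13
  have h16 := Nat.le_of_dvd (by omega) h12
  omega

/-- the functional -/
theorem exists_phi {K : Type} [Field K] [Algebra F K] {x : K} (h : 3 ≤ (minpoly F x).natDegree) :
    ∃ φ : K →ₗ[F] F, φ 1 ≠ 0 ∧ φ x = 0 ∧ φ (x * x) = 0 := by
  have h1 := linearIndependent_pow (K := F) x
  have h2 : (1 : K) ∉ Submodule.span F ({x, x * x} : Set K) := by
    intro h3
    obtain ⟨a, b, hab⟩ := Submodule.mem_span_pair.1 h3
    have h4 := h1.comp (fun i : Fin 3 => (⟨(i : ℕ), by omega⟩ : Fin (minpoly F x).natDegree)) (by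
      intro i j hij
      exact Fin.ext (Fin.mk.inj_iff.1 hij))
    rw [Fintype.linearIndependent_iff] at h4
    have h5 := h4 ![-1, a, b] (by
      rw [Fin.sum_univ_three]
      change (-1 : F) • x ^ 0 + a • x ^ 1 + b • x ^ 2 = 0
      rw [pow_zero, pow_one, pow_two, ← hab]
      module) 0
    exact one_ne_zero (neg_eq_zero.1 h5)
  obtain ⟨f, hf1, hf2⟩ := Submodule.exists_dual_map_eq_bot_of_notMem h2 inferInstance
  refine ⟨f, hf1, ?_, ?_⟩
  · have h3 : f x ∈ (Submodule.span F ({x, x * x} : Set K)).map f :=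
      Submodule.mem_map_of_mem (Submodule.subset_span (by simp))
    rw [hf2] at h3
    exact (Submodule.mem_bot F).1 h3
  · have h3 : f (x * x) ∈ (Submodule.span F ({x, x * x} : Set K)).map f :=
      Submodule.mem_map_of_mem (Submodule.subset_span (by simp))
    rw [hf2] at h3
    exact (Submodule.mem_bot F).1 h3

/-- the data: `ω` of order `q + 1`, `μ` of order `N`, `N ∣ q³ + 1` -/
theorem exists_dat {p a N : ℕ} (hp : p.Prime) (hF : Fintype.card F = p ^ a) (hN : N ∣ Fintype.card F ^ 3 + 1) :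
    ∃ (K : Type) (_ : Field K) (_ : Algebra F K) (_ : FiniteDimensional F K) (σ : K →ₐ[F] K) (φ : K →ₗ[F] F)
      (ω μ : Kˣ) (α : K) (c : F), finrank F K = 6 ∧ Dat σ φ (ω : K) α c ∧ orderOf ω = Fintype.card F + 1 ∧
        orderOf μ = N ∧ (μ : K) * σ μ = 1 := by
  have hpp := Fact.mk hp
  have hq : 2 ≤ Fintype.card F := Fintype.one_lt_card
  have hch : CharP F p := charP_of_card_eq_prime_pow (f := a) hF
  let K := FiniteField.Extension F p 6
  have hK : finrank F K = 6 := FiniteField.finrank_extension F p 6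
  have hKc : Nat.card K = Fintype.card F ^ 6 := by
    rw [← Nat.card_eq_fintype_card]
    exact FiniteField.natCard_extension F p 6
  have hKfin : Finite K := inferInstance
  obtain ⟨θ, hθ⟩ : ∃ θ : Kˣ, orderOf θ = Fintype.card F ^ 6 - 1 := by
    obtain ⟨θ, hθ⟩ := IsCyclic.exists_generator (α := Kˣ)
    refine ⟨θ, ?_⟩
    rw [orderOf_eq_card_of_forall_mem_zpowers hθ, Nat.card_units, hKc]
  set q := Fintype.card F with hqdef
  have hq6 : q ^ 6 - 1 = (q ^ 3 + 1) * (q ^ 3 - 1) := by
    have h1 : q ^ 6 = (q ^ 3) ^ 2 := by ring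
    rw [h1, ← Nat.sq_sub_sq, one_pow]
  have h30 : 2 ^ 3 ≤ q ^ 3 := Nat.pow_le_pow_left hq 3
  have hpos : q ^ 6 - 1 ≠ 0 := by
    rw [hq6]
    exact mul_ne_zero (by omega) (by omega)
  have hd1 : q + 1 ∣ q ^ 3 + 1 := by
    have := Odd.nat_add_dvd_pow_add_pow q 1 (n := 3) (by decide)
    rwa [one_pow] at this
  -- elements of given order
  have hel : ∀ d : ℕ, d ∣ q ^ 3 + 1 → ∃ u : Kˣ, orderOf u = d ∧ u ^ (q ^ 3 + 1) = 1 := by
    intro d hd
    refine ⟨θ ^ (orderOf θ / d), orderOf_pow_orderOf_div (by rw [hθ]; exact hpos) (by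
      rw [hθ, hq6]; exact hd.mul_right _), ?_⟩
    have h1 : orderOf (θ ^ (orderOf θ / d)) = d := orderOf_pow_orderOf_div (by rw [hθ]; exact hpos) (by
      rw [hθ, hq6]; exact hd.mul_right _)
    exact orderOf_dvd_iff_pow_eq_one.1 (by rw [h1]; exact hd)
  obtain ⟨ω, hω, hω1⟩ := hel (q + 1) hd1
  obtain ⟨μ, hμ, hμ1⟩ := hel N hN
  set σ : K →ₐ[F] K := ((FiniteField.frobeniusAlgEquivOfAlgebraic F K ^ 3 : K ≃ₐ[F] K) : K →ₐ[F] K) with hσdef
  have hσ : ∀ z : K, σ z = z ^ q ^ 3 := fun z => frob_pow 3 z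
  have hunit : ∀ u : Kˣ, u ^ (q ^ 3 + 1) = 1 → (u : K) * σ u = 1 := by
    intro u hu
    rw [hσ, ← pow_succ', ← Units.val_pow_eq_pow_val, hu, Units.val_one]
  set α : Kˣ := θ ^ (q ^ 3 + 1) with hα
  have hα1 : orderOf α = q ^ 3 - 1 := by
    have h1 : q ^ 3 + 1 = orderOf θ / (q ^ 3 - 1) := by
      rw [hθ, hq6, Nat.mul_div_cancel _ (by omega)]
    rw [hα, h1]
    exact orderOf_pow_orderOf_div (by rw [hθ]; exact hpos) (by rw [hθ, hq6]; exact dvd_mul_left _ _)
  obtain ⟨φ, hφ1, hφ2, hφ3⟩ := exists_phi (three_le_degree (F := F) hα1)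
  -- `ω ^ q = ω⁻¹`
  have hωq : (ω : K) ^ q * ω = 1 := by
    have h1 : ω ^ (q + 1) = 1 := by rw [← hω, pow_orderOf_eq_one]
    rw [← pow_succ, ← Units.val_pow_eq_pow_val, h1, Units.val_one]
  have hσω : σ (ω : K) = (ω : K) ^ q := by
    have h1 := hunit ω hω1
    have h2 : (ω : K) ≠ 0 := ω.ne_zero
    apply mul_left_cancel₀ h2
    rw [h1, mul_comm, hωq]
  obtain ⟨c, hc⟩ := exists_algebraMap (F := F) (x := (ω : K) + σ ω) (by
    have h1 : ∀ z w : K, (z + w) ^ q = z ^ q + w ^ q := fun z w => by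
      have h2 := map_add (FiniteField.frobeniusAlgEquivOfAlgebraic F K) z w
      rwa [FiniteField.coe_frobeniusAlgEquivOfAlgebraic] at h2
    rw [← hqdef, h1, hσω]
    have h3 : ((ω : K) ^ q) ^ q = ω := by
      have h4 : ((ω : K) ^ q * ω) ^ q = 1 := by rw [hωq, one_pow]
      rw [mul_pow] at h4
      have h5 : (ω : K) ^ q ≠ 0 := pow_ne_zero _ ω.ne_zero
      apply mul_right_cancel₀ h5
      rw [h4, mul_comm, hωq]
    rw [h3, add_comm])
  have hnm : ∀ z : F, algebraMap F K z ≠ ω := by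
    intro z hz
    have h1 : (ω : K) ^ q = ω := by
      rw [← hz, ← map_pow, hqdef, FiniteField.pow_card]
    have h2 : ω ^ 2 = 1 := by
      apply Units.ext
      rw [Units.val_pow_eq_pow_val, Units.val_one, pow_two]
      rw [h1] at hωq
      exact hωq
    have h3 := orderOf_dvd_of_pow_eq_one h2
    rw [hω] at h3
    have := Nat.le_of_dvd (by norm_num) h3
    omega
  refine ⟨K, inferInstance, inferInstance, inferInstance, σ, φ, ω, μ, α, c, hK, ?_, hω, hμ, hunit μ hμ1⟩
  refine ⟨?_, ?_, hunit ω hω1, hc, hnm, ?_, α.ne_zero, hφ1, hφ2, hφ3⟩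
  · intro z
    rw [hσ, hσ, ← pow_mul]
    have := Fintype.ofFinite K
    have h1 : q ^ 3 * q ^ 3 = Fintype.card K := by
      rw [← Nat.card_eq_fintype_card, hKc]
      ring
    rw [h1, FiniteField.pow_card]
  · by_contra hcon
    push Not at hcon
    have h1 := hcon 1
    rw [map_one] at h1
    have h2 := hcon (ω : K)
    have h3 : (ω : K) * ω = -1 := by
      have h4 := hunit ω hω1
      have h5 : σ (ω : K) = -ω := by linear_combination h2
      rw [h5] at h4
      linear_combination -h4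
    have h4 : ω ^ 2 = 1 := by
      apply Units.ext
      rw [Units.val_pow_eq_pow_val, Units.val_one, pow_two, h3]
      linear_combination -h1
    have h5 := orderOf_dvd_of_pow_eq_one h4
    rw [hω] at h5
    have := Nat.le_of_dvd (by norm_num) h5
    omega
  · rw [hσ, hα, ← Units.val_pow_eq_pow_val]
    congr 1
    rw [← pow_mul]
    have h1 : (q ^ 3 + 1) * q ^ 3 = orderOf θ + (q ^ 3 + 1) := by
      rw [hθ, hq6]
      obtain ⟨m, hm⟩ : ∃ m, q ^ 3 = m + 1 := ⟨q ^ 3 - 1, by omega⟩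
      rw [hm]
      simp only [Nat.add_sub_cancel]
      ring
    rw [h1, pow_add, pow_orderOf_eq_one, one_mul]

end Cfsg.Agent.H466.O8S
end

-- part: H466/O8S/Wit
section
/-!
# S3938-OPLUS8 (O2): `exists_wit`
-/

set_option autoImplicit false
set_option linter.unusedSectionVars false

namespace Cfsg.Agent.H466.O8S

open Module QuadraticMap Cfsg Cfsg.Geo Cfsg.Agent.LieClassical.OrthCore Cfsg.Agent.H955 Cfsg.Agent.H954.TSing
open Cfsg.Agent.LieClassical.OmegaReindex Cfsg.Agent.H957
open Cfsg.Agent.H951 (fx cm Inv)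
open Cfsg.Agent.H884.El
open Cfsg.Agent.H708.O8 (I8 T8)
open Cfsg.Agent.H823.O8S
open Cfsg.Agent.H375.O8 (lin_glOf sq_mem_omegaGL)
open scoped MatrixGroups Matrix

section Tr

variable {F K : Type} [Field F] [Field K] [Algebra F K]

/-- multiplication by a unit of `K` -/
def mulK (F : Type) {K : Type} [Field F] [Field K] [Algebra F K] : Kˣ →* ((K × (F × F)) ≃ₗ[F] (K × (F × F))) where
  toFun u :=
    { toFun := fun v => ((u : K) * v.1, v.2)
      map_add' := fun v w => Prod.ext (mul_add _ _ _) rfl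
      map_smul' := fun r v => Prod.ext (mul_smul_comm _ _ _) rfl
      invFun := fun v => (((u⁻¹ : Kˣ) : K) * v.1, v.2)
      left_inv := fun v => Prod.ext (by simp) rfl
      right_inv := fun v => Prod.ext (by simp) rfl }
  map_one' := LinearEquiv.ext fun v => Prod.ext (one_mul _) rfl
  map_mul' u w := LinearEquiv.ext fun v => Prod.ext (mul_assoc _ _ _) rfl

theorem mulK_apply (u : Kˣ) (v : K × (F × F)) : mulK F u v = ((u : K) * v.1, v.2) := rfl

theorem mulK_injective : Function.Injective (mulK F : Kˣ →* ((K × (F × F)) ≃ₗ[F] (K × (F × F)))) := by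
  intro u w h
  have h1 := congrArg (fun T : (K × (F × F)) ≃ₗ[F] (K × (F × F)) => (T (1, 0)).1) h
  simp only [mulK_apply, mul_one] at h1
  exact Units.ext h1

/-- multiplication by `ω` on `F²` -/
def rotV (K : Type) {F : Type} [Field F] [Field K] [Algebra F K] (c : F) :
    (K × (F × F)) ≃ₗ[F] (K × (F × F)) :=
  (LinearEquiv.refl F K).prodCongr (rot c)

theorem rotV_apply (c : F) (v : K × (F × F)) : rotV K c v = (v.1, rot c v.2) := rfl

variable {σ : K →ₐ[F] K} {φ : K →ₗ[F] F} {ω : Kˣ} {α : K} {c : F}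

theorem Dat.rotV_pow (D : Dat σ φ (ω : K) α c) (n : ℕ) (v : K × (F × F)) :
    ((rotV K c ^ n) v).1 = v.1 ∧ eta (ω : K) ((rotV K c ^ n) v).2 = (ω : K) ^ n * eta (ω : K) v.2 := by
  induction n with
  | zero => exact ⟨rfl, by rw [pow_zero, pow_zero, one_mul]; rfl⟩
  | succ n ih =>
    rw [pow_succ', LinearEquiv.mul_apply, rotV_apply]
    refine ⟨ih.1, ?_⟩
    simp only
    rw [D.eta_rot, ih.2, pow_succ]
    ring

theorem Dat.orderOf_rotV (D : Dat σ φ (ω : K) α c) : orderOf (rotV K c) = orderOf ω := by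
  rw [orderOf_eq_orderOf_iff]
  intro n
  constructor
  · intro h
    have h1 := (D.rotV_pow n (0, (1, 0))).2
    rw [h] at h1
    have h2 : eta (ω : K) ((1 : F), (0 : F)) = 1 := by rw [eta_apply, map_one, map_zero, zero_mul, add_zero]
    change eta (ω : K) ((1 : F), (0 : F)) = _ * eta (ω : K) ((1 : F), (0 : F)) at h1
    rw [h2, mul_one] at h1
    apply Units.ext
    rw [Units.val_pow_eq_pow_val, ← h1, Units.val_one]
  · intro h
    apply LinearEquiv.ext
    intro v
    obtain ⟨h1, h2⟩ := D.rotV_pow n v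
    have h3 : (ω : K) ^ n = 1 := by rw [← Units.val_pow_eq_pow_val, h, Units.val_one]
    rw [h3, one_mul] at h2
    exact Prod.ext h1 (D.eta_inj h2)

variable (e : (K × (F × F)) ≃ₗ[F] (I8 → F))

/-- the transport -/
noncomputable def Phi : ((K × (F × F)) ≃ₗ[F] (K × (F × F))) →* GL I8 F where
  toFun T := glOf (e.symm.trans (T.trans e))
  map_one' := by
    have h : (e.symm.trans ((1 : (K × (F × F)) ≃ₗ[F] (K × (F × F))).trans e)) = 1 :=
      LinearEquiv.ext fun v => e.apply_symm_apply v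
    rw [h, glOf_one]
  map_mul' S T := by
    rw [← glOf_mul]
    congr 1
    apply LinearEquiv.ext
    intro v
    change e (S (T (e.symm v))) = e (S (e.symm (e (T (e.symm v)))))
    rw [e.symm_apply_apply]

theorem lin_Phi (T : (K × (F × F)) ≃ₗ[F] (K × (F × F))) (v : I8 → F) : lin (Phi e T) v = e (T (e.symm v)) := by
  change lin (glOf (e.symm.trans (T.trans e))) v = _
  rw [lin_glOf]
  rfl

theorem Phi_injective : Function.Injective (Phi e) := by
  intro S T h
  apply LinearEquiv.ext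
  intro v
  have h1 := lin_Phi e S (e v)
  rw [h, lin_Phi, e.symm_apply_apply] at h1
  exact (e.injective h1).symm

/-- transport of endomorphisms -/
def tr (T : Module.End F (K × (F × F))) : Module.End F (I8 → F) :=
  (e : (K × (F × F)) →ₗ[F] (I8 → F)) ∘ₗ T ∘ₗ (e.symm : (I8 → F) →ₗ[F] (K × (F × F)))

theorem tr_apply (T : Module.End F (K × (F × F))) (v : I8 → F) : tr e T v = e (T (e.symm v)) := rfl

theorem Phi_mem (he : ∀ v, quadFormPlus 4 F (e v) = QV σ φ c v)
    {T : (K × (F × F)) ≃ₗ[F] (K × (F × F))} (hT : ∀ v, QV σ φ c (T v) = QV σ φ c v) :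
    Phi e T ∈ isometryGroup F (quadFormPlus 4 F) := by
  rw [H957.mem_isometryGroup]
  intro v
  rw [← Matrix.toLin'_apply]
  change quadFormPlus 4 F (lin (Phi e T) v) = _
  rw [lin_Phi, he, hT, ← he, e.apply_symm_apply]

theorem QV_mulK {u : Kˣ} (hu : (u : K) * σ u = 1) (v : K × (F × F)) :
    QV σ φ c (mulK F u v) = QV σ φ c v := by
  rw [QV_apply, QV_apply, mulK_apply]
  simp only
  have h : (u : K) * v.1 * σ ((u : K) * v.1) = v.1 * σ v.1 := by
    rw [map_mul]
    linear_combination (v.1 * σ v.1) * hu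
  rw [h]

theorem QV_rotV (v : K × (F × F)) : QV σ φ c (rotV K c v) = QV σ φ c v := by
  rw [QV_apply, QV_apply, rotV_apply]
  simp only
  rw [nn_rot]

/-- the two submodules -/
abbrev PK : Submodule F (I8 → F) :=
  LinearMap.range ((e : (K × (F × F)) →ₗ[F] (I8 → F)) ∘ₗ LinearMap.inl F K (F × F))

abbrev PE : Submodule F (I8 → F) :=
  LinearMap.range ((e : (K × (F × F)) →ₗ[F] (I8 → F)) ∘ₗ LinearMap.inr F K (F × F))

theorem finrank_PK : finrank F (PK e) = finrank F K :=
  LinearMap.finrank_range_of_inj (e.injective.comp LinearMap.inl_injective)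

theorem finrank_PE : finrank F (PE e) = 2 := by
  have h : Function.Injective ((e : (K × (F × F)) →ₗ[F] (I8 → F)) ∘ₗ LinearMap.inr F K (F × F)) :=
    e.injective.comp LinearMap.inr_injective
  rw [LinearMap.finrank_range_of_inj h, Module.finrank_prod, Module.finrank_self]

theorem mem_PE {v : I8 → F} : v ∈ PE e ↔ (e.symm v).1 = 0 := by
  constructor
  · rintro ⟨a, rfl⟩
    change (e.symm (e (0, a))).1 = 0
    rw [e.symm_apply_apply]
  · intro h
    refine ⟨(e.symm v).2, ?_⟩
    change e (0, (e.symm v).2) = v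
    rw [← h]
    exact e.apply_symm_apply v

theorem mem_PK {v : I8 → F} : v ∈ PK e ↔ (e.symm v).2 = 0 := by
  constructor
  · rintro ⟨a, rfl⟩
    change (e.symm (e (a, 0))).2 = 0
    rw [e.symm_apply_apply]
  · intro h
    refine ⟨(e.symm v).1, ?_⟩
    change e ((e.symm v).1, 0) = v
    rw [← h]
    exact e.apply_symm_apply v

theorem mem_cm' {T : Module.End F (I8 → F)} {v : I8 → F} : v ∈ cm T ↔ ∃ w, T w - w = v := by
  rw [cm, LinearMap.mem_range]
  rfl

theorem mem_fx' {T : Module.End F (I8 → F)} {v : I8 → F} : v ∈ fx T ↔ T v = v := by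
  rw [fx, LinearMap.mem_ker, LinearMap.sub_apply, Module.End.one_apply, sub_eq_zero]

theorem cm_mulK {u : Kˣ} (hu : u ≠ 1) : cm (lin (Phi e (mulK F u))) = PK e := by
  ext v
  rw [mem_cm', mem_PK]
  constructor
  · rintro ⟨w, rfl⟩
    rw [lin_Phi, map_sub, e.symm_apply_apply, mulK_apply, Prod.snd_sub]
    exact sub_self _
  · intro h
    have h1 : (u : K) - 1 ≠ 0 := fun h2 => hu (Units.ext (by rw [sub_eq_zero.1 h2]; rfl))
    refine ⟨e (((u : K) - 1)⁻¹ * (e.symm v).1, 0), ?_⟩
    rw [lin_Phi, e.symm_apply_apply, ← map_sub, mulK_apply]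
    have h2 : (((u : K) * (((u : K) - 1)⁻¹ * (e.symm v).1), (0 : F × F)) -
        (((u : K) - 1)⁻¹ * (e.symm v).1, (0 : F × F)) : K × (F × F)) = e.symm v := by
      refine Prod.ext ?_ ?_
      · rw [Prod.fst_sub]
        simp only
        field_simp
      · rw [Prod.snd_sub, h]
        exact sub_self _
    rw [h2, e.apply_symm_apply]

theorem fx_mulK {u : Kˣ} (hu : u ≠ 1) : fx (lin (Phi e (mulK F u))) = PE e := by
  ext v
  rw [mem_fx', mem_PE, lin_Phi]
  have h1 : (u : K) - 1 ≠ 0 := fun h2 => hu (Units.ext (by rw [sub_eq_zero.1 h2]; rfl))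
  constructor
  · intro h
    have h2 := congrArg (fun w => (e.symm w).1) h
    simp only [e.symm_apply_apply, mulK_apply] at h2
    have h3 : ((u : K) - 1) * (e.symm v).1 = 0 := by linear_combination h2
    exact (mul_eq_zero.1 h3).resolve_left h1
  · intro h
    have h2 : mulK F u (e.symm v) = e.symm v := by
      rw [mulK_apply]
      exact Prod.ext (by simp only; rw [h, mul_zero]) rfl
    rw [h2, e.apply_symm_apply]

theorem Dat.cm_rotV (D : Dat σ φ (ω : K) α c) : cm (lin (Phi e (rotV K c ^ 2))) = PE e := by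
  have hω2 : (ω : K) ^ 2 - 1 ≠ 0 := by
    intro h
    have h1 : (ω : K) * ω = 1 := by linear_combination h
    rcases mul_self_eq_one_iff.1 h1 with h5 | h5
    · exact D.nmem 1 (by rw [map_one, h5])
    · exact D.nmem (-1) (by rw [map_neg, map_one, h5])
  ext v
  rw [mem_cm', mem_PE]
  constructor
  · rintro ⟨w, rfl⟩
    rw [lin_Phi, map_sub, e.symm_apply_apply, Prod.fst_sub, (D.rotV_pow 2 _).1, sub_self]
  · intro h
    let f : (F × F) →ₗ[F] (F × F) := ((rot c : (F × F) →ₗ[F] (F × F)) ∘ₗ (rot c : (F × F) →ₗ[F] (F × F))) - LinearMap.id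
    have hf : ∀ a, f a = rot c (rot c a) - a := fun a => rfl
    have hinj : Function.Injective f := by
      rw [← LinearMap.ker_eq_bot, LinearMap.ker_eq_bot']
      intro a ha
      rw [hf] at ha
      have h1 := congrArg (eta (ω : K)) ha
      rw [map_sub, D.eta_rot, D.eta_rot, map_zero] at h1
      have h2 : ((ω : K) ^ 2 - 1) * eta (ω : K) a = 0 := by linear_combination h1
      have h3 := (mul_eq_zero.1 h2).resolve_left hω2
      exact D.eta_inj (h3.trans (map_zero _).symm)
    obtain ⟨a, ha⟩ := LinearMap.surjective_of_injective hinj (e.symm v).2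
    refine ⟨e (0, a), ?_⟩
    rw [lin_Phi, e.symm_apply_apply, ← map_sub]
    have h2 : ((rotV K c ^ 2) ((0, a) : K × (F × F)) - (0, a) : K × (F × F)) = e.symm v := by
      refine Prod.ext ?_ ?_
      · rw [Prod.fst_sub, (D.rotV_pow 2 _).1, h]
        exact sub_self _
      · rw [← ha, hf]
        rfl
    rw [h2, e.apply_symm_apply]

end Tr

section Main

variable {F : Type} [Field F] [Fintype F] {p a r k : ℕ}

theorem mt_eq {q : ℕ} (hq : 1 ≤ q) : (q + 1) / Nat.gcd (q + 1) 2 = H823.O8S.mt q := by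
  rw [H823.O8S.mt, Nat.gcd_comm (q + 1) 2]
  have h : Nat.gcd 2 (q + 1) = Nat.gcd 2 (q - 1) := by
    obtain ⟨m, rfl⟩ : ∃ m, q = m + 1 := ⟨q - 1, by omega⟩
    have h1 : m + 1 + 1 = m + 2 := rfl
    rw [h1, Nat.add_sub_cancel, Nat.gcd_add_self_right]
  rw [h]

/-- (O2), with the hypotheses which are needed -/
theorem exists_wit_core (hF : Nat.card F = p ^ a) (hp : p.Prime) (hr2 : Odd (r ^ k)) (hk : 1 < r ^ k)
    (hdvd : r ^ k ∣ p ^ (3 * a) + 1) :
    ∃ (x t : GL I8 F) (J J' : Module.End F (I8 → F)) (c d : F), Wit x t (r ^ k) ∧ Two x t J J' c d := by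
  have hF' : Fintype.card F = p ^ a := by rw [← Nat.card_eq_fintype_card]; exact hF
  have hN : r ^ k ∣ Fintype.card F ^ 3 + 1 := by
    have h1 : Fintype.card F ^ 3 + 1 = p ^ (3 * a) + 1 := by
      rw [hF', ← pow_mul, mul_comm a 3]
    rw [h1]
    exact hdvd
  obtain ⟨K, _, _, _, σ, φ, ω, μ, α, c, h6, D, hω, hμ, hμσ⟩ := exists_dat hp hF' hN
  obtain ⟨e, he⟩ := exists_plus_equiv 4 (QV σ φ c) D.nondeg (by
    rw [Module.finrank_prod, Module.finrank_prod, Module.finrank_self, h6]) (D.isPlus h6)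
  have he' : ∀ v, quadFormPlus 4 F (e v) = QV σ φ c v := by
    intro v
    rw [← he, LieClassical.QuadForms.coe_plusForm]
  have hcoe : (⇑(quadPlus 4 F)) = quadFormPlus 4 F := coe_quadPlus 4 F
  have hsq : ∀ g : GL I8 F, g ∈ isometryGroup F (quadFormPlus 4 F) → g ^ 2 ∈ omegaGL (quadFormPlus 4 F) := by
    intro g hg
    rw [← hcoe] at hg ⊢
    exact sq_mem_omegaGL quadPlus_nondegenerate (Or.inr (by decide)) hg
  have hμ1 : μ ≠ 1 := by
    intro h1
    rw [h1, orderOf_one] at hμ
    omega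
  -- the square root of `μ`
  obtain ⟨m, hm⟩ := hr2
  have hν : (μ ^ (m + 1)) ^ 2 = μ := by
    rw [← pow_mul]
    have h1 : (m + 1) * 2 = orderOf μ + 1 := by rw [hμ, hm]; ring
    rw [h1, pow_succ, pow_orderOf_eq_one, one_mul]
  have hνσ : ((μ ^ (m + 1) : Kˣ) : K) * σ ((μ ^ (m + 1) : Kˣ) : K) = 1 := by
    rw [Units.val_pow_eq_pow_val, map_pow, ← mul_pow, hμσ, one_pow]
  have hωσ := D.om
  set x : GL I8 F := Phi e (mulK F μ) with hx
  set t : GL I8 F := Phi e (rotV K c ^ 2) with ht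
  let J₀ : Module.End F (K × (F × F)) := ((mulK F ω * rotV K c : (K × (F × F)) ≃ₗ[F] (K × (F × F))) :
    (K × (F × F)) →ₗ[F] (K × (F × F)))
  let J₁ : Module.End F (K × (F × F)) := ((mulK F ω * (rotV K c).symm : (K × (F × F)) ≃ₗ[F] (K × (F × F))) :
    (K × (F × F)) →ₗ[F] (K × (F × F)))
  have hJ₀ : ∀ v, J₀ v = ((ω : K) * v.1, rot c v.2) := fun v => rfl
  have hJ₁ : ∀ v, J₁ v = ((ω : K) * v.1, (rot c).symm v.2) := fun v => rfl
  have hxv : ∀ v, lin x v = e ((μ : K) * (e.symm v).1, (e.symm v).2) := fun v => lin_Phi e _ v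
  have htv : ∀ v, lin t v = e ((e.symm v).1, rot c (rot c (e.symm v).2)) := fun v => by
    rw [ht, lin_Phi, pow_two, LinearEquiv.mul_apply, rotV_apply, rotV_apply]
  have hirr : ∀ z : F, z * z - c * z + 1 ≠ 0 := by
    intro z hz
    have h1 := congrArg (algebraMap F K) hz
    rw [map_add, map_sub, map_mul, map_mul, D.tr, map_one, map_zero] at h1
    have h2 : (algebraMap F K z - ω) * (algebraMap F K z - σ ω) = 0 := by linear_combination h1 + D.om
    rcases mul_eq_zero.1 h2 with h3 | h3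
    · exact D.nmem z (sub_eq_zero.1 h3)
    · have h4 := congrArg σ (sub_eq_zero.1 h3)
      rw [D.inv, AlgHom.commutes] at h4
      exact D.nmem z h4
  refine ⟨x, t, tr e J₀, tr e J₁, c, 1, ?_, ?_⟩
  · refine ⟨?_, ?_, ?_, ?_, ?_, ?_, ?_, ?_⟩
    · have h1 : x = Phi e (mulK F (μ ^ (m + 1))) ^ 2 := by
        rw [← map_pow, ← map_pow, hν]
      rw [h1]
      exact hsq _ (Phi_mem e he' (QV_mulK hνσ))
    · rw [ht, map_pow]
      exact hsq _ (Phi_mem e he' QV_rotV)
    · rw [hx, orderOf_injective (Phi e) (Phi_injective e), orderOf_injective (mulK F) mulK_injective, hμ]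
    · rw [ht, orderOf_injective (Phi e) (Phi_injective e), orderOf_pow' _ (by norm_num), D.orderOf_rotV, hω,
        Nat.card_eq_fintype_card]
      exact mt_eq Fintype.card_pos
    · rw [hx, ht, ← map_mul, ← map_mul]
      congr 1
    · rw [hx, cm_mulK e hμ1, finrank_PK, h6]
    · rw [ht, D.cm_rotV e, finrank_PE]
    · rw [ht, D.cm_rotV e, hx, fx_mulK e hμ1]
  · refine ⟨⟨?_, hirr, ?_⟩, ⟨?_, hirr, ?_⟩, ?_, ?_, ?_, ?_, ?_, ?_⟩
    · apply LinearMap.ext
      intro v
      change tr e J₀ (tr e J₀ v) = c • tr e J₀ v - (1 : F) • v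
      rw [tr_apply, tr_apply, e.symm_apply_apply, one_smul]
      conv_rhs => rw [← e.apply_symm_apply v, e.symm_apply_apply]
      rw [← map_smul, ← map_sub]
      congr 1
      rw [hJ₀, hJ₀]
      refine Prod.ext ?_ ?_
      · rw [Prod.fst_sub, Prod.smul_fst, Algebra.smul_def]
        simp only
        linear_combination (e.symm v).1 * D.sq
      · rw [Prod.snd_sub, Prod.smul_snd]
        simp only [rot_apply]
        refine Prod.ext ?_ ?_
        · simp only [Prod.fst_sub, Prod.smul_fst, smul_eq_mul]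
          ring
        · simp only [Prod.snd_sub, Prod.smul_snd, smul_eq_mul]
          ring
    · intro v
      rw [tr_apply, he', one_mul]
      conv_rhs => rw [← e.apply_symm_apply v, he']
      exact (QV_mulK hωσ _).trans (QV_rotV _)
    · apply LinearMap.ext
      intro v
      change tr e J₁ (tr e J₁ v) = c • tr e J₁ v - (1 : F) • v
      rw [tr_apply, tr_apply, e.symm_apply_apply, one_smul]
      conv_rhs => rw [← e.apply_symm_apply v, e.symm_apply_apply]
      rw [← map_smul, ← map_sub]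
      congr 1
      rw [hJ₁, hJ₁]
      refine Prod.ext ?_ ?_
      · rw [Prod.fst_sub, Prod.smul_fst, Algebra.smul_def]
        simp only
        linear_combination (e.symm v).1 * D.sq
      · rw [Prod.snd_sub, Prod.smul_snd]
        simp only [rot_symm_apply]
        refine Prod.ext ?_ ?_
        · simp only [Prod.fst_sub, Prod.smul_fst, smul_eq_mul]
          ring
        · simp only [Prod.snd_sub, Prod.smul_snd, smul_eq_mul]
          ring
    · intro v
      rw [tr_apply, he', one_mul]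
      conv_rhs => rw [← e.apply_symm_apply v, he']
      refine (QV_mulK hωσ _).trans ?_
      rw [← QV_rotV]
      exact congrArg _ ((rotV K c).apply_symm_apply _)
    · apply LinearMap.ext
      intro v
      change tr e J₀ (lin x v) = lin x (tr e J₀ v)
      rw [tr_apply, hxv, hxv, tr_apply, e.symm_apply_apply, e.symm_apply_apply, hJ₀, hJ₀]
      congr 1
      exact Prod.ext (mul_left_comm _ _ _) rfl
    · apply LinearMap.ext
      intro v
      change tr e J₀ (lin t v) = lin t (tr e J₀ v)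
      rw [tr_apply, htv, htv, tr_apply, e.symm_apply_apply, e.symm_apply_apply, hJ₀, hJ₀]
    · apply LinearMap.ext
      intro v
      change tr e J₁ (lin x v) = lin x (tr e J₁ v)
      rw [tr_apply, hxv, hxv, tr_apply, e.symm_apply_apply, e.symm_apply_apply, hJ₁, hJ₁]
      congr 1
      exact Prod.ext (mul_left_comm _ _ _) rfl
    · apply LinearMap.ext
      intro v
      change tr e J₁ (lin t v) = lin t (tr e J₁ v)
      rw [tr_apply, htv, htv, tr_apply, e.symm_apply_apply, e.symm_apply_apply, hJ₁, hJ₁]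
      simp only [LinearEquiv.symm_apply_apply, LinearEquiv.apply_symm_apply]
    · intro v hv
      rw [hx, cm_mulK e hμ1, mem_PK] at hv
      rw [tr_apply, tr_apply, hJ₀, hJ₁, hv, map_zero, map_zero]
    · intro v hv
      rw [hx, fx_mulK e hμ1, mem_PE] at hv
      rw [tr_apply, tr_apply]
      conv_rhs => rw [← e.apply_symm_apply v, e.symm_apply_apply]
      rw [← map_smul, ← map_sub]
      congr 1
      rw [hJ₀, hJ₁, hv]
      refine Prod.ext ?_ ?_
      · rw [Prod.fst_sub, Prod.smul_fst]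
        simp only [hv, mul_zero, smul_zero, sub_zero]
      · rw [Prod.snd_sub, Prod.smul_snd]
        simp only [rot_apply, rot_symm_apply]
        refine Prod.ext ?_ ?_
        · simp only [Prod.fst_sub, Prod.smul_fst, smul_eq_mul]
          ring
        · simp only [Prod.snd_sub, Prod.smul_snd, smul_eq_mul]
          ring

/-- (O2) existence of `x`, `t` and of the two fields -/
theorem exists_wit (hF : Nat.card F = p ^ a) (h : RK p a r k) :
    ∃ (x t : GL I8 F) (J J' : Module.End F (I8 → F)) (c d : F), Wit x t (r ^ k) ∧ Two x t J J' c d := by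
  refine exists_wit_core hF h.hp ?_ ?_ h.dvd
  · have hr : Odd r := by
      refine h.prim.prime.odd_of_ne_two fun h2 => ?_
      rcases h.cases with h3 | h3 <;> omega
    exact hr.pow
  · rcases h.cases with h3 | h3
    · rw [h3.2, pow_one]
      omega
    · rw [h3.1, h3.2]
      norm_num

end Main

end Cfsg.Agent.H466.O8S
end

-- part: H823/O8S/RowOf
section
/-!
# S3938-OPLUS8: `Spr (PΩ⁺₈(q))`, `q ≥ 4`, `q ≠ 5`, from the open pieces (O3), (O4), (O6), (O7), (O12) (helper823)
-/

set_option autoImplicit false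
set_option linter.unusedSectionVars false

namespace Cfsg.Agent.H823.O8S

open Module QuadraticMap Cfsg Cfsg.Geo Cfsg.Agent.LieClassical.OrthCore Cfsg.Agent.H955 Cfsg.Agent.H954.TSing
open Cfsg.Agent.LieClassical.OmegaReindex Cfsg.Agent.OrdDiv Cfsg.Agent.H915.LD Cfsg.Agent.H902 Cfsg.Agent.H902.Names Cfsg.Agent.H436 Cfsg.Agent.H264.GN Cfsg.Agent.H915.GN
open Cfsg.Agent.H951 (fx cm Inv)
open Cfsg.Agent.H884.El
open Cfsg.Agent.H708.O8 (I8 T8)
open Cfsg.Agent.H424.Spr
open scoped MatrixGroups Matrix Pointwise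

/-- `PΩ⁺₈(q)` is not commutative -/
theorem exists_noncomm {F : Type} [Field F] [Fintype F] [IsSimpleGroup (T8 F)] {U V : Subgroup (T8 F)} (h1 : ¬ U ≤ V)
    (h2 : U ≠ ⊤) : ∃ u v : T8 F, u * v ≠ v * u := by
  by_contra hcon
  push Not at hcon
  have hn : U.Normal := ⟨fun n hn g => by rw [hcon g n, mul_inv_cancel_right]; exact hn⟩
  rcases IsSimpleGroup.eq_bot_or_eq_top_of_normal U hn with h | h
  · exact h1 (h ▸ bot_le)
  · exact h2 h

/-- the row from the open pieces -/
theorem spr_row_of {F : Type} [Field F] [Fintype F] {p a r k : ℕ} (hF : Nat.card F = p ^ a) (h : RK p a r k)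
    (own : ∀ {R : Subgroup (T8 F)} (_ : R ≠ ⊤) (S : Subgroup R) [S.Normal] (_ : IsSimpleGroup S)
      (_ : ¬ IsMulCommutative S) (_ : Subgroup.centralizer (S : Set R) = ⊥) {P : Subgroup (GL I8 F)}
      (_ : IsResidualCore (pre (quadFormPlus 4 F) R) P) (_ : S ≃* Soc P) (_ : IsLieTypeChar p (Soc P))
      (_ : r ∣ Nat.card R),
      (∃ (K : Type) (_ : Field K) (_ : Fintype K), Fintype.card K = p ^ (3 * a) ∧
        Nonempty (S ≃* Matrix.ProjectiveSpecialLinearGroup (Fin 2) K)) ∨
      IsNamed (.psu 3 (p ^ a)) S ∨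
      (∃ (K : Type) (_ : Field K) (_ : Fintype K), Fintype.card K = p ^ a ∧ Nonempty (S ≃* PSp 3 K)) ∨
      (p ≠ 2 ∧ ∃ (K : Type) (_ : Field K) (_ : Fintype K), Fintype.card K = p ^ a ∧
        Nonempty (S ≃* POmega K (quadFormOdd 3 K))))
    (cross : ∀ {R : Subgroup (T8 F)} (S : Subgroup R) [S.Normal] (_ : IsSimpleGroup S)
      (_ : ¬ IsMulCommutative S) (_ : Subgroup.centralizer (S : Set R) = ⊥) {P : Subgroup (GL I8 F)}
      (_ : IsResidualCore (pre (quadFormPlus 4 F) R) P) (_ : S ≃* Soc P) (_ : ¬ IsLieTypeChar p (Soc P))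
      {x t : R} (_ : orderOf x = r ^ k) (_ : orderOf t = mt (p ^ a)) (_ : x * t = t * x), False)
    (sp6 : ∀ {R : Type} [Group R] [Finite R] (S : Subgroup R) [S.Normal] (_ : Subgroup.centralizer (S : Set R) = ⊥)
      {x t : R} (_ : orderOf x = r ^ k) (_ : orderOf t = mt (p ^ a)) (_ : x * t = t * x) {K : Type} [Field K] [Fintype K]
      (_ : Fintype.card K = p ^ a) (_ : S ≃* PSp 3 K),
      ∃ t₁ t₂ t₃ : R, IsConj t t₁ ∧ IsConj t t₂ ∧ IsConj t t₃ ∧ t * t₁ = t₁ * t ∧ t * t₂ = t₂ * t ∧ t * t₃ = t₃ * t ∧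
        t₁ ∉ Subgroup.zpowers t ∧ t₂ ∉ Subgroup.zpowers t ∧ t₃ ∉ Subgroup.zpowers t ∧ t₁ * t₂ * t₃ = t)
    (po7 : ∀ {R : Type} [Group R] [Finite R] (S : Subgroup R) [S.Normal] (_ : Subgroup.centralizer (S : Set R) = ⊥)
      {x t : R} (_ : orderOf x = r ^ k) (_ : orderOf t = mt (p ^ a)) (_ : x * t = t * x) {K : Type} [Field K] [Fintype K]
      (_ : p ≠ 2) (_ : Fintype.card K = p ^ a) (_ : S ≃* POmega K (quadFormOdd 3 K)),
      ∃ t₁ t₂ t₃ : R, IsConj t t₁ ∧ IsConj t t₂ ∧ IsConj t t₃ ∧ t * t₁ = t₁ * t ∧ t * t₂ = t₂ * t ∧ t * t₃ = t₃ * t ∧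
        t₁ ∉ Subgroup.zpowers t ∧ t₂ ∉ Subgroup.zpowers t ∧ t₃ ∉ Subgroup.zpowers t ∧ t₁ * t₂ * t₃ = t)
    (hH : ∀ {x t : GL I8 F} {J J' : Module.End F (I8 → F)} {c d : F} (_ : Wit x t (r ^ k)) (_ : Two x t J J' c d)
      (a : MulAut (T8 F)) (_ : ∃ y : T8 F, a • U₁ x = H424.Spr.c y • U₁ x) (_ : ∃ y : T8 F, a • U₂ J c = H424.Spr.c y • U₂ J c)
      (_ : ∃ y : T8 F, a • U₂ J' c = H424.Spr.c y • U₂ J' c) (_ : a • U₁ x ≠ U₁ x),
      ∃ y ∈ U₁ x, a • (H424.Spr.c y • U₂ J c) ≠ H424.Spr.c y • U₂ J c ∧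
        a • (H424.Spr.c y • U₂ J' c) ≠ H424.Spr.c y • U₂ J' c) : Spr (T8 F) := by
  have hs : IsSimpleGroup (T8 F) := S0296.result 4 le_rfl
  obtain ⟨x, t, J, J', c, d, w, f⟩ := H466.O8S.exists_wit hF h
  obtain ⟨n1, n2, n3, n4⟩ := H264.O8S.u_not_le hF h w f
  refine spr_of_over hF h.weak w f (exists_noncomm n1 n3) ?_ ?_
  · intro K hx ht hK
    rcases geo_row hF h w f (H884.El.pre_le (Q := quadFormPlus 4 F) (M := K)) hx ht with h1 | h1 | h1 | h1
    · exact Or.inl (le_tp h1)
    · exact Or.inr (Or.inl (le_tp h1))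
    · exact Or.inr (Or.inr (le_tp h1))
    · exfalso
      refine residual hF h w own cross ?_ sp6 po7 ?_ hx ht hK h1
      · intro R _ _ S _ hC x t hx ht hxt K _ _ hK e
        exact H118.O8S.psl2_conj S hC hx ht hxt hK h e
      · intro R _ _ S _ hC x t hx ht hxt hS
        exact H332.O8S.psu3_false S hC hx ht hxt h hS
  · intro e h1 h2 h3 h4
    exact hH w f e h1 h2 h3 h4

end Cfsg.Agent.H823.O8S
end

private theorem dce_69c03750b19a : _root_.True := by
  try have : _root_.True := by simp only [_root_.Cfsg.Agent.H466.O8S.nn.eq_1]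
  try have : _root_.True := by simp only [_root_.Cfsg.Agent.H823.O8S.mt.eq_1]
  try have : _root_.True := by simp only [_root_.Cfsg.Agent.H466.O8S.QV.eq_1]
  exact _root_.True.intro
end

-- part: H823/O8S/Row
section
set_option linter.all false
open scoped Cfsg.Agent.FastGrp

/-!
# S3938-OPLUS8: `Spr (PΩ⁺₈(q))`, `q ≥ 4`, `q ≠ 5`, from (O7) (helper823)
-/

set_option autoImplicit false
set_option linter.unusedSectionVars false

namespace Cfsg.Agent.H823.O8S

open Module QuadraticMap Cfsg Cfsg.Geo Cfsg.Agent.LieClassical.OrthCore Cfsg.Agent.H955 Cfsg.Agent.H954.TSing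
open Cfsg.Agent.LieClassical.OmegaReindex Cfsg.Agent.OrdDiv Cfsg.Agent.H915.LD Cfsg.Agent.H902 Cfsg.Agent.H902.Names Cfsg.Agent.H436 Cfsg.Agent.H264.GN Cfsg.Agent.H915.GN
open Cfsg.Agent.H951 (fx cm Inv)
open Cfsg.Agent.H884.El
open Cfsg.Agent.H708.O8 (I8 T8)
open Cfsg.Agent.H424.Spr
open scoped MatrixGroups Matrix Pointwise

/-- (O7) -/
def Po7 : Prop := ∀ {p a r k : ℕ} (_ : RK p a r k) {R : Type} [Group R] [Finite R] (S : Subgroup R) [S.Normal]
  (_ : Subgroup.centralizer (S : Set R) = ⊥)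
  {x t : R} (_ : orderOf x = r ^ k) (_ : orderOf t = mt (p ^ a)) (_ : x * t = t * x) {K : Type} [Field K] [Fintype K]
  (_ : p ≠ 2) (_ : Fintype.card K = p ^ a) (_ : S ≃* POmega K (quadFormOdd 3 K)),
  ∃ t₁ t₂ t₃ : R, IsConj t t₁ ∧ IsConj t t₂ ∧ IsConj t t₃ ∧ t * t₁ = t₁ * t ∧ t * t₂ = t₂ * t ∧ t * t₃ = t₃ * t ∧
    t₁ ∉ Subgroup.zpowers t ∧ t₂ ∉ Subgroup.zpowers t ∧ t₃ ∉ Subgroup.zpowers t ∧ t₁ * t₂ * t₃ = t

theorem spr_row_po7 (hKn : ∀ (X : Type) [Group X] [Finite X] [IsSimpleGroup X], Cfsg.IsKnownSimple' X) (po7 : Po7)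
    {F : Type} [Field F] [Fintype F] (h4 : 4 ≤ Nat.card F) (h5 : Nat.card F ≠ 5) : Spr (T8 F) := by
  obtain ⟨p, hp⟩ := CharP.exists F
  obtain ⟨a, hpp, ha⟩ := FiniteField.card F p
  have hF : Nat.card F = p ^ (a : ℕ) := by rw [Nat.card_eq_fintype_card, ha]
  obtain ⟨r, k, h⟩ := H59.O8S.exists_rk hpp a.pos (hF ▸ h4) (hF ▸ h5)
  refine spr_row_of hF h ?_ ?_ ?_ ?_ ?_
  · intro R hR S _ hS hna hC P hP e hL hr
    exact H911.O8S.own hF h.weak hR S hS hna hC hP e hL hr
  · intro R S _ hS hna hC P hP e hL x t hx ht hxt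
    have hs : IsSimpleGroup (Soc P) := (H915.LD.core_of_residual hP).simple
    exact H532.O8S.cross_of_known hF h S hS hna hC hP e hL (hKn _) hx ht hxt
  · intro R _ _ S _ hC x t hx ht hxt K _ _ hK e
    exact H466.O8S.sp6_conj S hC hx ht hxt hK h e
  · intro R _ _ S _ hC x t hx ht hxt K _ _ hp2 hK e
    exact po7 h S hC hx ht hxt hp2 hK e
  · intro x t J J' c d w f e h1 h2 h3 h6
    exact H424.O8L.hH hF h w f e h1 h2 h3 h6

end Cfsg.Agent.H823.O8S
end

-- part: H688/Spr/RowT_mg
section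

end

-- part: H688/Spr/OMinusAll_mg
section
prune_inst 0xc01020042c0200080000200000001c02a2000000000804000c000000048028020d000020a2100103102000040030000001000000020000000a000000011c00800000800020000000000000000100000000000000000000000000000000000000000000000
set_option linter.all false
open scoped Cfsg.Agent.FastGrp

-- part: H688/Spr/TwoA
section
/-!
# S3938, `PΩ⁻₁₈(2)`: isometries over the field with two elements (helper688)

`exists_pair` : an isometry `T ≠ 1` over `F₂` which is not a transvection `z ↦ z + b(z, w) w` moves the three nonzero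
vectors of some hyperbolic plane.
-/

set_option autoImplicit false
set_option linter.unusedSectionVars false

namespace Cfsg.Agent.H688.Spr.Two

open Cfsg Cfsg.Geo Module
open QuadraticMap hiding proj
open Cfsg.Agent.LieClassical.OrthCore Cfsg.Agent.LieClassical.OrthTrans
open Cfsg.Agent.AutOrth.SemiSim (IsSemi)

section

variable {F V : Type*} [Field F] [Finite F] [AddCommGroup V] [Module F V] [FiniteDimensional F V]
  {Q : QuadraticForm F V}

theorem f2 (hF : Nat.card F = 2) (c : F) : c = 0 ∨ c = 1 := by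
  by_cases h : c = 0
  · exact Or.inl h
  · right
    have := Fintype.ofFinite F
    have h1 := FiniteField.pow_card_sub_one_eq_one c h
    rw [← Nat.card_eq_fintype_card, hF] at h1
    simpa using h1

theorem two0 (hF : Nat.card F = 2) : (1 : F) + 1 = 0 := by
  rcases f2 hF ((1 : F) + 1) with h | h
  · exact h
  · exfalso
    have h1 : (1 : F) = 0 := by linear_combination h
    exact one_ne_zero h1

theorem addself (hF : Nat.card F = 2) (v : V) : v + v = 0 := by
  have h1 : v + v = ((1 : F) + 1) • v := by rw [add_smul, one_smul]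
  rw [h1, two0 hF, zero_smul]

theorem negself (hF : Nat.card F = 2) (v : V) : -v = v := neg_eq_of_add_eq_zero_left (addself hF v)

theorem subeq (hF : Nat.card F = 2) (v w : V) : v - w = v + w := by rw [sub_eq_add_neg, negself hF w]

theorem polself (hF : Nat.card F = 2) (v : V) : polar Q v v = 0 := by
  rw [polar, addself hF, map_zero, zero_sub, sub_eq_add_neg, ← neg_add]
  have h := addself (V := F) hF (Q v)
  rw [h, neg_zero]

variable {T : V ≃+ V} {σ : F ≃+* F} {μ : F}

theorem sig (hF : Nat.card F = 2) (c : F) : σ c = c := by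
  rcases f2 hF c with rfl | rfl
  · exact map_zero σ
  · exact map_one σ

theorem semi_smul (hF : Nat.card F = 2) (hM : IsSemi Q T σ μ) (c : F) (v : V) : T (c • v) = c • T v := by
  rw [hM.smul, sig hF]

theorem semi_form (hF : Nat.card F = 2) (hM : IsSemi Q T σ μ) (v : V) : Q (T v) = Q v := by
  rw [hM.form, sig hF, (f2 hF μ).resolve_left hM.ne, one_mul]

theorem semi_polar (hF : Nat.card F = 2) (hM : IsSemi Q T σ μ) (v w : V) : polar Q (T v) (T w) = polar Q v w := by
  rw [hM.polar, sig hF, (f2 hF μ).resolve_left hM.ne, one_mul]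

/-- **a hyperbolic plane meeting the fixed space trivially** -/
theorem exists_pair (hF : Nat.card F = 2) (hG : Good Q) (hd : 7 ≤ finrank F V) (hM : IsSemi Q T σ μ)
    (hT : ∃ v, T v ≠ v) (hnr : ∀ w, ∃ z, T z ≠ z + polar Q z w • w) :
    ∃ u v, Hyp Q u v ∧ T u ≠ u ∧ T v ≠ v ∧ T (u + v) ≠ u + v := by
  obtain ⟨x, y, hxy⟩ := hG.exists_hyp
  -- a singular vector moved by `T`
  obtain ⟨u, hu, hTu⟩ : ∃ u, Q u = 0 ∧ T u ≠ u := by
    by_contra hcon
    push Not at hcon
    obtain ⟨v, hv⟩ := hT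
    apply hv
    refine sing_induction (Q := Q) hxy (P := fun a => T a = a) ?_ hcon v
    intro a c ha hc
    rw [map_add, ha, hc]
  have hu0 : u ≠ 0 := by
    rintro rfl
    exact hTu (map_zero T)
  have hD : ∀ x, T x = x → ∀ z, polar Q x (T z + z) = 0 := by
    intro x hx z
    rw [polar_add_right]
    nth_rewrite 1 [← hx]
    rw [semi_polar hF hM]
    exact addself (V := F) hF _
  have hpol : ∀ a b : V, polar Q a b = 0 ∨ polar Q a b = 1 := fun a b => f2 hF _
  -- the vector `z`
  obtain ⟨z, hz0, hzu, hzU⟩ : ∃ z, z ≠ 0 ∧ polar Q z u = 0 ∧ ∀ x, T x = x → polar Q z x = 0 := by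
    by_contra hcon
    push Not at hcon
    have key : ∀ y, T y + y ≠ 0 → polar Q (T y + y) u = 1 := by
      intro y hy
      rcases hpol (T y + y) u with h | h
      · exfalso
        obtain ⟨x, hx, hne⟩ := hcon _ hy h
        apply hne
        rw [polar_comm]
        exact hD x hx y
      · exact h
    have hw0 : T u + u ≠ 0 := by
      intro h
      apply hTu
      rw [← subeq hF] at h
      exact sub_eq_zero.1 h
    set w := T u + u with hw
    have hwu := key u hw0
    rw [← hw] at hwu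
    have hQw : Q w = 1 := by
      have h1 : Q w = Q (T u) + Q u + polar Q (T u) u := Q_add _ _
      rw [semi_form hF hM, hu, add_zero, zero_add] at h1
      rw [h1]
      have h2 : polar Q w u = polar Q (T u) u + polar Q u u := by rw [hw, polar_add_left]
      rw [polself hF, add_zero] at h2
      rw [← h2, hwu]
    obtain ⟨z, hz⟩ := hnr w
    apply hz
    by_cases h0 : T z + z = 0
    · have h1 : T z = z := by
        rw [← subeq hF] at h0
        exact sub_eq_zero.1 h0
      rw [h1, hw, hD z h1 u, zero_smul, add_zero]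
    · have h1 : T z + z = w := by
        by_contra hne
        have h2 : T (z + u) + (z + u) = (T z + z) + w := by
          rw [map_add, hw]
          abel
        have h3 : T (z + u) + (z + u) ≠ 0 := by
          intro h4
          rw [h2, ← subeq hF] at h4
          exact hne (sub_eq_zero.1 h4)
        have h5 := key _ h3
        rw [h2, polar_add_left, key z h0, hwu, two0 hF] at h5
        exact zero_ne_one h5
      have h2 : T z = z + w := by
        rw [← h1, add_comm (T z) z, ← add_assoc, addself hF, zero_add]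
      have h3 : polar Q z w = 1 := by
        have h4 := semi_form hF hM z
        rw [h2, Q_add, hQw] at h4
        rcases hpol z w with h | h
        · rw [h, add_zero] at h4
          have : (1 : F) = 0 := by linear_combination h4
          exact absurd this one_ne_zero
        · exact h
      rw [h3, one_smul, h2]
  -- the second vector
  obtain ⟨v₀, hv₀⟩ := exists_hyp hG.nondeg hu hu0
  obtain ⟨v, hv, hzv⟩ : ∃ v, Hyp Q u v ∧ polar Q z v = 1 := by
    by_cases h1 : polar Q z v₀ = 1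
    · exact ⟨v₀, hv₀, h1⟩
    have h1' : polar Q z v₀ = 0 := (hpol z v₀).resolve_right h1
    obtain ⟨z₁, a1, a2, a3, a4⟩ := Cfsg.Agent.H604.Spr.exists_sing_sep hG.nondeg hd (a := u) (b := v₀) (c := z) (by
      intro s t hst
      have h2 := hzu
      rw [hst, polar_add_left, polar_smul_left, polar_smul_left, hv₀.polar_left, hv₀.pair', smul_zero, zero_add,
        smul_eq_mul, mul_one] at h2
      rw [h2, zero_smul, add_zero] at hst
      rcases f2 hF s with rfl | rfl
      · rw [zero_smul] at hst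
        exact hz0 hst
      · rw [one_smul] at hst
        apply h1
        rw [hst, hv₀.pair])
    refine ⟨v₀ + z₁, ⟨hu, ?_, ?_⟩, ?_⟩
    · rw [Q_add, hv₀.right, a1, a3]
      simp
    · rw [polar_add_right, hv₀.pair, a2, add_zero]
    · rw [polar_add_right, h1', zero_add]
      exact (hpol z z₁).resolve_left a4
  refine ⟨u, v, hv, hTu, ?_, ?_⟩
  · intro h
    rw [hzU v h] at hzv
    exact zero_ne_one hzv
  · intro h
    have h1 := hzU _ h
    rw [polar_add_right, hzu, hzv, zero_add] at h1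
    exact one_ne_zero h1

end

end Cfsg.Agent.H688.Spr.Two
end

-- part: H688/Spr/TwoB
section
/-!
# S3938, `PΩ⁻₁₈(2)`: fields with four elements (helper688)

* `no_ext_refl` : an irreducible group of isometries over `F₂` invariant under a transvection normalises no field of
  matrices with four elements;
* `no_ext_even` : an irreducible group with a block element of order dividing `2 ^ a + 1`, `a` even, and fixed space a
  hyperbolic plane normalises no such field.
-/

set_option autoImplicit false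
set_option linter.unusedSectionVars false

namespace Cfsg.Agent.H688.Spr.Two

open Cfsg Cfsg.Geo Module
open QuadraticMap hiding proj
open Cfsg.Agent.H278.Cov Cfsg.Agent.H383.Cov Cfsg.Agent.H688.Cov
open Cfsg.Agent.LieClassical.OrthCore Cfsg.Agent.LieClassical.OrthTrans
open Cfsg.Agent.AutOrth.SemiSim (IsSemi)
open Cfsg.Agent.H604.Spr (Bad tg tg_apply)
open scoped MatrixGroups Matrix

variable {ι : Type} [Fintype ι] [DecidableEq ι] {F : Type} [Field F] [Finite F] {Q : QuadraticForm F (ι → F)}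

theorem field_cancel {r : ℕ} {E : Subalgebra F (Matrix ι ι F)} (hE : IsFieldSubalgebra r E) {a b : Matrix ι ι F}
    (ha : a ∈ E) (h0 : a ≠ 0) (hab : a * b = 0) : b = 0 := by
  obtain ⟨c, hc, hac⟩ := hE.inv a ha h0
  have h1 : c * a = 1 := by rw [hE.comm c hc a ha, hac]
  calc b = (c * a) * b := by rw [h1, one_mul]
    _ = 0 := by rw [mul_assoc, hab, mul_zero]

theorem gen4 [Nonempty ι] (hF : Nat.card F = 2) {E : Subalgebra F (Matrix ι ι F)} (hE : IsFieldSubalgebra 2 E) :
    ∃ e ∈ E, e * e = e + 1 := by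
  obtain ⟨e, he, hne⟩ : ∃ e ∈ E, e ^ Nat.card F ≠ e := by
    by_contra hcon
    push Not at hcon
    exact no_fix hE hcon
  refine ⟨e, he, ?_⟩
  rw [hF, pow_two] at hne
  have h1 := pow_of_even hE he (a := 2) even_two
  rw [hF] at h1
  have h2 : (e * e - e) * (e * e + e + 1) = 0 := by
    have h3 : (e * e - e) * (e * e + e + 1) = e ^ (2 ^ 2) - e := by
      have : (2 : ℕ) ^ 2 = 4 := rfl
      rw [this]
      noncomm_ring
    rw [h3, h1, sub_self]
  have h3 := field_cancel hE (E.sub_mem (E.mul_mem he he) he) (sub_ne_zero.2 hne) h2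
  have h4 : e * e = e * e + e + 1 + (e + 1) := by
    have h5 := addself (V := Matrix ι ι F) hF (e + 1)
    rw [add_assoc (e * e) e 1, add_assoc, h5, add_zero]
  rw [h4, h3, zero_add]

theorem conj4 [Nonempty ι] (hF : Nat.card F = 2) {E : Subalgebra F (Matrix ι ι F)} (hE : IsFieldSubalgebra 2 E)
    {e : Matrix ι ι F} (he : e ∈ E) (he1 : e * e = e + 1) {h : GL ι F} (hh : h ∈ subalgebraNormalizer E) :
    (h : Matrix ι ι F) * e = e * h ∨ (h : Matrix ι ι F) * e = (e + 1) * h := by
  have hf : cj h e ∈ E := (mem_normalizer_iff.1 hh e).1 he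
  have hfh : cj h e * h = (h : Matrix ι ι F) * e := by
    rw [cj_apply, mul_assoc, ← Units.val_mul, inv_mul_cancel, Units.val_one, mul_one]
  have hff : cj h e * cj h e = cj h e + 1 := by
    rw [← map_mul, he1, map_add, map_one]
  set f := cj h e with hfdef
  have hcomm := hE.comm f hf e he
  by_cases h0 : f - e = 0
  · left
    rw [← hfh, sub_eq_zero.1 h0]
  · right
    have h1 : (f - e) * (f + e + 1) = 0 := by
      have h2 : (f - e) * (f + e + 1) = (f * f + f) - (e * e + e) + (f * e - e * f) := by noncomm_ring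
      rw [h2, hcomm, sub_self, add_zero, hff, he1]
      have h3 := addself (V := Matrix ι ι F) hF f
      have h4 := addself (V := Matrix ι ι F) hF e
      have h5 : f + 1 + f - (e + 1 + e) = (f + f) - (e + e) := by abel
      rw [h5, h3, h4, sub_self]
    have h2 := field_cancel hE (E.sub_mem hf he) h0 h1
    have h3 : f = e + 1 := by
      have h4 : f = f + e + 1 + (e + 1) := by
        rw [add_assoc f e 1, add_assoc, addself (V := Matrix ι ι F) hF (e + 1), add_zero]
      rw [h4, h2, zero_add]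
    rw [← hfh, h3]

theorem not_eig (hF : Nat.card F = 2) {e : Matrix ι ι F} (he1 : e * e = e + 1) {v : ι → F} {c : F}
    (hv : e *ᵥ v = c • v) : v = 0 := by
  have h1 : e *ᵥ (e *ᵥ v) = e *ᵥ v + v := by
    rw [Matrix.mulVec_mulVec, he1, Matrix.add_mulVec, Matrix.one_mulVec]
  rcases f2 hF c with rfl | rfl
  · rw [zero_smul] at hv
    rw [hv, Matrix.mulVec_zero, zero_add] at h1
    exact h1.symm
  · rw [one_smul] at hv
    rw [hv, hv] at h1
    exact (left_eq_add.1 h1)

theorem no_ext_even [Nonempty ι] (hF : Nat.card F = 2) (hQ : Nondeg Q) {H : Subgroup (GL ι F)}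
    (hH : H ≤ isometryGroup F ⇑Q) (hirr : ¬ Red H) {E : Subalgebra F (Matrix ι ι F)} (hE : IsFieldSubalgebra 2 E)
    (hN : H ≤ subalgebraNormalizer E) {x : GL ι F} (hx : x ∈ H) {a : ℕ} (ha : 1 ≤ a) (hev : Even a)
    (hodd : Odd (orderOf x)) (hM : orderOf x ∣ Nat.card F ^ a + 1) (hb : Blk (2 * a) x)
    (hcard : Fintype.card ι = 2 * a + 2) {u v : ι → F} (huv : Hyp Q u v)
    (hu : (x : Matrix ι ι F) *ᵥ u = u) (hv : (x : Matrix ι ι F) *ᵥ v = v) : False := by
  obtain ⟨e, he, he1⟩ := gen4 hF hE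
  set f := e + 1 with hf
  have hfE : f ∈ E := E.add_mem he E.one_mem
  have hff : f * f = e := by
    have h1 : f * f = e * e + (e + e) + 1 := by rw [hf]; noncomm_ring
    have h2 : (1 : Matrix ι ι F) + 1 = 0 := addself (V := Matrix ι ι F) hF 1
    rw [h1, addself (V := Matrix ι ι F) hF e, add_zero, he1, hf, add_assoc, h2, add_zero]
  have hadj : ∀ y z, polar Q (f *ᵥ y) z = polar Q y (f *ᵥ z) := by
    intro y z
    rw [adj_of_mem (isND hQ) hH hirr hE hN hx ha hodd hM hb hfE, pow_of_even hE hfE hev]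
  have h1 : polar Q (e *ᵥ u) u = 0 := by
    rw [← hff, ← Matrix.mulVec_mulVec, hadj, polself hF]
  -- the fixed space
  have hcomm : (x : Matrix ι ι F) * e = e * x := comm_of_coprime hE (hN hx) (Nat.coprime_two_right.2 hodd) he
  set Fx : Submodule F (ι → F) := LinearMap.ker (Matrix.toLin' (x : Matrix ι ι F) - 1) with hFx
  have memF : ∀ z, z ∈ Fx ↔ (x : Matrix ι ι F) *ᵥ z = z := by
    intro z
    rw [hFx, LinearMap.mem_ker]
    exact sub_eq_zero
  have hrk : finrank F Fx = 2 := by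
    have h2 := LinearMap.finrank_range_add_finrank_ker (Matrix.toLin' (x : Matrix ι ι F) - 1)
    rw [hb.rk, Module.finrank_fintype_fun_eq_card, ← hFx] at h2
    omega
  have hli : LinearIndependent F ![u, v] := by
    rw [LinearIndependent.pair_iff]
    intro s t hst
    have h2 := congrArg (fun z => polar Q z v) hst
    have h3 := congrArg (fun z => polar Q z u) hst
    simp only [polar_add_left, polar_smul_left, QuadraticMap.polar_zero_left, huv.pair, huv.pair', polself hF, smul_eq_mul, mul_one,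
      mul_zero, add_zero, zero_add] at h2 h3
    exact ⟨h2, h3⟩
  have hspan : Submodule.span F {u, v} = Fx := by
    apply Submodule.eq_of_le_of_finrank_eq
    · rw [Submodule.span_le]
      rintro z (rfl | rfl)
      · exact (memF _).2 hu
      · exact (memF _).2 hv
    · rw [hrk]
      have h2 := finrank_span_eq_card hli
      have h3 : Set.range ![u, v] = {u, v} := by
        ext z
        simp only [Matrix.range_cons, Matrix.range_empty, Set.union_empty, Set.mem_union, Set.mem_singleton_iff,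
          Set.mem_insert_iff]
      rw [h3, Fintype.card_fin] at h2
      exact h2
  have heu : e *ᵥ u ∈ Submodule.span F {u, v} := by
    rw [hspan, memF, Matrix.mulVec_mulVec, hcomm, ← Matrix.mulVec_mulVec, hu]
  rw [Submodule.mem_span_pair] at heu
  obtain ⟨s, t, hst⟩ := heu
  rw [← hst, polar_add_left, polar_smul_left, polar_smul_left, polself hF, huv.pair', smul_zero, zero_add, smul_eq_mul,
    mul_one] at h1
  rw [h1, zero_smul, add_zero] at hst
  exact huv.left_ne (not_eig hF he1 hst.symm)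

variable {T : (ι → F) ≃+ (ι → F)} {σ : F ≃+* F} {μ : F}

theorem no_ext_refl [Nonempty ι] (hF : Nat.card F = 2) (hQ : Nondeg Q) (h5 : 5 ≤ Fintype.card ι)
    (hM : IsSemi Q T σ μ) {w : ι → F} (hw0 : w ≠ 0) (hw : ∀ z, T z = z + polar Q z w • w) {H : Subgroup (GL ι F)}
    (hB : Bad hM H) (hirr : ¬ Red H) {E : Subalgebra F (Matrix ι ι F)} (hE : IsFieldSubalgebra 2 E)
    (hN : H ≤ subalgebraNormalizer E) : False := by
  obtain ⟨e, he, he1⟩ := gen4 hF hE
  have hTT : ∀ z, T (T z) = z := by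
    intro z
    rw [hw (T z), hw z, polar_add_left, polar_smul_left, polself hF, smul_zero, add_zero, add_assoc,
      addself (V := ι → F) hF, add_zero]
  have hTfix : ∀ z, polar Q z w = 0 → T z = z := by
    intro z hz
    rw [hw, hz, zero_smul, add_zero]
  -- `H` and `e`
  have hA : ∀ h ∈ H, (∀ z, (h : Matrix ι ι F) *ᵥ (e *ᵥ z) = e *ᵥ ((h : Matrix ι ι F) *ᵥ z)) ∨
      ∀ z, (h : Matrix ι ι F) *ᵥ (e *ᵥ z) = e *ᵥ ((h : Matrix ι ι F) *ᵥ z) + (h : Matrix ι ι F) *ᵥ z := by
    intro h hh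
    rcases conj4 hF hE he he1 (hN hh) with h1 | h1
    · left
      intro z
      rw [Matrix.mulVec_mulVec, h1, ← Matrix.mulVec_mulVec]
    · right
      intro z
      rw [Matrix.mulVec_mulVec, h1, ← Matrix.mulVec_mulVec, Matrix.add_mulVec, Matrix.one_mulVec]
  have hA' : ∀ h ∈ H, (∀ z, (h : Matrix ι ι F) *ᵥ T (e *ᵥ T z) = T (e *ᵥ T ((h : Matrix ι ι F) *ᵥ z))) ∨
      ∀ z, (h : Matrix ι ι F) *ᵥ T (e *ᵥ T z) = T (e *ᵥ T ((h : Matrix ι ι F) *ᵥ z)) + (h : Matrix ι ι F) *ᵥ z := by
    intro h hh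
    obtain ⟨h₀, hh₀, rfl⟩ := hB.surj hh
    have h1 : ∀ z, (h₀ : Matrix ι ι F) *ᵥ T z = T ((tg hM h₀ : Matrix ι ι F) *ᵥ z) := by
      intro z
      have h2 := tg_apply hM h₀ (T z)
      rw [hTT] at h2
      rw [h2, hTT]
    rcases hA h₀ hh₀ with h2 | h2
    · left
      intro z
      rw [tg_apply, h2, h1]
    · right
      intro z
      rw [tg_apply, h2, h1, _root_.AddEquiv.map_add, hTT]
  -- a common vector
  have hex : ∀ h : GL ι F, ∃ z, z ≠ 0 ∧ e *ᵥ z = T (e *ᵥ T z) ∧
      e *ᵥ ((h : Matrix ι ι F) *ᵥ z) = T (e *ᵥ T ((h : Matrix ι ι F) *ᵥ z)) := by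
    intro h
    let Ms : Fin 4 → Matrix ι ι F := ![1, e, (h : Matrix ι ι F), e * h]
    let f : (ι → F) →ₗ[F] (Fin 4 → F) := LinearMap.pi fun i => (polarBilin Q w).comp (Matrix.toLin' (Ms i))
    have hker : LinearMap.ker f ≠ ⊥ := by
      apply LinearMap.ker_ne_bot_of_finrank_lt
      rw [Module.finrank_fin_fun, Module.finrank_fintype_fun_eq_card]
      omega
    obtain ⟨z, hz, hz0⟩ := Submodule.exists_mem_ne_zero_of_ne_bot hker
    have hz' : ∀ i, polar Q w (Ms i *ᵥ z) = 0 := fun i => congrFun (LinearMap.mem_ker.1 hz) i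
    have z0 : polar Q z w = 0 := by
      rw [polar_comm]
      have := hz' 0
      change polar Q w ((1 : Matrix ι ι F) *ᵥ z) = 0 at this
      rwa [Matrix.one_mulVec] at this
    have z1 : polar Q (e *ᵥ z) w = 0 := by
      rw [polar_comm]
      exact hz' 1
    have z2 : polar Q ((h : Matrix ι ι F) *ᵥ z) w = 0 := by
      rw [polar_comm]
      exact hz' 2
    have z3 : polar Q (e *ᵥ ((h : Matrix ι ι F) *ᵥ z)) w = 0 := by
      rw [polar_comm, Matrix.mulVec_mulVec]
      exact hz' 3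
    exact ⟨z, hz0, by rw [hTfix z z0, hTfix _ z1], by rw [hTfix _ z2, hTfix _ z3]⟩
  have hinj : ∀ (h : GL ι F) (z : ι → F), (h : Matrix ι ι F) *ᵥ z = 0 → z = 0 := by
    intro h z hz
    by_contra hne
    exact mulVec_ne_zero h hne hz
  -- the two actions agree
  have hsame : ∀ h ∈ H, ∀ z, e *ᵥ z = T (e *ᵥ T z) →
      e *ᵥ ((h : Matrix ι ι F) *ᵥ z) = T (e *ᵥ T ((h : Matrix ι ι F) *ᵥ z)) := by
    intro h hh
    obtain ⟨z₀, hz₀, hr, hr'⟩ := hex h
    rcases hA h hh with h1 | h1
    · rcases hA' h hh with h2 | h2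
      · intro z hz
        rw [← h1, ← h2, ← hz]
      · exfalso
        apply hz₀
        apply hinj h
        have h3 := h2 z₀
        rw [← hr, h1, ← hr'] at h3
        exact left_eq_add.1 h3
    · rcases hA' h hh with h2 | h2
      · exfalso
        apply hz₀
        apply hinj h
        have h3 := h2 z₀
        rw [← hr, h1, ← hr'] at h3
        exact add_eq_left.1 h3
      · intro z hz
        have h3 := h1 z
        rw [hz, h2 z] at h3
        exact (add_right_cancel h3).symm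
  let R : Submodule F (ι → F) :=
    { carrier := {z | e *ᵥ z = T (e *ᵥ T z)}
      add_mem' := by
        intro a b ha hb
        change e *ᵥ (a + b) = T (e *ᵥ T (a + b))
        rw [_root_.AddEquiv.map_add, Matrix.mulVec_add, Matrix.mulVec_add, _root_.AddEquiv.map_add, ← ha, ← hb]
      zero_mem' := by
        change e *ᵥ 0 = T (e *ᵥ T 0)
        rw [_root_.AddEquiv.map_zero, Matrix.mulVec_zero, _root_.AddEquiv.map_zero]
      smul_mem' := by
        intro c a ha
        change e *ᵥ (c • a) = T (e *ᵥ T (c • a))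
        rw [semi_smul hF hM, Matrix.mulVec_smul, Matrix.mulVec_smul, semi_smul hF hM, ← ha] }
  have hR0 : R ≠ ⊥ := by
    intro h0
    obtain ⟨z₀, hz₀, hr, -⟩ := hex 1
    have h1 : z₀ ∈ R := hr
    rw [h0] at h1
    exact hz₀ ((Submodule.mem_bot F).1 h1)
  have hRtop : R = ⊤ := by
    by_contra hne
    exact hirr ⟨R, hR0, hne, fun h hh => mem_stab.2 fun z hz => hsame h hh z hz⟩
  obtain ⟨z, hz⟩ := hQ.exists_polar_eq hw0 1
  have h1 : e *ᵥ z = T (e *ᵥ T z) := by
    have : z ∈ R := by rw [hRtop]; trivial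
    exact this
  have h2 : T (e *ᵥ z) = e *ᵥ T z := by rw [h1, hTT]
  rw [hw z, hw (e *ᵥ z), polar_comm Q z w, hz, one_smul, Matrix.mulVec_add] at h2
  exact hw0 (not_eig hF he1 (add_left_cancel h2).symm)

end Cfsg.Agent.H688.Spr.Two
end

-- part: H688/Spr/Minus
section
/-!
# S3938, the row `PΩ⁻_{2m}(q)`, `m ≥ 5` (helper688)

All cases except `q = 2`, `m = 5, 6, 9`.
-/

set_option autoImplicit false
set_option linter.unusedSectionVars false

namespace Cfsg.Agent.H688.Spr

open Cfsg Cfsg.Geo Module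
open Cfsg.Agent.H278.Cov Cfsg.Agent.H383.Cov Cfsg.Agent.H688.Cov
open Cfsg.Agent.H424.Spr (Spr)
open Cfsg.Agent.LieClassical.OrthCore (Nondeg)
open Cfsg.Agent.LieClassical.OrthForms (minusForm coe_minusForm nondeg_minusForm)
open Cfsg.Agent.H377 (exists_minus)
open Cfsg.Agent.H689 (Ppd exists_ppd)
open Cfsg.Agent.H906.Cov (exists_num)
open scoped MatrixGroups Matrix

section rows

variable {ι : Type} [Fintype ι] [DecidableEq ι] {F : Type} [Field F] [Finite F] {Q : QuadraticForm F (ι → F)}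

theorem exists_kill (hQ : Nondeg Q) {m : ℕ} (hcard : Fintype.card ι = 2 * m) (hmod : _root_.Cfsg.Agent.H688.Cov.Mod Q m (-1)) (hm : 5 ≤ m)
    (hm6 : m ≠ 6) (hm10 : m ≠ 10) :
    ∃ z ∈ omegaGL ⇑Q, KillAt 2 z ∧ ∀ r : ℕ, r.Prime → r ≠ 2 → r ∣ m → KillAt r z := by
  have hq1 : 2 ≤ Nat.card F := Finite.one_lt_card
  obtain ⟨a, b, hab, ha, ha3, hb2, hbm, hr, hb3⟩ := exists_ab hm hm6
  obtain ⟨l, hl⟩ := exists_ppd (q := Nat.card F) (k := a) hq1 ha3 (by
    rintro ⟨-, rfl⟩
    exact absurd ha (by decide))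
  obtain ⟨l', hl'⟩ := exists_ppd (q := Nat.card F) (k := 2 * b) hq1 (by omega) (by
    rintro ⟨h1, h2⟩
    exact hm10 (hb3 (by omega)))
  have hl2 := hl.two_lt ha3
  have hlo := hl.le_odd ha3 ha
  obtain ⟨z, hz, hk2, hkr, hz3⟩ := posNeg hQ (by omega) hab ha hl (by omega) hb2 hl' hmod
  refine ⟨z, hz, hk2, fun r hrp h2 h3 => ?_⟩
  refine hkr r hrp ?_ ?_
  · have := hr r hrp h2 h3
    omega
  · intro h4
    have h5 : r ∣ b := ((Nat.coprime_primes hrp Nat.prime_two).2 h2).dvd_of_dvd_mul_left h4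
    have h6 := Nat.dvd_gcd h5 h3
    rw [hbm] at h6
    exact hrp.one_lt.ne' (Nat.dvd_one.1 h6)

/-- the row with an irreducible element, for `m = 5, 7, 8, 12, 13` -/
theorem row_irr [Nonempty ι] (hQ : Nondeg Q) (og : _root_.Cfsg.Agent.H688.Cov.OgO ι F) {m : ℕ} (hcard : Fintype.card ι = 2 * m)
    (hmod : _root_.Cfsg.Agent.H688.Cov.Mod Q m (-1)) (hm : m = 5 ∨ m = 7 ∨ m = 8 ∨ m = 12 ∨ m = 13) (hq2 : Nat.card F = 2 → m ≠ 5)
    [IsSimpleGroup (POmega F ⇑Q)] (hna : ∃ x y : POmega F ⇑Q, x * y ≠ y * x) : Spr (POmega F ⇑Q) := by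
  obtain ⟨N, hN⟩ := exists_num (n := 2 * m) (k := 2 * m) (isPrimePow_card F) (by omega) le_rfl (by (clear * - hm; omega))
    (fun h => by have := hq2 h; (clear * - hm this; omega)) (by omega)
  replace hN := num_card hN hcard
  obtain ⟨z, hz, hk2, hkr⟩ := exists_kill hQ hcard hmod (by omega) (by omega) (by omega)
  have key : ∀ r₀ : ℕ, (∀ r : ℕ, r.Prime → r ∣ 2 * m → r = 2 ∨ r = r₀) → Spr (POmega F ⇑Q) := by
    intro r₀ hr₀
    exact row_field hQ og hcard hmod hN hr₀ ⟨z, hz, hk2, fun h1 h2 h3 => hkr r₀ h1 h2 h3⟩ hna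
  rcases hm with rfl | rfl | rfl | rfl | rfl
  · refine key 5 fun r hr hd => ?_
    rcases (Nat.Prime.dvd_mul hr).1 hd with h | h
    · exact Or.inl ((Nat.prime_dvd_prime_iff_eq hr Nat.prime_two).1 h)
    · exact Or.inr ((Nat.prime_dvd_prime_iff_eq hr (by norm_num)).1 h)
  · refine key 7 fun r hr hd => ?_
    rcases (Nat.Prime.dvd_mul hr).1 hd with h | h
    · exact Or.inl ((Nat.prime_dvd_prime_iff_eq hr Nat.prime_two).1 h)
    · exact Or.inr ((Nat.prime_dvd_prime_iff_eq hr (by norm_num)).1 h)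
  · refine key 2 fun r hr hd => ?_
    have h4 : r ∣ 2 ^ 4 := hd
    exact Or.inl ((Nat.prime_dvd_prime_iff_eq hr Nat.prime_two).1 (hr.dvd_of_dvd_pow h4))
  · refine key 3 fun r hr hd => ?_
    have h4 : r ∣ 2 ^ 3 * 3 := hd
    rcases (Nat.Prime.dvd_mul hr).1 h4 with h | h
    · exact Or.inl ((Nat.prime_dvd_prime_iff_eq hr Nat.prime_two).1 (hr.dvd_of_dvd_pow h))
    · exact Or.inr ((Nat.prime_dvd_prime_iff_eq hr (by norm_num)).1 h)
  · refine key 13 fun r hr hd => ?_
    rcases (Nat.Prime.dvd_mul hr).1 hd with h | h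
    · exact Or.inl ((Nat.prime_dvd_prime_iff_eq hr Nat.prime_two).1 h)
    · exact Or.inr ((Nat.prime_dvd_prime_iff_eq hr (by norm_num)).1 h)

/-- **all rows** -/
theorem row_all [Nonempty ι] (hQ : Nondeg Q) (og : _root_.Cfsg.Agent.H688.Cov.OgO ι F) {m : ℕ} (hcard : Fintype.card ι = 2 * m)
    (hmod : _root_.Cfsg.Agent.H688.Cov.Mod Q m (-1)) (hm : 5 ≤ m) (hq2 : Nat.card F = 2 → m ≠ 5 ∧ m ≠ 6 ∧ m ≠ 9)
    [IsSimpleGroup (POmega F ⇑Q)] (hna : ∃ x y : POmega F ⇑Q, x * y ≠ y * x) : Spr (POmega F ⇑Q) := by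
  by_cases hs : m = 5 ∨ m = 7 ∨ (Nat.card F = 2 ∧ (m = 8 ∨ m = 12 ∨ m = 13))
  · exact row_irr hQ og hcard hmod (by omega) (fun h => (hq2 h).1) hna
  rcases Nat.even_or_odd m with he | ho
  · obtain ⟨k, hk⟩ := he
    obtain ⟨N, hN⟩ := exists_num (n := 2 * m) (k := 2 * (m - 2)) (isPrimePow_card F) (by omega) (by omega) (by omega)
      (fun h => by have := hq2 h; (clear * - hs hk h this; omega)) (by omega)
    replace hN := num_card hN hcard
    exact row_T hQ og hcard (h := 1) (j := m - 2) (by omega) le_rfl (by omega) ⟨k - 1, by omega⟩ hN hmod hna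
  · obtain ⟨k, hk⟩ := ho
    obtain ⟨N, hN⟩ := exists_num (n := 2 * m) (k := 2 * (m - 4)) (isPrimePow_card F) (by omega) (by omega) (by omega)
      (fun h => by have := hq2 h; (clear * - hs hk h this; omega)) (by (clear * - hs; omega))
    replace hN := num_card hN hcard
    exact row_T hQ og hcard (h := 2) (j := m - 4) (by omega) (by omega) le_rfl ⟨k - 1 , by omega⟩ hN hmod hna

end rows

/-- **`PΩ⁻_{2m}(q)`, `m ≥ 5`** (modulo OG-O), except `q = 2`, `m = 5, 6, 9` -/
theorem spr_ominus_of {m : ℕ} {F : Type} [Field F] [Fintype F]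
    (og : _root_.Cfsg.Agent.H688.Cov.OgO ((Fin (m - 1) ⊕ Fin (m - 1)) ⊕ Fin 2) F) (hm : 5 ≤ m)
    (hq2 : Fintype.card F = 2 → m ≠ 5 ∧ m ≠ 6 ∧ m ≠ 9) {a b : F}
    (hab : ∀ z₁ z₂ : F, z₁ ^ 2 + a * z₁ * z₂ + b * z₂ ^ 2 = 0 → z₁ = 0 ∧ z₂ = 0)
    [IsSimpleGroup (POmega F (quadFormMinus (m - 1) F a b))]
    (hna : ∃ x y : POmega F (quadFormMinus (m - 1) F a b), x * y ≠ y * x) :
    Spr (POmega F (quadFormMinus (m - 1) F a b)) := by
  have hcard : Fintype.card ((Fin (m - 1) ⊕ Fin (m - 1)) ⊕ Fin 2) = 2 * m := by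
    simp only [Fintype.card_sum, Fintype.card_fin]
    omega
  have hQ : Nondeg (minusForm (m - 1) F a b) := nondeg_minusForm (m - 1) F a b hab
  have hmod : _root_.Cfsg.Agent.H688.Cov.Mod (minusForm (m - 1) F a b) m (-1) := by
    intro V _ _ _ Q' hV hQ' hs
    obtain ⟨e, he⟩ := exists_minus (by omega) hV Q' hQ' hs hab
    exact ⟨e, fun u => by rw [he, coe_minusForm]⟩
  rename_i hsimple
  revert hna
  revert hsimple
  rw [← coe_minusForm]
  intro hsimple hna
  rw [← Nat.card_eq_fintype_card] at hq2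
  exact row_all hQ og hcard hmod hm hq2 hna

/-- **S3938, row `PΩ⁻`** : `hP` is the text of `S5948` -/
theorem spr_ominus (hP : Cfsg.Agent.H659.CovCore.S5948Stmt.{0}) {m : ℕ} {F : Type} [Field F] [Fintype F]
    (hm : 5 ≤ m) (hq2 : Fintype.card F = 2 → m ≠ 5 ∧ m ≠ 6 ∧ m ≠ 9) {a b : F}
    (hab : ∀ z₁ z₂ : F, z₁ ^ 2 + a * z₁ * z₂ + b * z₂ ^ 2 = 0 → z₁ = 0 ∧ z₂ = 0)
    [IsSimpleGroup (POmega F (quadFormMinus (m - 1) F a b))]
    (hna : ∃ x y : POmega F (quadFormMinus (m - 1) F a b), x * y ≠ y * x) :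
    Spr (POmega F (quadFormMinus (m - 1) F a b)) :=
  spr_ominus_of (ogO_all hP _ F) hm hq2 hab hna

end Cfsg.Agent.H688.Spr
end

-- part: H688/Spr/TwoC
section
/-!
# S3938, `PΩ⁻₁₈(2)` (helper688)

For a transvection the element is `neg 7 + Tm`, for every other isometry it is `neg 8 + 1`.
-/

set_option autoImplicit false
set_option linter.unusedSectionVars false

namespace Cfsg.Agent.H688.Spr.Two

open Cfsg Cfsg.Geo Module
open QuadraticMap hiding proj
open Cfsg.Agent.H278.Cov Cfsg.Agent.H383.Cov Cfsg.Agent.H688.Cov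
open Cfsg.Agent.LieClassical.OrthCore Cfsg.Agent.LieClassical.OrthTrans
open Cfsg.Agent.AutOrth.SemiSim (IsSemi)
open Cfsg.Agent.H377 (HasSign sumQ sumQ_apply sumQ_nondeg hypQ hypQ_apply hypQ_nondeg hasSign_mul)
open Cfsg.Agent.H604.Spr (Bad tg tg_apply exists_om)
open Cfsg.Agent.H424.Spr (Spr)
open Cfsg.Agent.H906.Cov (exists_num)
open scoped MatrixGroups Matrix

variable {ι : Type} [Fintype ι] [DecidableEq ι] {F : Type} [Field F] [Finite F] {Q : QuadraticForm F (ι → F)}
  {T : (ι → F) ≃+ (ι → F)} {σ : F ≃+* F} {μ : F}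

/-- transport along a matrix -/
theorem trans_hyp (hG : Good Q) {u v u' v' : ι → F} (h : Hyp Q u v) (h' : Hyp Q u' v') :
    ∃ g ∈ omegaGL ⇑Q, (g : Matrix ι ι F) *ᵥ u = u' ∧ (g : Matrix ι ι F) *ᵥ v = v' := by
  obtain ⟨g, hg, h1, h2⟩ := hG.trans_hyp h h'
  obtain ⟨g', hg', rfl⟩ := exists_om hG hg
  exact ⟨g', hg', h1, h2⟩

theorem gl_inv (g : GL ι F) (z : ι → F) :
    ((g⁻¹ : GL ι F) : Matrix ι ι F) *ᵥ ((g : Matrix ι ι F) *ᵥ z) = z ∧
      (g : Matrix ι ι F) *ᵥ (((g⁻¹ : GL ι F) : Matrix ι ι F) *ᵥ z) = z := by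
  constructor
  · rw [Matrix.mulVec_mulVec, ← Units.val_mul, inv_mul_cancel, Units.val_one, Matrix.one_mulVec]
  · rw [Matrix.mulVec_mulVec, ← Units.val_mul, mul_inv_cancel, Units.val_one, Matrix.one_mulVec]

/-- the image of an invariant subspace under `T` -/
theorem bad_map (hF : Nat.card F = 2) {hM : IsSemi Q T σ μ} {H : Subgroup (GL ι F)} (hB : Bad hM H)
    {W : Submodule F (ι → F)} (hW : ∀ h ∈ H, ∀ w ∈ W, (h : Matrix ι ι F) *ᵥ w ∈ W) :
    ∃ W' : Submodule F (ι → F), finrank F W' = finrank F W ∧ (∀ z, z ∈ W' ↔ ∃ w ∈ W, T w = z) ∧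
      ∀ h ∈ H, ∀ w ∈ W', (h : Matrix ι ι F) *ᵥ w ∈ W' := by
  let L : (ι → F) ≃ₗ[F] (ι → F) := { T with map_smul' := fun c v => semi_smul hF hM c v }
  have hL : ∀ z, L z = T z := fun _ => rfl
  refine ⟨W.map (L : (ι → F) →ₗ[F] (ι → F)), LinearEquiv.finrank_map_eq L W, ?_, ?_⟩
  · intro z
    constructor
    · rintro ⟨w, hw, rfl⟩
      exact ⟨w, hw, rfl⟩
    · rintro ⟨w, hw, rfl⟩
      exact ⟨w, hw, rfl⟩
  · rintro h hh _ ⟨w, hw, rfl⟩
    obtain ⟨h₀, hh₀, rfl⟩ := hB.surj hh
    refine ⟨(h₀ : Matrix ι ι F) *ᵥ w, hW h₀ hh₀ w hw, ?_⟩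
    exact (tg_apply hM h₀ w).symm

/-- **not a transvection** -/
theorem caseA [Nonempty ι] (hF : Nat.card F = 2) (hG : Good Q) (og : _root_.Cfsg.Agent.H688.Cov.OgO ι F) (hcard : Fintype.card ι = 2 * 9)
    (hmod : _root_.Cfsg.Agent.H688.Cov.Mod Q 9 (-1)) (hM : IsSemi Q T σ μ) (hT : ∃ v, T v ≠ v) (hnr : ∀ w, ∃ z, T z ≠ z + polar Q z w • w) :
    ∃ B ∈ omegaGL ⇑Q, ∀ H, Bad hM H → B ∉ H := by
  have hQ := hG.nondeg
  have hev : ∀ v, Q (T v) = Q v := semi_form hF hM
  obtain ⟨u, v, huv, hTu, hTv, hTuv⟩ := exists_pair hF hG (by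
    rw [Module.finrank_fintype_fun_eq_card]; omega) hM hT hnr
  obtain ⟨N, hN⟩ := exists_num (q := Nat.card F) (n := 2 * 9) (k := 2 * 8) (isPrimePow_card F) (by omega) (by omega)
    (by omega) (fun h => by omega) (by omega)
  replace hN := num_card hN hcard
  obtain ⟨x, hx, ⟨i, hblk, hodd, hdv, hnum⟩, Q₁, S, e, -, hxM, he, -, -, hsmall⟩ :=
    exists_negB (V' := F × F) hQ (m := 9) (j := 8) (c := 1) hcard rfl hN (by simp)
    hypQ_nondeg (hasSign_mul (F := F)) (R := 1) (T := 1) (fun _ => rfl) (one_mul _) (M := 1) (one_pow _)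
    (Nat.coprime_one_right _) (by simpa using hmod)
  -- the standard pair
  set u₀ := e.symm (0, ((1 : F), (0 : F))) with hu₀
  set v₀ := e.symm (0, ((0 : F), (1 : F))) with hv₀
  have hQe : ∀ p : F × F, Q (e.symm (0, p)) = p.1 * p.2 := by
    intro p
    rw [← he, e.apply_symm_apply, sumQ_apply, map_zero, zero_add, hypQ_apply]
  have hh : Hyp Q u₀ v₀ := by
    refine ⟨by rw [hu₀, hQe, mul_zero], by rw [hv₀, hQe, zero_mul], ?_⟩
    have h1 : u₀ + v₀ = e.symm (0, ((1 : F), (1 : F))) := by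
      rw [hu₀, hv₀, ← map_add]
      congr 1
      refine Prod.ext (add_zero _) (Prod.ext (add_zero _) (zero_add _))
    rw [polar, h1, hu₀, hv₀, hQe, hQe, hQe]
    simp
  obtain ⟨g, hg, hgu, hgv⟩ := trans_hyp hG hh huv
  have hBu : ∀ p : F × F, (x : Matrix ι ι F) *ᵥ e.symm (0, p) = e.symm (0, p) := by
    intro p
    rw [hxM.apply, e.apply_symm_apply]
    congr 1
    exact Prod.ext (map_zero S) rfl
  have hpowfix : ∀ (y : GL ι F) (z : ι → F), (y : Matrix ι ι F) *ᵥ z = z → ∀ n : ℕ,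
      ((y ^ n : GL ι F) : Matrix ι ι F) *ᵥ z = z := by
    intro y z hz n
    induction n with
    | zero => rw [pow_zero, Units.val_one, Matrix.one_mulVec]
    | succ n ih => rw [pow_succ, Units.val_mul, ← Matrix.mulVec_mulVec, hz, ih]
  refine ⟨g * x * g⁻¹, Subgroup.mul_mem _ (Subgroup.mul_mem _ hg hx) (Subgroup.inv_mem _ hg), ?_⟩
  intro H hB hBH
  have hH := hB.le.trans _root_.Cfsg.Agent.H688.Cov.omegaGL_le
  have hBv : ∀ z z', (x : Matrix ι ι F) *ᵥ z = z → (g : Matrix ι ι F) *ᵥ z = z' →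
      ((g * x * g⁻¹ : GL ι F) : Matrix ι ι F) *ᵥ z' = z' := by
    intro z z' hz hz'
    rw [Units.val_mul, Units.val_mul, ← Matrix.mulVec_mulVec, ← Matrix.mulVec_mulVec, ← hz', (gl_inv g z).1, hz]
  by_cases hred : Red H
  · obtain ⟨W, hW0, hWd, hW⟩ := exists_small hQ hH hred
    -- small invariant subspaces lie in the plane
    have key : ∀ W : Submodule F (ι → F), 2 * finrank F W ≤ Fintype.card ι →
        (∀ h ∈ H, ∀ w ∈ W, (h : Matrix ι ι F) *ᵥ w ∈ W) → ∀ w ∈ W, ∃ a b : F, w = a • u + b • v := by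
      intro W hWd hW w hw
      have h1 := hsmall (W.map (Matrix.toLin' ((g⁻¹ : GL ι F) : Matrix ι ι F))) (by
        rintro _ ⟨z, hz, rfl⟩
        refine ⟨_, hW _ hBH z hz, ?_⟩
        rw [Matrix.toLin'_apply, Matrix.toLin'_apply, Matrix.mulVec_mulVec, Matrix.mulVec_mulVec, ← Units.val_mul,
          ← Units.val_mul]
        congr 2
        group) (by rwa [finrank_map_gl]) _ ⟨w, hw, rfl⟩
      rw [Matrix.toLin'_apply] at h1
      set z := ((g⁻¹ : GL ι F) : Matrix ι ι F) *ᵥ w with hz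
      have hzw : (g : Matrix ι ι F) *ᵥ z = w := (gl_inv g w).2
      refine ⟨(e z).2.1, (e z).2.2, ?_⟩
      have h2 : z = (e z).2.1 • u₀ + (e z).2.2 • v₀ := by
        apply e.injective
        rw [_root_.LinearEquiv.map_add, _root_.LinearEquiv.map_smul, _root_.LinearEquiv.map_smul, hu₀, hv₀, e.apply_symm_apply, e.apply_symm_apply]
        refine Prod.ext ?_ (Prod.ext ?_ ?_)
        · rw [h1]
          change 0 = (e z).2.1 • (0 : Fin (2 * 8) → F) + (e z).2.2 • (0 : Fin (2 * 8) → F)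
          rw [smul_zero, smul_zero, add_zero]
        · change (e z).2.1 = (e z).2.1 * 1 + (e z).2.2 * 0
          ring
        · change (e z).2.2 = (e z).2.1 * 0 + (e z).2.2 * 1
          ring
      rw [← hzw]
      nth_rewrite 1 [h2]
      rw [Matrix.mulVec_add, Matrix.mulVec_smul, Matrix.mulVec_smul, hgu, hgv]
    obtain ⟨w, hw, hw0⟩ := Submodule.exists_mem_ne_zero_of_ne_bot hW0
    obtain ⟨W', hr', hm', hW'⟩ := bad_map hF hB hW
    obtain ⟨W'', hr'', hm'', hW''⟩ := bad_map hF hB hW'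
    have hd' : 2 * finrank F W' ≤ Fintype.card ι := by rwa [hr']
    have hd'' : 2 * finrank F W'' ≤ Fintype.card ι := by rwa [hr'', hr']
    -- vectors of the plane
    have hpl : ∀ a b : F, Q (a • u + b • v) = a * b := by
      intro a b
      rw [Q_add, QuadraticMap.map_smul, QuadraticMap.map_smul, huv.left, huv.right, polar_smul_left, polar_smul_right,
        huv.pair]
      simp
    have hcase : ∀ z, z ≠ 0 → (∃ a b : F, z = a • u + b • v) → z = u ∨ z = v ∨ z = u + v := by
      rintro z hz ⟨a, b, rfl⟩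
      rcases f2 hF a with rfl | rfl <;> rcases f2 hF b with rfl | rfl
      · rw [zero_smul, zero_smul, add_zero] at hz
        exact absurd rfl hz
      · right; left
        rw [zero_smul, one_smul, zero_add]
      · left
        rw [zero_smul, one_smul, add_zero]
      · right; right
        rw [one_smul, one_smul]
    have hQuv : Q (u + v) = 1 := by
      have := hpl 1 1
      rwa [one_smul, one_smul, mul_one] at this
    have hTne : ∀ z, z ≠ 0 → T z ≠ 0 := by
      intro z hz h0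
      exact hz (T.injective (h0.trans (_root_.AddEquiv.map_zero T).symm))
    have h1 := hcase w hw0 (key W hWd hW w hw)
    have h2 := hcase (T w) (hTne w hw0) (key W' hd' hW' _ ((hm' _).2 ⟨w, hw, rfl⟩))
    have h3 := hcase (T (T w)) (hTne _ (hTne w hw0)) (key W'' hd'' hW'' _ ((hm'' _).2 ⟨_, (hm' _).2 ⟨w, hw, rfl⟩, rfl⟩))
    have q1 : Q (T w) = Q w := hev w
    have q2 : Q (T (T w)) = Q (T w) := hev _
    rcases h1 with rfl | rfl | rfl
    · rcases h2 with h2 | h2 | h2
      · exact hTu h2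
      · rw [h2] at h3 q2
        rcases h3 with h3 | h3 | h3
        · exact hTuv (by rw [_root_.AddEquiv.map_add, h2, h3, add_comm])
        · exact hTv h3
        · rw [h3, hQuv, huv.right] at q2
          exact one_ne_zero q2
      · rw [h2, hQuv, huv.left] at q1
        exact one_ne_zero q1
    · rcases h2 with h2 | h2 | h2
      · rw [h2] at h3 q2
        rcases h3 with h3 | h3 | h3
        · exact hTu h3
        · exact hTuv (by rw [_root_.AddEquiv.map_add, h2, h3, add_comm])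
        · rw [h3, hQuv, huv.left] at q2
          exact one_ne_zero q2
      · exact hTv h2
      · rw [h2, hQuv, huv.right] at q1
        exact one_ne_zero q1
    · rcases h2 with h2 | h2 | h2
      · rw [h2, hQuv, huv.left] at q1
        exact zero_ne_one q1
      · rw [h2, hQuv, huv.right] at q1
        exact zero_ne_one q1
      · exact hTuv h2
  · have hxi : ((g * x * g⁻¹) ^ i : GL ι F) = g * x ^ i * g⁻¹ := conjpow g x i
    have hmem := H.pow_mem hBH i
    rw [hxi] at hmem
    have hord : orderOf (g * x ^ i * g⁻¹) = orderOf (x ^ i) := orderOf_conj _ _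
    rcases og _ _ (isND hQ) H hB.le hB.ne _ hmem (by rw [hord]; exact hnum) with h3 | ⟨r, E, hr, hrd, hE, hEN⟩
    · exact hred h3
    · have hr2 : r = 2 := by
        rw [hcard] at hrd
        exact (Nat.prime_dvd_prime_iff_eq hr Nat.prime_two).1 hrd
      subst hr2
      refine no_ext_even hF hQ hH hred hE hEN hmem (a := 8) (by norm_num) ⟨4, rfl⟩ (by rw [hord]; exact hodd)
        (by rw [hord]; exact hdv) (hblk.conj g) (by omega) huv ?_ ?_
      · rw [← hxi]
        exact hpowfix _ _ (hBv u₀ u (hBu _) hgu) i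
      · rw [← hxi]
        exact hpowfix _ _ (hBv v₀ v (hBu _) hgv) i

/-- a nonsingular vector is the sum of a hyperbolic pair -/
theorem split_pair (hF : Nat.card F = 2) (hG : Good Q) {w : ι → F} (hw : Q w = 1) :
    ∃ u v, Hyp Q u v ∧ u + v = w := by
  obtain ⟨x, y, hxy⟩ := hG.exists_hyp
  obtain ⟨u, hu, huw⟩ := exists_sing_polar_one hG.nondeg hxy (v := w) (by
    rintro rfl
    rw [map_zero] at hw
    exact zero_ne_one hw)
  refine ⟨u, w + u, ⟨hu, ?_, ?_⟩, ?_⟩
  · rw [Q_add, hw, hu, polar_comm, huw, add_zero, two0 hF]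
  · rw [polar_add_right, huw, polself hF, add_zero]
  · rw [add_comm w u, ← add_assoc, addself hF, zero_add]

/-- **a transvection** -/
theorem caseB [Nonempty ι] (hF : Nat.card F = 2) (hG : Good Q) (og : _root_.Cfsg.Agent.H688.Cov.OgO ι F) (hcard : Fintype.card ι = 2 * 9)
    (hmod : _root_.Cfsg.Agent.H688.Cov.Mod Q 9 (-1)) (hM : IsSemi Q T σ μ) (hT : ∃ v, T v ≠ v) {w : ι → F}
    (hw : ∀ z, T z = z + polar Q z w • w) :
    ∃ B ∈ omegaGL ⇑Q, ∀ H, Bad hM H → B ∉ H := by
  have hQ := hG.nondeg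
  have hw0 : w ≠ 0 := by
    rintro rfl
    obtain ⟨v, hv⟩ := hT
    apply hv
    rw [hw, smul_zero, add_zero]
  have hQw : Q w = 1 := by
    obtain ⟨z, hz⟩ := hQ.exists_polar_eq hw0 1
    have h1 := semi_form hF hM z
    rw [hw, polar_comm, hz, one_smul, Q_add, polar_comm, hz] at h1
    rcases f2 hF (Q w) with h | h
    · rw [h, add_zero] at h1
      have : (1 : F) = 0 := by linear_combination h1
      exact absurd this one_ne_zero
    · exact h
  obtain ⟨u, v, huv, huvw⟩ := split_pair hF hG hQw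
  obtain ⟨N, hN⟩ := exists_num (q := Nat.card F) (n := 2 * 9) (k := 2 * 7) (isPrimePow_card F) (by omega) (by omega)
    (by omega) (fun h => by omega) (by omega)
  replace hN := num_card hN hcard
  obtain ⟨K, _, _, _, τ, c, ε, hd⟩ := exists_HD F (h := 1) le_rfl
  obtain ⟨x, Q₁, S, e, s, s', ht⟩ := exists_TD hQ hcard (m := 9) (j := 7) (h := 1) rfl hN hd hmod
  have hfd : FiniteDimensional F K := Module.Finite.of_finite
  have hQe : ∀ p : (Fin (2 * 7) → F) × (K × K), Q (e.symm p) = Q₁ p.1 + hermQ τ p.2 := by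
    intro p
    rw [← ht.form, e.apply_symm_apply, sumQ_apply]
  have hpe : ∀ (b : Fin (2 * 7) → F) (p p' : K × K), polar Q (e.symm (0, p)) (e.symm (b, p')) =
      polar (hermQ (F := F) τ) p p' := by
    intro b p p'
    have h1 : e.symm (0, p) + e.symm (b, p') = e.symm (b, p + p') := by
      rw [← map_add]
      congr 1
      exact Prod.ext (zero_add _) rfl
    rw [polar, polar, h1, hQe, hQe, hQe, map_zero]
    ring
  -- the standard nonsingular vector
  set b : Fin (2 * 7) → F := fun _ => 1 with hb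
  have hb0 : b ≠ 0 := by
    intro h0
    exact one_ne_zero (congrFun h0 ⟨0, by omega⟩)
  obtain ⟨t, ht1⟩ := Algebra.trace_surjective F K (1 + Q₁ b)
  set w' := e.symm (b, (t, (1 : K))) with hw'
  have hQw' : Q w' = 1 := by
    rw [hw', hQe, hermQ_apply]
    change Q₁ b + Algebra.trace F K (t * τ 1) = 1
    rw [map_one, mul_one, ht1]
    have h1 := addself (V := F) hF (Q₁ b)
    linear_combination h1
  obtain ⟨u', v', huv', huvw'⟩ := split_pair hF hG hQw'
  obtain ⟨g, hg, hgu, hgv⟩ := trans_hyp hG huv' huv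
  have hgw : (g : Matrix ι ι F) *ᵥ w' = w := by
    rw [← huvw', ← huvw, Matrix.mulVec_add, hgu, hgv]
  refine ⟨g * x * g⁻¹, Subgroup.mul_mem _ (Subgroup.mul_mem _ hg ht.mem) (Subgroup.inv_mem _ hg), ?_⟩
  intro H hB hBH
  have hH := hB.le.trans _root_.Cfsg.Agent.H688.Cov.omegaGL_le
  by_cases hred : Red H
  · obtain ⟨W, hW0, hWd, hW⟩ := exists_small hQ hH hred
    have key : ∀ W : Submodule F (ι → F), 2 * finrank F W ≤ Fintype.card ι →
        (∀ h ∈ H, ∀ w ∈ W, (h : Matrix ι ι F) *ᵥ w ∈ W) →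
        W.map (Matrix.toLin' ((g⁻¹ : GL ι F) : Matrix ι ι F)) = ⊥ ∨
        W.map (Matrix.toLin' ((g⁻¹ : GL ι F) : Matrix ι ι F)) = WU e ((⊤ : Submodule F K).prod ⊥) ∨
        W.map (Matrix.toLin' ((g⁻¹ : GL ι F) : Matrix ι ι F)) = WU e ⊤ := by
      intro W hWd hW
      refine ht.small ?_ (by rw [finrank_map_gl]; omega)
      rintro _ ⟨z, hz, rfl⟩
      refine ⟨_, hW _ hBH z hz, ?_⟩
      rw [Matrix.toLin'_apply, Matrix.toLin'_apply, Matrix.mulVec_mulVec, Matrix.mulVec_mulVec, ← Units.val_mul,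
        ← Units.val_mul]
      congr 2
      group
    obtain ⟨W', hr', hm', hW'⟩ := bad_map hF hB hW
    have hd' : 2 * finrank F W' ≤ Fintype.card ι := by rwa [hr']
    have hr1 := ht.rank1
    have hr2 := ht.rank2
    have hn0 : finrank F W ≠ 0 := fun h0 => hW0 (Submodule.finrank_eq_zero.1 h0)
    have e1 : finrank F (W.map (Matrix.toLin' ((g⁻¹ : GL ι F) : Matrix ι ι F))) = finrank F W := finrank_map_gl _ _
    have e2 : finrank F (W'.map (Matrix.toLin' ((g⁻¹ : GL ι F) : Matrix ι ι F))) = finrank F W := by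
      rw [finrank_map_gl, hr']
    have hWW : W.map (Matrix.toLin' ((g⁻¹ : GL ι F) : Matrix ι ι F)) =
        W'.map (Matrix.toLin' ((g⁻¹ : GL ι F) : Matrix ι ι F)) := by
      rcases key W hWd hW with h1 | h1 | h1
      · rw [h1, finrank_bot] at e1
        exact absurd e1.symm hn0
      · rcases key W' hd' hW' with h2 | h2 | h2
        · rw [h2, finrank_bot] at e2
          exact absurd e2.symm hn0
        · rw [h1, h2]
        · rw [h1, hr1] at e1
          rw [h2, hr2] at e2
          omega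
      · rcases key W' hd' hW' with h2 | h2 | h2
        · rw [h2, finrank_bot] at e2
          exact absurd e2.symm hn0
        · rw [h1, hr2] at e1
          rw [h2, hr1] at e2
          omega
        · rw [h1, h2]
    have hmem : ∀ z, (g : Matrix ι ι F) *ᵥ z ∈ W ↔ z ∈ W.map (Matrix.toLin' ((g⁻¹ : GL ι F) : Matrix ι ι F)) := by
      intro z
      constructor
      · intro hz
        exact ⟨_, hz, (gl_inv g z).1⟩
      · rintro ⟨y, hy, rfl⟩
        rw [Matrix.toLin'_apply, (gl_inv g y).2]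
        exact hy
    have hTW : ∀ z ∈ W, T z ∈ W := by
      intro z hz
      have h1 : T z ∈ W' := (hm' _).2 ⟨z, hz, rfl⟩
      have h2 := (hmem (((g⁻¹ : GL ι F) : Matrix ι ι F) *ᵥ T z)).2 (by
        rw [hWW]
        exact ⟨_, h1, rfl⟩)
      rwa [(gl_inv g (T z)).2] at h2
    have hsub : ∀ r : K, e.symm (0, (r, 0)) ∈ W.map (Matrix.toLin' ((g⁻¹ : GL ι F) : Matrix ι ι F)) := by
      intro r
      rcases key W hWd hW with h1 | h1 | h1
      · rw [h1, finrank_bot] at e1
        exact absurd e1.symm hn0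
      · rw [h1, mem_WU, e.apply_symm_apply]
        exact ⟨rfl, trivial, rfl⟩
      · rw [h1, mem_WU, e.apply_symm_apply]
        exact ⟨rfl, trivial⟩
    have hwW : w' ∉ W.map (Matrix.toLin' ((g⁻¹ : GL ι F) : Matrix ι ι F)) := by
      intro h0
      rcases key W hWd hW with h1 | h1 | h1
      · rw [h1, finrank_bot] at e1
        exact absurd e1.symm hn0
      · rw [h1, mem_WU, e.apply_symm_apply] at h0
        exact hb0 h0.1
      · rw [h1, mem_WU, e.apply_symm_apply] at h0
        exact hb0 h0.1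
    have htr : ∀ r : K, Algebra.trace F K r = 0 := by
      intro r
      have h1 := (hmem _).2 (hsub r)
      have h2 := W.sub_mem (hTW _ h1) h1
      rw [hw, add_sub_cancel_left] at h2
      have h3 : polar Q ((g : Matrix ι ι F) *ᵥ e.symm (0, (r, 0))) w = Algebra.trace F K r := by
        rw [← hgw, polar_isom (_root_.Cfsg.Agent.H688.Cov.omegaGL_le hg), hw', hpe, hermQ_polar]
        change Algebra.trace F K (r * τ 1) + Algebra.trace F K (t * τ 0) = _
        rw [map_one, mul_one, map_zero, mul_zero, map_zero, add_zero]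
      rw [h3] at h2
      rcases f2 hF (Algebra.trace F K r) with h4 | h4
      · exact h4
      · exfalso
        rw [h4, one_smul] at h2
        apply hwW
        rw [← hmem, hgw]
        exact h2
    obtain ⟨r, hr⟩ := Algebra.trace_surjective F K 1
    rw [htr] at hr
    exact zero_ne_one hr
  · have hxi : ((g * x * g⁻¹) ^ s : GL ι F) = g * x ^ s * g⁻¹ := conjpow g x s
    have hmem := H.pow_mem hBH s
    rw [hxi] at hmem
    have hord : orderOf (g * x ^ s * g⁻¹) = orderOf (x ^ s) := orderOf_conj _ _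
    rcases og _ _ (isND hQ) H hB.le hB.ne _ hmem (by rw [hord, ht.ord]; exact ht.num) with h3 | ⟨r, E, hr, hrd, hE, hEN⟩
    · exact hred h3
    · have hr2 : r = 2 := by
        rw [hcard] at hrd
        exact (Nat.prime_dvd_prime_iff_eq hr Nat.prime_two).1 hrd
      subst hr2
      exact no_ext_refl hF hQ (by omega) hM hw0 hw hB hred hE hEN

/-- **`PΩ⁻₁₈(2)`** -/
theorem row_nine [Nonempty ι] (hF : Nat.card F = 2) (hG : Good Q) (og : _root_.Cfsg.Agent.H688.Cov.OgO ι F) (hcard : Fintype.card ι = 2 * 9)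
    (hmod : _root_.Cfsg.Agent.H688.Cov.Mod Q 9 (-1)) {α : MulAut (POmega F ⇑Q)} (hα : AutOrth.Main.Ind ⇑Q α) (hα1 : α ≠ 1) :
    ∃ x : POmega F ⇑Q, ∀ K : Subgroup (POmega F ⇑Q), x ∈ K → (∀ k ∈ K, α k ∈ K) → K = ⊤ := by
  have := Fintype.ofFinite F
  obtain ⟨σ, μ, T, ⟨h1, h2, h3⟩, h4⟩ := hα
  have hM : IsSemi Q T σ μ := ⟨h1, h2, h3⟩
  have hT : ∃ v, T v ≠ v := by
    by_contra hcon
    push Not at hcon
    apply hα1
    ext x
    have hob_ := QuotientGroup.mk_surjective x
    obtain ⟨g, rfl⟩ := hob_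
    rw [h4 g g (fun v => by rw [hcon, hcon]), MulAut.one_apply]
  by_cases hr : ∃ w, ∀ z, T z = z + polar Q z w • w
  · obtain ⟨w, hw⟩ := hr
    have hob_ := caseB hF hG og hcard hmod hM hT hw
    obtain ⟨B, hB, hB'⟩ := hob_
    exact Cfsg.Agent.H604.Spr.exists_of_bad hG hM h4 hB hB'
  · push Not at hr
    have hob_ := caseA hF hG og hcard hmod hM hT hr
    obtain ⟨B, hB, hB'⟩ := hob_
    exact Cfsg.Agent.H604.Spr.exists_of_bad hG hM h4 hB hB'

end Cfsg.Agent.H688.Spr.Two
end

-- part: H688/Spr/OMinusAll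
section
/-!
# S3938, the row `PΩ⁻_{2m}(q)`, `m ≥ 5`, final form (helper688)

All cases except `PΩ⁻₁₀(2)` and `PΩ⁻₁₂(2)`.
-/

set_option autoImplicit false
set_option linter.unusedSectionVars false

namespace Cfsg.Agent.H688.Spr

open Cfsg Cfsg.Geo Module
open Cfsg.Agent.H278.Cov Cfsg.Agent.H383.Cov Cfsg.Agent.H688.Cov
open Cfsg.Agent.H424.Spr (Spr)
open Cfsg.Agent.LieClassical.OrthCore (Nondeg)
open Cfsg.Agent.LieClassical.OrthTrans (Good)
open Cfsg.Agent.LieClassical.OrthForms (minusForm coe_minusForm nondeg_minusForm)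
open Cfsg.Agent.H377 (exists_minus)

/-- **`PΩ⁻₁₈(2)`** -/
theorem spr_ominus18 {F : Type} [Field F] [Fintype F] (og : _root_.Cfsg.Agent.H688.Cov.OgO ((Fin 8 ⊕ Fin 8) ⊕ Fin 2) F)
    (hF : Fintype.card F = 2) {a b : F}
    (hab : ∀ z₁ z₂ : F, z₁ ^ 2 + a * z₁ * z₂ + b * z₂ ^ 2 = 0 → z₁ = 0 ∧ z₂ = 0) :
    Spr (POmega F (quadFormMinus 8 F a b)) := by
  have hcard : Fintype.card ((Fin 8 ⊕ Fin 8) ⊕ Fin 2) = 2 * 9 := by
    simp only [Fintype.card_sum, Fintype.card_fin]
  have hG : Good (minusForm 8 F a b) := by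
    rw [AutOrth.Main.minusForm_eq]
    exact AutOrth.Main.good_minus (by omega) hab
  have hmod : _root_.Cfsg.Agent.H688.Cov.Mod (minusForm 8 F a b) 9 (-1) := by
    intro V _ _ _ Q' hV hQ' hs
    obtain ⟨e, he⟩ := exists_minus (m := 9) (by omega) hV Q' hQ' hs hab
    exact ⟨e, fun u => by rw [he, coe_minusForm]⟩
  rw [← Nat.card_eq_fintype_card] at hF
  have key : ∀ α : MulAut (POmega F (quadFormMinus 8 F a b)), AutOrth.Main.Ind (quadFormMinus 8 F a b) α → α ≠ 1 →
      ∃ x, ∀ K : Subgroup (POmega F (quadFormMinus 8 F a b)), x ∈ K → (∀ k ∈ K, α k ∈ K) → K = ⊤ := by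
    rw [← coe_minusForm]
    intro α hα hα1
    exact Two.row_nine hF hG og hcard hmod hα hα1
  intro α hα1
  exact key α (AutOrth.Main.all_minus (by omega) hab α) hα1

/-- **S3938, row `PΩ⁻`** : `hP` is the text of `S5948` -/
theorem spr_ominus' (hP : Cfsg.Agent.H659.CovCore.S5948Stmt.{0}) {m : ℕ} {F : Type} [Field F] [Fintype F]
    (hm : 5 ≤ m) (hq2 : Fintype.card F = 2 → m ≠ 5 ∧ m ≠ 6) {a b : F}
    (hab : ∀ z₁ z₂ : F, z₁ ^ 2 + a * z₁ * z₂ + b * z₂ ^ 2 = 0 → z₁ = 0 ∧ z₂ = 0)
    [IsSimpleGroup (POmega F (quadFormMinus (m - 1) F a b))]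
    (hna : ∃ x y : POmega F (quadFormMinus (m - 1) F a b), x * y ≠ y * x) :
    Spr (POmega F (quadFormMinus (m - 1) F a b)) := by
  by_cases h9 : Fintype.card F = 2 ∧ m = 9
  · obtain ⟨hF, rfl⟩ := h9
    exact spr_ominus18 (ogO_all hP _ F) hF hab
  · exact spr_ominus hP hm (fun h => ⟨(hq2 h).1, (hq2 h).2, fun h' => h9 ⟨h, h'⟩⟩) hab hna

end Cfsg.Agent.H688.Spr
end

-- part: H604/Spr/Three
section
/-!
# S3938: the group `PΩ⁺₁₀(3)` (helper604)

`exists_A3` : the element `(-x, y)` of `Ω⁺₁₀(3)`, `x` of order 41 on the 8-space of minus type, `y` of order 4 on the plane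
of minus type; `spr_plus` : `Spr (POmega F (quadFormPlus m F))`, `m ≥ 5`, except `q = 2`, `m ≤ 8`.
-/

set_option autoImplicit false
set_option linter.unusedSectionVars false
set_option linter.style.haveILetI false

namespace Cfsg.Agent.H604.Spr

open Module Cfsg Cfsg.Geo QuadraticMap
open Cfsg.Agent.LieClassical.OrthCore Cfsg.Agent.LieClassical.OrthForms
open Cfsg.Agent.LieClassical.OrthTrans (Good)
open Cfsg.Agent.LieClassical.OrthFinite
open Cfsg.Agent.H182.Sign Cfsg.Agent.H182.Orth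
open Cfsg.Agent.H383.Cov hiding polar_zero_left polar_zero_right polar_sub_left
open Cfsg.Agent.H278.Cov (Red Ext Num)
open Cfsg.Agent.H424.Spr (Spr)
open Cfsg.Agent.H659.CovCore (S5948Stmt)
open scoped MatrixGroups Matrix

theorem polar_prod {F V W : Type*} [Field F] [AddCommGroup V] [Module F V] [AddCommGroup W] [Module F W]
    (Q : QuadraticForm F V) (Q' : QuadraticForm F W) (p p' : V × W) :
    polar (prodForm Q Q') p p' = polar Q p.1 p'.1 + polar Q' p.2 p'.2 := by
  change Q (p.1 + p'.1) + Q' (p.2 + p'.2) - (Q p.1 + Q' p.2) - (Q p'.1 + Q' p'.2) =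
    (Q (p.1 + p'.1) - Q p.1 - Q p'.1) + (Q' (p.2 + p'.2) - Q' p.2 - Q' p'.2)
  ring

theorem polar_hyp {F : Type*} [Field F] (p p' : F × F) :
    polar (hypForm F) p p' = p.1 * p'.2 + p.2 * p'.1 := by
  change (p.1 + p'.1) * (p.2 + p'.2) - p.1 * p.2 - p'.1 * p'.2 = _
  ring

section rot

variable {F P : Type} [Field F] [Field P] [Algebra F P] {QP : QuadraticForm F P}

theorem rot (h3 : (3 : F) = 0) (hd : finrank F P = 2) {w a : P} (hw : w * w = -1) (hiso : ∀ v, QP (w * v) = QP v)
    (ha : QP a = 1) : QP (a - w * a) = -1 ∧ ∀ l, reflLin QP a (reflLin QP (a - w * a) l) = w * l := by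
  have hfd : FiniteDimensional F P := Module.finite_of_finrank_pos (by omega)
  have h2 : (2 : F) ≠ 0 := by
    intro h
    have : (1 : F) = 3 - 2 := by norm_num
    rw [h3, h, sub_zero] at this
    exact one_ne_zero this
  have hB : ∀ u v, polar QP (w * u) (w * v) = polar QP u v := by
    intro u v
    simp only [polar, ← mul_add, hiso]
  have haa : polar QP a a = 2 := by rw [polar_self, ha]; norm_num
  have hww : polar QP (w * a) (w * a) = 2 := by rw [hB, haa]
  have hwwa : w * (w * a) = -a := by rw [← mul_assoc, hw, neg_one_mul]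
  have h0 : polar QP a (w * a) = 0 := by
    have h1 : polar QP a (w * a) = - polar QP a (w * a) := by
      have h4 := hB a (w * a)
      rw [hwwa, polar_neg_right, polar_comm QP (w * a) a] at h4
      exact h4.symm
    have h5 : 2 * polar QP a (w * a) = 0 := by linear_combination h1
    exact (mul_eq_zero.1 h5).resolve_left h2
  have hb : QP (a - w * a) = -1 := by
    rw [sub_eq_add_neg, Q_add, QuadraticMap.map_neg, hiso, ha, polar_neg_right, h0]
    linear_combination h3
  have hli : LinearIndependent F ![a, w * a] := by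
    rw [LinearIndependent.pair_iff]
    intro s t hst
    have h4 : polar QP a (s • a + t • (w * a)) = 0 := by rw [hst, polar_zero_right]
    have h5 : polar QP (w * a) (s • a + t • (w * a)) = 0 := by rw [hst, polar_zero_right]
    rw [polar_add_right, polar_smul_right, polar_smul_right, haa, h0, smul_zero, add_zero, smul_eq_mul] at h4
    rw [polar_add_right, polar_smul_right, polar_smul_right, hww, polar_comm QP (w * a) a, h0, smul_zero, zero_add,
      smul_eq_mul] at h5
    exact ⟨(mul_eq_zero.1 h4).resolve_right h2, (mul_eq_zero.1 h5).resolve_right h2⟩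
  have hspan : Submodule.span F (Set.range ![a, w * a]) = ⊤ :=
    hli.span_eq_top_of_card_eq_finrank' (by rw [Fintype.card_fin, hd])
  refine ⟨hb, fun l => ?_⟩
  have key : (reflLin QP a).comp (reflLin QP (a - w * a)) = LinearMap.mulLeft F w := by
    apply LinearMap.ext_on_range hspan
    intro i
    fin_cases i
    · change reflLin QP a (reflLin QP (a - w * a) a) = w * a
      rw [reflLin_apply (a - w * a), hb, polar_sub_left, haa, polar_comm QP (w * a) a, h0, sub_zero]
      have e1 : a - ((-1 : F)⁻¹ * 2) • (a - w * a) = w * a + (3 : F) • (a - w * a) := by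
        rw [inv_neg, inv_one]
        module
      rw [e1, h3, zero_smul, add_zero, reflLin_apply, h0, mul_zero, zero_smul, sub_zero]
    · change reflLin QP a (reflLin QP (a - w * a) (w * a)) = w * (w * a)
      rw [reflLin_apply (a - w * a), hb, polar_sub_left, hww, h0, hwwa]
      have e1 : w * a - ((-1 : F)⁻¹ * (0 - 2)) • (a - w * a) = a + (-3 : F) • (a - w * a) := by
        rw [inv_neg, inv_one]
        module
      rw [e1, h3, neg_zero, zero_smul, add_zero, reflLin_apply, haa, ha, inv_one, one_mul]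
      module
  exact LinearMap.congr_fun key l

end rot

variable {F : Type} [Field F] [Fintype F]

theorem three_eq (hq : Fintype.card F = 3) : (3 : F) = 0 := by
  have := Nat.cast_card_eq_zero F
  rw [hq] at this
  exact_mod_cast this

theorem one_or_neg (hq : Fintype.card F = 3) {c : F} (hc : c ≠ 0) : c = 1 ∨ c = -1 := by
  have h1 := FiniteField.pow_card_sub_one_eq_one c hc
  rw [hq] at h1
  have h2 : (c - 1) * (c + 1) = 0 := by linear_combination h1
  rcases mul_eq_zero.1 h2 with h | h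
  · left; exact sub_eq_zero.1 h
  · right; linear_combination h

/-- a vector of norm 1 -/
theorem exists_norm_one (hq : Fintype.card F = 3) {P : Type} [Field P] [Algebra F P] [Finite P]
    {QP : QuadraticForm F P} (hnd : Nondeg QP) {w : P} (hw : w * w = -1) (hiso : ∀ v, QP (w * v) = QP v) :
    ∃ a, QP a = 1 := by
  have h3 := three_eq hq
  have h2 : (2 : F) ≠ 0 := by
    intro h
    have : (1 : F) = 3 - 2 := by norm_num
    rw [h3, h, sub_zero] at this
    exact one_ne_zero this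
  obtain ⟨v, hv⟩ : ∃ v, QP v ≠ 0 := by
    by_contra hcon
    push Not at hcon
    have h4 : (1 : P) = 0 := hnd 1 fun y => by rw [polar, hcon, hcon, hcon]; ring
    exact one_ne_zero h4
  rcases one_or_neg hq hv with h | h
  · exact ⟨v, h⟩
  · refine ⟨v + w * v, ?_⟩
    have hB : polar QP (w * v) (w * (w * v)) = polar QP v (w * v) := by
      simp only [polar, ← mul_add, hiso]
    have hwwv : w * (w * v) = -v := by rw [← mul_assoc, hw, neg_one_mul]
    rw [hwwv, polar_neg_right, polar_comm QP (w * v) v] at hB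
    have h5 : 2 * polar QP v (w * v) = 0 := by linear_combination -hB
    have h6 := (mul_eq_zero.1 h5).resolve_left h2
    rw [Q_add, hiso, h, h6]
    linear_combination -h3

section model

variable {P : Type} [Field P] [Algebra F P] [Finite P] {QP : QuadraticForm F P}

/-- the model of the form -/
def QM (QP : QuadraticForm F P) : QuadraticForm F (((P × (P × P)) × (F × F)) × P) :=
  prodForm (prodForm (prodForm QP (prodForm QP QP)) (hypForm F)) QP

theorem sg_L (hs : Sg QP 1 (-1)) : Sg (prodForm (prodForm QP (prodForm QP QP)) (hypForm F)) 4 (-1) := by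
  have h := (hs.prod (hs.prod hs)).prod (sg_hypForm (F := F))
  exact h

/-- **`(-1, w)` is a product of two squares and four reflections** -/
theorem mem_om_of {ι : Type} [Fintype ι] [DecidableEq ι] {Q : QuadraticForm F (ι → F)} (hG : Good Q)
    (hq : Fintype.card F = 3) (hd : finrank F P = 2) {w : P} (hw : w * w = -1) (hiso : ∀ v, QP (w * v) = QP v)
    {a : P} (ha : QP a = 1) (e : (ι → F) ≃ₗ[F] (((P × (P × P)) × (F × F)) × P)) (he : ∀ v, QM QP (e v) = Q v)
    {G : GL ι F} (hGe : ∀ v, e ((G : Matrix ι ι F) *ᵥ v) = (-(e v).1, w * (e v).2)) : G ∈ omegaGL ⇑Q := by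
  have h3 := three_eq hq
  obtain ⟨hb, hrot⟩ := rot h3 hd hw hiso ha
  have hdim : 5 ≤ Fintype.card ι := by
    have := hG.dim
    rwa [Module.finrank_fintype_fun_eq_card] at this
  -- the square root of `-1` on the first part
  let s : Module.End F (((P × (P × P)) × (F × F)) × P) :=
    ((((LinearMap.mulLeft F w).prodMap ((LinearMap.mulLeft F w).prodMap (LinearMap.mulLeft F w))).prodMap
      LinearMap.id).prodMap LinearMap.id)
  have hs : ∀ y, s y = (((w * y.1.1.1, (w * y.1.1.2.1, w * y.1.1.2.2)), y.1.2), y.2) := fun y => rfl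
  have hsQ : ∀ y, QM QP (s y) = QM QP y := by
    intro y
    rw [hs]
    simp only [QM, prodForm_apply, hiso]
  have hw4 : ∀ p : P, w * (w * (w * (w * p))) = p := by
    intro p
    linear_combination (w * w * p - p) * hw
  have hs4 : s ^ 4 = 1 := by
    apply LinearMap.ext
    intro y
    change s (s (s (s y))) = y
    rw [hs, hs, hs, hs]
    simp only [hw4]
  obtain ⟨S, hS, hSe⟩ := exists_sim_iso (Q := Q) e he hsQ (by norm_num) hs4
  have hSS : S * S ∈ omegaGL ⇑Q := by
    let g : isometryGroup F ⇑Q := ⟨S, hS⟩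
    exact ⟨g * g, Cfsg.Agent.H377.mul_self_mem_Omega Q hG.nondeg hdim g, rfl⟩
  -- reflections
  have hrefl : ∀ (f : ((P × (P × P)) × (F × F)) × P) (hf : Q (e.symm f) ≠ 0) (v : ι → F),
      e (refl Q (e.symm f) hf v) = reflLin (QM QP) f (e v) := by
    intro f hf v
    rw [refl_apply, reflLin_apply, map_sub, map_smul, e.apply_symm_apply, ← he, e.apply_symm_apply]
    congr 3
    simp only [polar, ← he, _root_.LinearEquiv.map_add, e.apply_symm_apply]
  let f₁ : ((P × (P × P)) × (F × F)) × P := ((0, (1, 1)), 0)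
  let f₂ : ((P × (P × P)) × (F × F)) × P := ((0, (1, -1)), 0)
  let f₃ : ((P × (P × P)) × (F × F)) × P := (0, a)
  let f₄ : ((P × (P × P)) × (F × F)) × P := (0, a - w * a)
  have hQ1 : QM QP f₁ = 1 := by
    simp only [QM, f₁, prodForm_apply, hypForm_apply, QuadraticMap.map_zero]
    ring
  have hQ2 : QM QP f₂ = -1 := by
    simp only [QM, f₂, prodForm_apply, hypForm_apply, QuadraticMap.map_zero]
    ring
  have hQ3 : QM QP f₃ = 1 := by
    simp only [QM, f₃, prodForm_apply, QuadraticMap.map_zero, ha]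
    ring
  have hQ4 : QM QP f₄ = -1 := by
    simp only [QM, f₄, prodForm_apply, QuadraticMap.map_zero, hb]
    ring
  have k1 : Q (e.symm f₁) = 1 := by rw [← he, e.apply_symm_apply, hQ1]
  have k2 : Q (e.symm f₂) = -1 := by rw [← he, e.apply_symm_apply, hQ2]
  have k3 : Q (e.symm f₃) = 1 := by rw [← he, e.apply_symm_apply, hQ3]
  have k4 : Q (e.symm f₄) = -1 := by rw [← he, e.apply_symm_apply, hQ4]
  have n1 : Q (e.symm f₁) ≠ 0 := by rw [k1]; exact one_ne_zero
  have n2 : Q (e.symm f₂) ≠ 0 := by rw [k2]; exact neg_ne_zero.2 one_ne_zero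
  have n3 : Q (e.symm f₃) ≠ 0 := by rw [k3]; exact one_ne_zero
  have n4 : Q (e.symm f₄) ≠ 0 := by rw [k4]; exact neg_ne_zero.2 one_ne_zero
  have m1 := hG.refl_mul_refl_mem n3 n1 (k3.trans k1.symm)
  have m2 := hG.refl_mul_refl_mem n4 n2 (k4.trans k2.symm)
  -- the actions in the model
  have r1 : ∀ y, reflLin (QM QP) f₁ y = ((y.1.1, (-y.1.2.2, -y.1.2.1)), y.2) := by
    intro y
    rw [reflLin_apply, hQ1, QM, polar_prod, polar_prod, polar_hyp, inv_one, one_mul]
    have e1 : polar QP f₁.2 y.2 = 0 := polar_zero_left _ _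
    have e2 : polar (prodForm QP (prodForm QP QP)) f₁.1.1 y.1.1 = 0 := polar_zero_left _ _
    rw [e1, e2]
    refine Prod.ext (Prod.ext ?_ (Prod.ext ?_ ?_)) ?_
    · change y.1.1 - _ • (0 : P × (P × P)) = y.1.1
      rw [smul_zero, sub_zero]
    · change y.1.2.1 - (0 + (1 * y.1.2.2 + 1 * y.1.2.1) + 0) * 1 = -y.1.2.2
      ring
    · change y.1.2.2 - (0 + (1 * y.1.2.2 + 1 * y.1.2.1) + 0) * 1 = -y.1.2.1
      ring
    · change y.2 - _ • (0 : P) = y.2
      rw [smul_zero, sub_zero]
  have r2 : ∀ y, reflLin (QM QP) f₂ y = ((y.1.1, (y.1.2.2, y.1.2.1)), y.2) := by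
    intro y
    rw [reflLin_apply, hQ2, QM, polar_prod, polar_prod, polar_hyp, inv_neg, inv_one, neg_one_mul]
    have e1 : polar QP f₂.2 y.2 = 0 := polar_zero_left _ _
    have e2 : polar (prodForm QP (prodForm QP QP)) f₂.1.1 y.1.1 = 0 := polar_zero_left _ _
    rw [e1, e2]
    refine Prod.ext (Prod.ext ?_ (Prod.ext ?_ ?_)) ?_
    · change y.1.1 - _ • (0 : P × (P × P)) = y.1.1
      rw [smul_zero, sub_zero]
    · change y.1.2.1 - (-(0 + (1 * y.1.2.2 + (-1) * y.1.2.1) + 0)) * 1 = y.1.2.2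
      ring
    · change y.1.2.2 - (-(0 + (1 * y.1.2.2 + (-1) * y.1.2.1) + 0)) * (-1) = y.1.2.1
      ring
    · change y.2 - _ • (0 : P) = y.2
      rw [smul_zero, sub_zero]
  have r3 : ∀ y, reflLin (QM QP) f₃ y = (y.1, reflLin QP a y.2) := by
    intro y
    rw [reflLin_apply, reflLin_apply, hQ3, ha, QM, polar_prod]
    have e1 : polar (prodForm (prodForm QP (prodForm QP QP)) (hypForm F)) f₃.1 y.1 = 0 := polar_zero_left _ _
    rw [e1, zero_add]
    refine Prod.ext ?_ rfl
    change y.1 - _ • (0 : (P × (P × P)) × (F × F)) = y.1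
    rw [smul_zero, sub_zero]
  have r4 : ∀ y, reflLin (QM QP) f₄ y = (y.1, reflLin QP (a - w * a) y.2) := by
    intro y
    rw [reflLin_apply, reflLin_apply, hQ4, hb, QM, polar_prod]
    have e1 : polar (prodForm (prodForm QP (prodForm QP QP)) (hypForm F)) f₄.1 y.1 = 0 := polar_zero_left _ _
    rw [e1, zero_add]
    refine Prod.ext ?_ rfl
    change y.1 - _ • (0 : (P × (P × P)) × (F × F)) = y.1
    rw [smul_zero, sub_zero]
  -- the product
  have hprod : glEquiv ι F G = glEquiv ι F (S * S) * (refl Q (e.symm f₁) n1 * refl Q (e.symm f₃) n3) *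
      (refl Q (e.symm f₂) n2 * refl Q (e.symm f₄) n4) := by
    apply LinearEquiv.ext
    intro v
    apply e.injective
    change e ((G : Matrix ι ι F) *ᵥ v) = e (((S * S : GL ι F) : Matrix ι ι F) *ᵥ
      (refl Q (e.symm f₁) n1 (refl Q (e.symm f₃) n3 (refl Q (e.symm f₂) n2 (refl Q (e.symm f₄) n4 v)))))
    rw [hGe, Units.val_mul, ← Matrix.mulVec_mulVec, hSe, hSe, hrefl, hrefl, hrefl, hrefl, r4, r2, r3, r1, hs, hs]
    refine Prod.ext (Prod.ext (Prod.ext ?_ (Prod.ext ?_ ?_)) (Prod.ext ?_ ?_)) ?_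
    · change -(e v).1.1.1 = w * (w * (e v).1.1.1)
      rw [← mul_assoc, hw, neg_one_mul]
    · change -(e v).1.1.2.1 = w * (w * (e v).1.1.2.1)
      rw [← mul_assoc, hw, neg_one_mul]
    · change -(e v).1.1.2.2 = w * (w * (e v).1.1.2.2)
      rw [← mul_assoc, hw, neg_one_mul]
    · rfl
    · rfl
    · exact (hrot _).symm
  rw [mem_om hG, hprod]
  exact (E Q).mul_mem ((E Q).mul_mem ((mem_om hG).1 hSS) m1) m2

end model

theorem exists_A3 (hq : Fintype.card F = 3) {M : ℕ} (hM : Num (Fintype.card F) (2 * 5) (2 * 4) M) :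
    ∃ A : GL (Fin 5 ⊕ Fin 5) F, A ∈ omegaGL ⇑(plusForm 5 F) ∧ (∃ i, NumEl 4 (A ^ i)) ∧
      Dims A {0, 2 * 1, 2 * 4, 2 * 5} := by
  have hq2 : 2 ≤ Fintype.card F := Fintype.one_lt_card
  have hMd := num_dvd (by norm_num) hM
  have hMo := num_odd hq2 (by norm_num) hM
  obtain ⟨L, _, _, _, Q, u, s1, s2, s3, s4, s5⟩ := exists_negN (F := F) (k := 4) (by norm_num) hMd
  obtain ⟨P, _, _, _, QP, w, t1, t2, t3, t4, t5⟩ := exists_negN (F := F) (k := 1) (N := Fintype.card F ^ 1 + 1)
    (by norm_num) dvd_rfl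
  rw [hq] at t3
  have hfL : FiniteDimensional F L := Module.Finite.of_finite
  have hfP : FiniteDimensional F P := Module.Finite.of_finite
  have hM1 : M ≠ 1 := by
    have := hM.big
    omega
  have hM0 : M ≠ 0 := by
    have := hM.big
    omega
  have hw4 : w ^ 4 = 1 := by
    have := pow_orderOf_eq_one w
    rw [t3] at this
    exact this
  have hw2 : w * w = -1 := by
    have h1 : (w * w - 1) * (w * w + 1) = 0 := by linear_combination hw4
    rcases mul_eq_zero.1 h1 with h | h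
    · exfalso
      have h2 : w ^ 2 = 1 := by linear_combination h
      have h3 := orderOf_dvd_of_pow_eq_one h2
      rw [t3] at h3
      exact absurd h3 (by decide)
    · linear_combination h
  obtain ⟨a, ha⟩ := exists_norm_one hq t1.nondeg hw2 t5
  -- the isometries
  have hs := s1.prod t1
  rw [show 4 + 1 = 5 from rfl, show (-1 : ℤ) * -1 = 1 by norm_num] at hs
  obtain ⟨e, he⟩ := Sg.exists_equiv (sg_plus (F := F) 5) hs
  obtain ⟨e₂, he₂⟩ := Sg.exists_equiv s1 (sg_L t1)
  have hG : Good (plusForm 5 F) := good_plusForm (by norm_num)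
  have hxQ : ∀ v : L × P, prodForm Q QP (((LinearMap.mulLeft F u).prodMap (1 : Module.End F P)) v) =
      prodForm Q QP v := by
    intro v
    change Q (u * v.1) + QP v.2 = Q v.1 + QP v.2
    rw [s5]
  have p1 : (LinearMap.mulLeft F u : Module.End F L) ^ M = 1 := by
    rw [mulLeft_pow, mulLeft_eq_one, ← s3, pow_orderOf_eq_one]
  have hxM : (((LinearMap.mulLeft F u).prodMap (1 : Module.End F P) : Module.End F (L × P))) ^ M = 1 := by
    rw [pair_pow, p1, one_pow]
    rfl
  obtain ⟨X, hX, hXe⟩ := exists_sim_iso (Q := plusForm 5 F) e he hxQ hM0 hxM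
  have hX' : X ∈ omegaGL ⇑(plusForm 5 F) :=
    mem_omegaGL_of_odd (sg_plus (F := F) 5).nondeg (by rw [card_ix]; norm_num) hX hMo
      ((Sim.pow_eq_one_iff ⟨e, hXe⟩ M).2 hxM)
  have hgQ : ∀ v : L × P, prodForm Q QP (((LinearMap.mulLeft F (-1) : Module.End F L).prodMap
      (LinearMap.mulLeft F w : Module.End F P)) v) = prodForm Q QP v := by
    intro v
    change Q (-1 * v.1) + QP (w * v.2) = Q v.1 + QP v.2
    rw [neg_one_mul, QuadraticMap.map_neg, t5]
  have hg4 : ((LinearMap.mulLeft F (-1) : Module.End F L).prodMap (LinearMap.mulLeft F w : Module.End F P) :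
      Module.End F (L × P)) ^ 4 = 1 := by
    rw [pair_pow, mulLeft_pow, mulLeft_pow, hw4, Even.neg_one_pow (by decide : Even 4), mulLeft_eq_one.2 rfl,
      mulLeft_eq_one.2 rfl]
    rfl
  obtain ⟨G, hGi, hGe⟩ := exists_sim_iso (Q := plusForm 5 F) e he hgQ (by norm_num) hg4
  have hG' : G ∈ omegaGL ⇑(plusForm 5 F) := by
    refine mem_om_of hG hq (by rw [t2]) hw2 t5 ha (e.trans (e₂.prodCongr (LinearEquiv.refl F P))) ?_ ?_
    · intro v
      rw [← he]
      change prodForm (prodForm QP (prodForm QP QP)) (hypForm F) (e₂ (e v).1) + QP (e v).2 = Q (e v).1 + QP (e v).2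
      rw [he₂]
    · intro v
      change (e₂ (e ((G : Matrix (Fin 5 ⊕ Fin 5) (Fin 5 ⊕ Fin 5) F) *ᵥ v)).1,
        (e ((G : Matrix (Fin 5 ⊕ Fin 5) (Fin 5 ⊕ Fin 5) F) *ᵥ v)).2) = (-e₂ (e v).1, w * (e v).2)
      rw [hGe]
      change (e₂ (-1 * (e v).1), w * (e v).2) = (-e₂ (e v).1, w * (e v).2)
      rw [neg_one_mul, map_neg]
  -- the element
  have hsim : Sim (X * G) ((LinearMap.mulLeft F (-u) : Module.End F L).prodMap
      (LinearMap.mulLeft F w : Module.End F P)) := by
    refine ⟨e, fun v => ?_⟩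
    rw [Units.val_mul, ← Matrix.mulVec_mulVec, hXe, hGe]
    refine Prod.ext ?_ rfl
    change u * (-1 * (e v).1) = -u * (e v).1
    ring
  have hc : M.Coprime 4 := by
    have h1 : M.Coprime 2 := Nat.coprime_two_right.2 hMo
    exact Nat.Coprime.pow_right 2 h1
  have huM : u ^ M = 1 := by rw [← s3, pow_orderOf_eq_one]
  obtain ⟨j, hj1, hj2⟩ := Nat.chineseRemainder hc 1 0
  obtain ⟨k, hk1, hk2⟩ := Nat.chineseRemainder hc 0 1
  have hpj : ((LinearMap.mulLeft F (-u) : Module.End F L).prodMap (LinearMap.mulLeft F w : Module.End F P) :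
      Module.End F (L × P)) ^ j = (LinearMap.mulLeft F u : Module.End F L).prodMap (1 : Module.End F P) := by
    have h1 : (-u) ^ j = u := by
      have h2 : Even j := by
        rw [even_iff_two_dvd]
        exact (by norm_num : 2 ∣ 4).trans ((Nat.modEq_zero_iff_dvd).1 hj2)
      rw [h2.neg_pow]
      have h3 := pow_eq_pow_of_modEq hj1 huM
      rwa [pow_one] at h3
    have h2 : w ^ j = 1 := by
      have h3 := pow_eq_pow_of_modEq hj2 hw4
      rwa [pow_zero] at h3
    rw [pair_pow, mulLeft_pow, mulLeft_pow, h1, h2, mulLeft_eq_one.2 rfl]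
  have hpk : ((LinearMap.mulLeft F (-u) : Module.End F L).prodMap (LinearMap.mulLeft F w : Module.End F P) :
      Module.End F (L × P)) ^ k = (LinearMap.mulLeft F (-1) : Module.End F L).prodMap
        (LinearMap.mulLeft F w : Module.End F P) := by
    have h1 : (-u) ^ k = -1 := by
      have h2 : Odd k := by
        rw [Nat.odd_iff]
        have h3 : k % 4 = 1 % 4 := hk2
        omega
      rw [h2.neg_pow]
      have h3 := pow_eq_pow_of_modEq hk1 huM
      rw [h3, pow_zero]
    have h2 : w ^ k = w := by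
      have h3 := pow_eq_pow_of_modEq hk2 hw4
      rwa [pow_one] at h3
    rw [pair_pow, mulLeft_pow, mulLeft_pow, h1, h2]
  refine ⟨X * G, (omegaGL _).mul_mem hX' hG', ⟨j, ?_⟩, ?_⟩
  · refine numEl_of (V := P) (by norm_num) (by rw [card_ix]; exact hM) s3 s2 ?_
    have h1 := hsim.pow j
    rw [hpj] at h1
    exact h1
  · apply hsim.dims
    intro W hW
    have hWj : ∀ v ∈ W, (LinearMap.mulLeft F u v.1, v.2) ∈ W := by
      intro v hv
      have h := H383.Cov.inv_pow hW j v hv
      rw [hpj] at h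
      exact h
    have hWk : ∀ v ∈ W, (-v.1, w * v.2) ∈ W := by
      intro v hv
      have h := H383.Cov.inv_pow hW k v hv
      rw [hpk] at h
      change ((-1 : L) * v.1, w * v.2) ∈ W at h
      rwa [neg_one_mul] at h
    rw [split_inv (mulLeft_free (ne_one_of_order s3 hM1)) hWj]
    have hL : ∀ v ∈ W.comap (LinearMap.inl F L P), u * v ∈ W.comap (LinearMap.inl F L P) := fun v hv => hWj _ hv
    have hPi : ∀ v ∈ W.comap (LinearMap.inr F L P), w * v ∈ W.comap (LinearMap.inr F L P) := by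
      intro v hv
      have h := hWk _ hv
      change ((-(0 : L)), w * v) ∈ W at h
      rw [neg_zero] at h
      exact h
    have i1 := irr_mul (F := F) (ζ := u) (by
      rw [s2, Nat.card_eq_fintype_card, s3]
      exact num_not_dvd hM) s4 hL
    have i2 := irr_mul (F := F) (ζ := w) (by
      rw [t2, Nat.card_eq_fintype_card, t3, hq]
      intro j hj hj2
      obtain rfl : j = 1 := by omega
      decide) t4 hPi
    have k1 : finrank F (W.comap (LinearMap.inl F L P)) = 0 ∨ finrank F (W.comap (LinearMap.inl F L P)) = 8 := by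
      rcases i1 with h | h
      · left; rw [h, finrank_bot]
      · right; rw [h, finrank_top, s2]
    have k2 : finrank F (W.comap (LinearMap.inr F L P)) = 0 ∨ finrank F (W.comap (LinearMap.inr F L P)) = 2 := by
      rcases i2 with h | h
      · left; rw [h, finrank_bot]
      · right; rw [h, finrank_top, t2]
    simp only [Set.mem_insert_iff, Set.mem_singleton_iff]
    omega

/-- **S3938, plus type.** -/
theorem spr_plus (hP : S5948Stmt.{0}) {m : ℕ} (hm : 5 ≤ m) (h2 : Fintype.card F = 2 → 9 ≤ m) :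
    Spr (POmega F (quadFormPlus m F)) := by
  by_cases h3 : Fintype.card F = 3 ∧ m = 5
  · obtain ⟨hq, rfl⟩ := h3
    have hpp : IsPrimePow (Fintype.card F) := Fintype.isPrimePow_card_of_field
    obtain ⟨M, hM⟩ := H906.Cov.exists_num (n := 2 * 5) (k := 2 * 4) hpp (by norm_num) (by norm_num) (by norm_num)
      (fun h => by omega) (by norm_num)
    obtain ⟨A, hA, ⟨i, hAi⟩, dA⟩ := exists_A3 hq hM
    exact spr_of_el hP (a := 4) (e := 1) rfl (by norm_num) (by norm_num) (by norm_num) (by norm_num)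
      (fun r hr h => two_of_dvd (k := 1) hr (a := 4) (e := 1) rfl (by norm_num) h) hA hAi dA
  · exact spr_plus' hP hm h2 h3

end Cfsg.Agent.H604.Spr
end

-- part: H832/PoSeven/Count
section
/-!
# Isometries whose order is a primitive prime divisor of `p ^ (6 a) - 1` in dimension 7 (helper832)
-/

set_option autoImplicit false
set_option linter.unusedSectionVars false

namespace Cfsg.Agent.H832.PoSeven

open Module QuadraticMap Cfsg.Agent.LieClassical.OrthCore Cfsg.Agent.LieClassical.OrthTrans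
  Cfsg.Agent.ClassicalGeometry.OrthSemi Cfsg.Agent.ClassicalGeometry.OrthAut1
open Cfsg.Agent.H436 (Prim)

/-- the number of fixed points of an additive map of prime order -/
theorem prim_dvd {A : Type*} [AddCommGroup A] [Finite A] {p a r n : ℕ} (hp : p.Prime) (hr : Prim p (6 * a) r)
    (hn : Nat.card A = p ^ n) (f : A →+ A) (hf : ∀ x, f^[r] x = x) :
    ∃ b, b ≤ n ∧ Nat.card {x : A // f x = x} = p ^ b ∧ 6 * a ∣ n - b := by
  classical
  have := Fact.mk hr.prime
  have := Fact.mk hp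
  have := Fintype.ofFinite A
  have h1 : Fintype.card A ≡ Fintype.card (Function.fixedPoints (f : A → A)) [MOD r] := by
    apply Equiv.Perm.card_fixedPoints_modEq (f := (f : A → A)) (n := 1)
    rw [pow_one]
    funext x
    exact hf x
  rw [← Nat.card_eq_fintype_card, ← Nat.card_eq_fintype_card, hn] at h1
  have h2 : Nat.card (Function.fixedPoints (f : A → A)) = Nat.card {x : A // f x = x} := rfl
  rw [h2] at h1
  have h3 : Nat.card {x : A // f x = x} = Nat.card (f - AddMonoidHom.id A).ker := by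
    apply Nat.card_congr
    refine Equiv.subtypeEquivRight fun x => ?_
    rw [AddMonoidHom.mem_ker, AddMonoidHom.sub_apply, AddMonoidHom.id_apply, sub_eq_zero]
  have h4 : Nat.card (f - AddMonoidHom.id A).ker ∣ p ^ n := by
    rw [← hn]
    exact AddSubgroup.card_addSubgroup_dvd_card _
  obtain ⟨b, hb, hb'⟩ := (Nat.dvd_prime_pow hp).1 h4
  refine ⟨b, hb, h3.trans hb', ?_⟩
  rw [h3, hb'] at h1
  have h5 : r ∣ p ^ n - p ^ b := (Nat.modEq_iff_dvd' (Nat.pow_le_pow_right hp.pos hb)).1 h1.symm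
  have h6 : p ^ n - p ^ b = p ^ b * (p ^ (n - b) - 1) := by
    rw [Nat.mul_sub, mul_one, ← pow_add, Nat.add_sub_cancel' hb]
  rw [h6] at h5
  exact (hr.dvd_iff _).1 (((Nat.Prime.dvd_mul hr.prime).1 h5).resolve_left (hr.not_dvd_pow b))

/-- a field automorphism of order `r` is trivial -/
theorem ringEquiv_eq_refl {F : Type*} [Field F] [Finite F] {p a r : ℕ} (hp : p.Prime) (ha : 1 ≤ a)
    (hr : Prim p (6 * a) r) (hF : Nat.card F = p ^ a) (σ : F ≃+* F) (hσ : ∀ x, σ^[r] x = x) (x : F) : σ x = x := by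
  obtain ⟨b, hb, h1, h2⟩ := prim_dvd hp hr hF (σ : F ≃+* F).toRingHom.toAddMonoidHom hσ
  have h3 : a - b = 0 := by
    rcases Nat.eq_zero_or_pos (a - b) with h | h
    · exact h
    · have := Nat.le_of_dvd h h2
      omega
  have h4 : b = a := by omega
  subst h4
  have h5 : Nat.card {x : F // σ x = x} = Nat.card F := h1.trans hF.symm
  have h6 : Function.Surjective (Subtype.val : {x : F // σ x = x} → F) :=
    ((Nat.bijective_iff_injective_and_card _).2 ⟨Subtype.val_injective, h5⟩).2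
  obtain ⟨⟨y, hy⟩, rfl⟩ := h6 x
  exact hy

section

variable {F V : Type*} [Field F] [Finite F] [AddCommGroup V] [Module F V] [Finite V] {Q : QuadraticForm F V}
  {p a r : ℕ} {Y : V ≃ₗ[F] V} {l : V}

/-- `Y` is an isometry of prime order `r` in dimension 7, `l` its fixed vector. -/
structure Dat (Q : QuadraticForm F V) (p a r : ℕ) (Y : V ≃ₗ[F] V) (l : V) : Prop where
  hp : p.Prime
  ha : 1 ≤ a
  prim : Prim p (6 * a) r
  cardF : Nat.card F = p ^ a
  two : (2 : F) ≠ 0
  nd : Nondeg Q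
  dim : finrank F V = 7
  iso : ∀ v, Q (Y v) = Q v
  pow : Y ^ r = 1
  fl : Y l = l
  fix : ∀ v, Y v = v → ∃ c : F, v = c • l
  ql : Q l ≠ 0

omit [Finite F] [Finite V] in
theorem iter (Y : V ≃ₗ[F] V) (n : ℕ) (v : V) : Y^[n] v = (Y ^ n) v := by
  induction n with
  | zero => rfl
  | succ n ih => rw [Function.iterate_succ_apply', ih, pow_succ']; rfl

omit [Finite F] in
theorem card_V (hF : Nat.card F = p ^ a) (hd : finrank F V = 7) : Nat.card V = p ^ (7 * a) := by
  rw [Module.natCard_eq_pow_finrank (K := F), hF, hd, ← pow_mul, mul_comm]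

/-- existence of the fixed vector -/
theorem exists_dat (hp : p.Prime) (ha : 1 ≤ a) (hr : Prim p (6 * a) r) (hF : Nat.card F = p ^ a) (h2 : (2 : F) ≠ 0)
    (hnd : Nondeg Q) (hd : finrank F V = 7) (hiso : ∀ v, Q (Y v) = Q v) (hpow : Y ^ r = 1) (hne : Y ≠ 1) :
    ∃ l, Dat Q p a r Y l := by
  have hit : ∀ x, (Y : V →ₗ[F] V).toAddMonoidHom^[r] x = x := by
    intro x
    have h3 := iter Y r x
    rw [hpow] at h3
    exact h3
  obtain ⟨b, hb, h1, h3⟩ := prim_dvd hp hr (card_V hF hd) (Y : V →ₗ[F] V).toAddMonoidHom hit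
  let W : Submodule F V := LinearMap.ker ((Y : V →ₗ[F] V) - LinearMap.id)
  have hW : ∀ v, v ∈ W ↔ Y v = v := by
    intro v
    rw [LinearMap.mem_ker, LinearMap.sub_apply, LinearMap.id_apply, sub_eq_zero]
    rfl
  have h4 : Nat.card W = p ^ b := by
    rw [← h1]
    apply Nat.card_congr
    exact Equiv.subtypeEquivRight fun v => hW v
  rw [Module.natCard_eq_pow_finrank (K := F), hF, ← pow_mul] at h4
  have h5 : a * finrank F W = b := Nat.pow_right_injective hp.two_le h4
  have h6 : finrank F W = 1 := by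
    have h7 : finrank F W ≤ 7 := by rw [← hd]; exact Submodule.finrank_le W
    have h8 : 7 * a - b = a * (7 - finrank F W) := by rw [← h5, Nat.mul_sub, mul_comm 7 a]
    rw [h8, mul_comm 6 a] at h3
    have h9 : 6 ∣ 7 - finrank F W := Nat.dvd_of_mul_dvd_mul_left (by omega) h3
    have h10 : finrank F W ≠ 7 := by
      intro h11
      apply hne
      have h12 : W = ⊤ := Submodule.eq_top_of_finrank_eq (by rw [h11, hd])
      ext v
      have h13 : v ∈ W := by rw [h12]; trivial
      exact (hW v).1 h13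
    omega
  obtain ⟨⟨l, hl⟩, hl0, hl1⟩ := finrank_eq_one_iff'.1 h6
  have hfl : Y l = l := (hW l).1 hl
  have hfix : ∀ v, Y v = v → ∃ c : F, v = c • l := by
    intro v hv
    obtain ⟨c, hc⟩ := hl1 ⟨v, (hW v).2 hv⟩
    exact ⟨c, (congrArg Subtype.val hc).symm⟩
  refine ⟨l, hp, ha, hr, hF, h2, hnd, hd, hiso, hpow, hfl, hfix, ?_⟩
  -- `Q l ≠ 0`
  intro hq
  have hpol : ∀ u v, polar Q (Y u) (Y v) = polar Q u v := by
    intro u v
    rw [polar, polar, ← map_add, hiso, hiso, hiso]
  have hpol1 : ∀ v, polar Q l (Y v) = polar Q l v := by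
    intro v
    have := hpol l v
    rwa [hfl] at this
  have hpoln : ∀ (n : ℕ) v, polar Q l ((Y ^ n) v) = polar Q l v := by
    intro n
    induction n with
    | zero => intro v; rfl
    | succ n ih =>
      intro v
      rw [pow_succ]
      show polar Q l ((Y ^ n) (Y v)) = _
      rw [ih, hpol1]
  have hr0 : (r : F) ≠ 0 := by
    intro h
    have : Fact p.Prime := ⟨hp⟩
    have : CharP F p := by
      obtain ⟨q, hq⟩ := CharP.exists F
      have hqp : q.Prime := (CharP.char_is_prime_or_zero F q).resolve_right (CharP.char_ne_zero_of_finite F q)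
      have : Fact q.Prime := ⟨hqp⟩
      have := Fintype.ofFinite F
      obtain ⟨n, -, hn⟩ := FiniteField.card F q
      rw [← Nat.card_eq_fintype_card, hF] at hn
      have h7 : p ∣ q ^ (n : ℕ) := by rw [← hn]; exact dvd_pow_self p (by omega)
      rwa [← (Nat.prime_dvd_prime_iff_eq hp hqp).1 (hp.dvd_of_dvd_pow h7)] at hq
    have h7 := (CharP.cast_eq_zero_iff F p r).1 h
    have h8 := (Nat.prime_dvd_prime_iff_eq hp hr.prime).1 h7
    exact hr.not_dvd (by rw [h8])
  have hl0' : l ≠ 0 := fun h => hl0 (Subtype.ext h)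
  apply hl0'
  apply hnd
  intro w
  let N : V := ∑ i ∈ Finset.range r, (Y ^ i) w
  have hN : Y N = N := by
    have h7 : Y N = ∑ i ∈ Finset.range r, (Y ^ (i + 1)) w := by
      rw [map_sum]
      apply Finset.sum_congr rfl
      intro i _
      rw [pow_succ']
      rfl
    rw [h7]
    have h8 := Finset.sum_range_succ' (fun i => (Y ^ i) w) r
    have h9 := Finset.sum_range_succ (fun i => (Y ^ i) w) r
    rw [h8, hpow] at h9
    have h10 : (Y ^ 0) w = (1 : V ≃ₗ[F] V) w := by rw [pow_zero]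
    rw [h10] at h9
    exact add_right_cancel h9
  obtain ⟨c, hc⟩ := hfix N hN
  have h7 : polar Q l N = r * polar Q l w := by
    have h8 : ∀ n : ℕ, polar Q l (∑ i ∈ Finset.range n, (Y ^ i) w) = n * polar Q l w := by
      intro n
      induction n with
      | zero => rw [Finset.sum_range_zero, polar_zero_right, Nat.cast_zero, zero_mul]
      | succ n ih => rw [Finset.sum_range_succ, polar_add_right, ih, hpoln, Nat.cast_succ]; ring
    exact h8 r
  rw [hc, polar_smul_right, polar_self, hq, nsmul_zero, smul_zero] at h7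
  exact (mul_eq_zero.1 h7.symm).resolve_left hr0

namespace Dat

theorem charP (D : Dat Q p a r Y l) : CharP F p := by
  obtain ⟨q, hq⟩ := CharP.exists F
  have hqp : q.Prime := (CharP.char_is_prime_or_zero F q).resolve_right (CharP.char_ne_zero_of_finite F q)
  have : Fact q.Prime := ⟨hqp⟩
  have := Fintype.ofFinite F
  obtain ⟨n, -, hn⟩ := FiniteField.card F q
  rw [← Nat.card_eq_fintype_card, D.cardF] at hn
  have h7 : p ∣ q ^ (n : ℕ) := by rw [← hn]; exact dvd_pow_self p (by have := D.ha; omega)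
  rwa [← (Nat.prime_dvd_prime_iff_eq D.hp hqp).1 (D.hp.dvd_of_dvd_pow h7)] at hq

/-- the hyperplane `l^⊥` -/
def H (_ : Dat Q p a r Y l) : Submodule F V := LinearMap.ker (polarBilin Q l)

theorem mem_H (D : Dat Q p a r Y l) {v : V} : v ∈ D.H ↔ polar Q l v = 0 := by
  rw [H, LinearMap.mem_ker, polarBilin_apply_apply]

theorem l_not_mem (D : Dat Q p a r Y l) : l ∉ D.H := by
  rw [D.mem_H, polar_self]
  intro h
  rw [nsmul_eq_mul] at h
  exact mul_ne_zero (by exact_mod_cast D.two) D.ql h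

theorem polar_Y (D : Dat Q p a r Y l) (u v : V) : polar Q (Y u) (Y v) = polar Q u v := by
  rw [polar, polar, ← map_add, D.iso, D.iso, D.iso]

theorem Y_mem_H (D : Dat Q p a r Y l) {v : V} (hv : v ∈ D.H) : Y v ∈ D.H := by
  rw [D.mem_H] at hv ⊢
  have h := D.polar_Y l v
  rw [D.fl] at h
  rw [h, hv]

theorem finrank_H (D : Dat Q p a r Y l) : finrank F D.H = 6 := by
  have h1 := LinearMap.finrank_range_add_finrank_ker (polarBilin Q l)
  have h2 : LinearMap.range (polarBilin Q l) = ⊤ := by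
    rw [LinearMap.range_eq_top]
    intro c
    have h3 : polarBilin Q l l ≠ 0 := fun h => D.l_not_mem h
    exact ⟨(c * (polarBilin Q l l)⁻¹) • l, by rw [map_smul, smul_eq_mul, mul_assoc, inv_mul_cancel₀ h3, mul_one]⟩
  rw [h2, finrank_top, finrank_self, D.dim] at h1
  have h4 : finrank F D.H = finrank F (LinearMap.ker (polarBilin Q l)) := rfl
  omega

theorem card_H (D : Dat Q p a r Y l) : Nat.card D.H = p ^ (6 * a) := by
  rw [Module.natCard_eq_pow_finrank (K := F), D.finrank_H, D.cardF, ← pow_mul, mul_comm]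

/-- **Irreducibility.** -/
theorem irr (D : Dat Q p a r Y l) (A : AddSubgroup V) (hA : ∀ v ∈ A, Y v ∈ A) (hAH : ∀ v ∈ A, v ∈ D.H) {v₀ : V}
    (hv : v₀ ∈ A) (h0 : v₀ ≠ 0) {v : V} (hvH : v ∈ D.H) : v ∈ A := by
  have h1 : Nat.card A ∣ p ^ (7 * a) := by
    rw [← card_V D.cardF D.dim]
    exact AddSubgroup.card_addSubgroup_dvd_card A
  obtain ⟨n, -, hn⟩ := (Nat.dvd_prime_pow D.hp).1 h1
  let f : A →+ A := ((Y : V →ₗ[F] V).toAddMonoidHom.comp A.subtype).codRestrict A fun x => hA x x.2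
  have hf : ∀ (k : ℕ) (x : A), ((f^[k] x : A) : V) = (Y ^ k) x := by
    intro k x
    induction k with
    | zero => rfl
    | succ k ih =>
      rw [Function.iterate_succ_apply', pow_succ']
      show Y ((f^[k] x : A) : V) = _
      rw [ih]
      rfl
  obtain ⟨b, hb, h2, h3⟩ := prim_dvd D.hp D.prim hn f fun x => Subtype.ext (by rw [hf, D.pow]; rfl)
  have h4 : Nat.card {x : A // f x = x} = 1 := by
    rw [Nat.card_eq_one_iff_unique]
    refine ⟨⟨?_⟩, ⟨⟨0, map_zero f⟩⟩⟩
    have key : ∀ x : {x : A // f x = x}, ((x : A) : V) = 0 := by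
      rintro ⟨⟨x, hx⟩, hfx⟩
      have h5 : Y x = x := congrArg Subtype.val hfx
      obtain ⟨c, rfl⟩ := D.fix x h5
      have h6 := D.mem_H.1 (hAH _ hx)
      rw [polar_smul_right, smul_eq_mul] at h6
      have h7 : c = 0 := (mul_eq_zero.1 h6).resolve_right fun h => D.l_not_mem (D.mem_H.2 h)
      show c • l = 0
      rw [h7, zero_smul]
    intro x y
    exact Subtype.ext (Subtype.ext ((key x).trans (key y).symm))
  rw [h4] at h2
  have h5 : b = 0 := by
    by_contra h
    have := Nat.one_lt_pow h D.hp.one_lt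
    omega
  rw [h5, Nat.sub_zero] at h3
  have h6 : n ≠ 0 := by
    rintro rfl
    rw [pow_zero] at hn
    have := (Nat.card_eq_one_iff_unique.1 hn).1
    exact h0 (congrArg Subtype.val (Subsingleton.elim (⟨v₀, hv⟩ : A) 0))
  have h7 : 6 * a ≤ n := Nat.le_of_dvd (Nat.pos_of_ne_zero h6) h3
  have h8 : A = D.H.toAddSubgroup := by
    apply AddSubgroup.eq_of_le_of_card_ge (fun v hv => hAH v hv)
    have h9 : Nat.card D.H.toAddSubgroup = p ^ (6 * a) := D.card_H
    rw [h9, hn]
    exact Nat.pow_le_pow_right D.hp.pos h7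
  rw [h8]
  exact hvH

theorem exists_ne (D : Dat Q p a r Y l) : ∃ v ∈ D.H, v ≠ 0 := by
  by_contra h
  push Not at h
  have h1 : D.H = ⊥ := by
    rw [eq_bot_iff]
    intro v hv
    exact h v hv
  have h2 := D.finrank_H
  rw [h1, finrank_bot] at h2
  omega

/-- two additive maps commuting with `Y` and equal at one nonzero vector of `H` are equal on `H` -/
theorem eq_of_eq (D : Dat Q p a r Y l) (f g : V →+ V) (hf : ∀ v, f (Y v) = Y (f v)) (hg : ∀ v, g (Y v) = Y (g v))
    {v₀ : V} (hv : v₀ ∈ D.H) (h0 : v₀ ≠ 0) (h : f v₀ = g v₀) {v : V} (hvH : v ∈ D.H) : f v = g v := by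
  let A : AddSubgroup V := (f - g).ker ⊓ D.H.toAddSubgroup
  have hA : ∀ v, v ∈ A ↔ f v = g v ∧ v ∈ D.H := by
    intro v
    rw [AddSubgroup.mem_inf, AddMonoidHom.mem_ker, AddMonoidHom.sub_apply, sub_eq_zero]
    rfl
  refine ((hA v).1 (D.irr A ?_ ?_ ((hA v₀).2 ⟨h, hv⟩) h0 hvH)).1
  · intro w hw
    rw [hA] at hw ⊢
    exact ⟨by rw [hf, hg, hw.1], D.Y_mem_H hw.2⟩
  · intro w hw
    exact ((hA w).1 hw).2

/-- **Linearity.** An additive semilinear map commuting with `Y` is linear. -/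
theorem linear (D : Dat Q p a r Y l) (T : Equiv.Perm V) (τ : F → F) (hadd : ∀ u v, T (u + v) = T u + T v)
    (hsm : ∀ (c : F) (v : V), T (c • v) = τ c • T v) (hY : ∀ v, T (Y v) = Y (T v)) (hH : ∀ v ∈ D.H, T v ∈ D.H)
    (c : F) : τ c = c := by
  have hT0 : T 0 = 0 := by
    have := hadd 0 0
    rw [add_zero] at this
    exact left_eq_add.1 this
  let E := AddMonoid.End V
  let y : E := (Y : V →ₗ[F] V).toAddMonoidHom
  let t : E := ⟨⟨T, hT0⟩, hadd⟩
  let s : E := (LinearMap.lsmul F V c).toAddMonoidHom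
  let B : Subring E := Subring.closure {y}
  have hcomm : ∀ f : E, f * y = y * f → ∀ b ∈ B, ∀ v, f (b v) = b (f v) := by
    intro f hf b hb v
    have h1 : B ≤ Subring.centralizer {f} := by
      rw [Subring.closure_le]
      rintro _ rfl
      exact Subring.mem_centralizer_iff.2 fun g hg => by
        rw [Set.mem_singleton_iff] at hg
        rw [hg]
        exact hf
    have h2 := Subring.mem_centralizer_iff.1 (h1 hb) f rfl
    exact DFunLike.congr_fun h2 v
  have hyB : y ∈ B := Subring.subset_closure rfl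
  have hBH : ∀ b ∈ B, ∀ v ∈ D.H, b v ∈ D.H := by
    intro b hb
    induction hb using Subring.closure_induction with
    | mem x hx =>
      rw [Set.mem_singleton_iff] at hx
      intro v hv
      rw [hx]
      exact D.Y_mem_H hv
    | zero => intro v _; exact D.H.zero_mem
    | one => intro v hv; exact hv
    | add x y _ _ hx hy => intro v hv; exact D.H.add_mem (hx v hv) (hy v hv)
    | neg x _ hx => intro v hv; exact D.H.neg_mem (hx v hv)
    | mul x y _ _ hx hy => intro v hv; exact hx _ (hy v hv)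
  obtain ⟨v, hv, hv0⟩ := D.exists_ne
  -- every element of `H` is `b v`
  have hall : ∀ w ∈ D.H, ∃ b ∈ B, w = b v := by
    intro w hw
    let A : AddSubgroup V := B.toAddSubgroup.map (AddMonoidHom.eval v)
    have hA : ∀ w, w ∈ A ↔ ∃ b ∈ B, w = b v := by
      intro w
      constructor
      · rintro ⟨b, hb, rfl⟩
        exact ⟨b, hb, rfl⟩
      · rintro ⟨b, hb, rfl⟩
        exact ⟨b, hb, rfl⟩
    refine (hA w).1 (D.irr A ?_ ?_ ((hA v).2 ⟨1, B.one_mem, rfl⟩) hv0 hw)
    · intro u hu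
      obtain ⟨b, hb, rfl⟩ := (hA u).1 hu
      exact (hA _).2 ⟨y * b, B.mul_mem hyB hb, rfl⟩
    · intro u hu
      obtain ⟨b, hb, rfl⟩ := (hA u).1 hu
      exact hBH b hb v hv
  obtain ⟨b, hb, hbv⟩ := hall (c • v) (D.H.smul_mem c hv)
  have hsb : ∀ w ∈ D.H, c • w = b w := by
    intro w hw
    obtain ⟨b', hb', rfl⟩ := hall w hw
    have h1 : s (b' v) = b' (s v) := hcomm s (by
      ext u
      exact (map_smul Y c u).symm) b' hb' v
    have h2 : s v = b v := hbv
    have h3 : s (b' v) = c • b' v := rfl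
    rw [← h3, h1, h2]
    have h4 : ∀ u, b' (y u) = y (b' u) := by
      intro u
      exact (hcomm y rfl b' hb' u).symm
    exact (hcomm b' (by ext u; exact h4 u) b hb v)
  have h1 : T (c • v) = τ c • T v := hsm c v
  have h2 : T (b v) = b (T v) := hcomm t (by ext u; exact hY u) b hb v
  have h3 : τ c • T v = c • T v := by
    rw [← h1, hbv, h2, hsb _ (hH v hv)]
  have h4 : T v ≠ 0 := fun h => hv0 (T.injective (by rw [h, hT0]))
  have h5 : (τ c - c) • T v = 0 := by rw [sub_smul, h3, sub_self]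
  exact sub_eq_zero.1 ((smul_eq_zero.1 h5).resolve_right h4)

end Dat

end

end Cfsg.Agent.H832.PoSeven
end

-- part: H832/PoSeven/Planes
section
/-!
# Two commuting isometries in dimension 7: planes (helper832)

`Y` of order `r` (a primitive prime divisor of `p ^ (6 a) - 1`), `T` with `T ^ (q + 1) = 1`, `T² ≠ 1` commuting with `Y`, `T l = l`.
`T² = lam T - 1` on `l^⊥`, the sum of three orthogonal anisotropic `T`-invariant planes. The element `T` is the product of three
conjugates of `T`.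
-/

set_option autoImplicit false
set_option linter.unusedSectionVars false

namespace Cfsg.Agent.H832.PoSeven

open Module QuadraticMap Cfsg.Agent.LieClassical.OrthCore Cfsg.Agent.LieClassical.OrthTrans
open Cfsg.Agent.H436 (Prim)

variable {F V : Type*} [Field F] [Finite F] [AddCommGroup V] [Module F V] [Finite V] {Q : QuadraticForm F V}
  {p a r : ℕ} {Y T : V ≃ₗ[F] V} {l : V} {lam : F}

/-- the second isometry -/
structure Tor (Q : QuadraticForm F V) (Y T : V ≃ₗ[F] V) (l : V) : Prop where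
  iso : ∀ v, Q (T v) = Q v
  comm : ∀ v, T (Y v) = Y (T v)
  fl : T l = l
  pow : T ^ (Nat.card F + 1) = 1
  sq : T * T ≠ 1

namespace Tor

theorem polar_T (t : Tor Q Y T l) (u v : V) : polar Q (T u) (T v) = polar Q u v := by
  rw [polar, polar, ← map_add, t.iso, t.iso, t.iso]

theorem mem_H (t : Tor Q Y T l) (D : Dat Q p a r Y l) {v : V} (hv : v ∈ D.H) : T v ∈ D.H := by
  rw [D.mem_H] at hv ⊢
  have h := t.polar_T l v
  rw [t.fl] at h
  rw [h, hv]

theorem inv_mem_H (t : Tor Q Y T l) (D : Dat Q p a r Y l) {v : V} (hv : v ∈ D.H) : T⁻¹ v ∈ D.H := by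
  rw [D.mem_H] at hv ⊢
  have h := t.polar_T l (T⁻¹ v)
  have h2 : T (T⁻¹ v) = v := LinearEquiv.apply_symm_apply T v
  rw [t.fl, h2] at h
  rw [← h, hv]

theorem inv_comm (t : Tor Q Y T l) (v : V) : T⁻¹ (Y v) = Y (T⁻¹ v) := by
  apply T.injective
  have h2 : ∀ v, T (T⁻¹ v) = v := fun v => LinearEquiv.apply_symm_apply T v
  rw [h2, t.comm, h2]

/-- `T + T⁻¹` is a scalar on `H` -/
theorem exists_lam (t : Tor Q Y T l) (D : Dat Q p a r Y l) : ∃ lam : F, ∀ v ∈ D.H, T (T v) = lam • T v - v := by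
  have := D.charP
  have : Fact p.Prime := ⟨D.hp⟩
  have := Fintype.ofFinite F
  let φ := LinearEquiv.automorphismGroup.toLinearMapMonoidHom (R := F) (M := V)
  let C : Module.End F V := φ T + φ T⁻¹
  have hC : ∀ v, C v = T v + T⁻¹ v := fun v => rfl
  have hcharE : CharP (Module.End F V) p := by
    obtain ⟨v, -, hv⟩ := D.exists_ne
    have : Nontrivial V := ⟨⟨v, 0, hv⟩⟩
    exact charP_of_injective_algebraMap (FaithfulSMul.algebraMap_injective F (Module.End F V)) p
  have hq : C ^ Nat.card F = C := by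
    have hcm : Commute (φ T) (φ T⁻¹) := by
      show φ T * φ T⁻¹ = φ T⁻¹ * φ T
      rw [← map_mul, ← map_mul, mul_inv_cancel, inv_mul_cancel]
    have h1 : T ^ Nat.card F = T⁻¹ := by
      have h2 := t.pow
      rw [pow_succ] at h2
      exact eq_inv_of_mul_eq_one_left h2
    have h3 : T⁻¹ ^ Nat.card F = T := by rw [inv_pow, h1, inv_inv]
    have h4 : Nat.card F = p ^ a := D.cardF
    calc C ^ Nat.card F = (φ T) ^ Nat.card F + (φ T⁻¹) ^ Nat.card F := by
          rw [h4]; exact add_pow_char_pow_of_commute p a hcm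
      _ = φ T⁻¹ + φ T := by rw [← map_pow, ← map_pow, h1, h3]
      _ = C := add_comm _ _
  have hCH : ∀ v ∈ D.H, C v ∈ D.H := fun v hv => D.H.add_mem (t.mem_H D hv) (t.inv_mem_H D hv)
  let C' : Module.End F D.H := C.restrict hCH
  have hC' : ∀ (n : ℕ) (v : D.H), (((C' ^ n) v : D.H) : V) = (C ^ n) v := by
    intro n
    induction n with
    | zero => intro v; rfl
    | succ n ih =>
      intro v
      rw [pow_succ, pow_succ, Module.End.mul_apply, Module.End.mul_apply, ih]
      rfl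
  have hq' : C' ^ Nat.card F = C' := by
    ext v
    rw [hC', hq]
    rfl
  have hmin : minpoly F C' ∣ (Polynomial.X ^ Fintype.card F - Polynomial.X : Polynomial F) := by
    apply minpoly.dvd
    rw [map_sub, map_pow, Polynomial.aeval_X, ← Nat.card_eq_fintype_card, hq', sub_self]
  have hsp : (Polynomial.X ^ Fintype.card F - Polynomial.X : Polynomial F).Splits := by
    have h := (FiniteField.isSplittingField_sub F F).splits
    rwa [Algebra.algebraMap_self, Polynomial.map_id] at h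
  have hne : (Polynomial.X ^ Fintype.card F - Polynomial.X : Polynomial F) ≠ 0 :=
    FiniteField.X_pow_card_sub_X_ne_zero F Fintype.one_lt_card
  obtain ⟨v₀, hv₀, hv0⟩ := D.exists_ne
  have : Nontrivial D.H := ⟨⟨⟨v₀, hv₀⟩, 0, fun h => hv0 (congrArg Subtype.val h)⟩⟩
  have hdeg : (minpoly F C').degree ≠ 0 := (minpoly.degree_pos (Algebra.IsIntegral.isIntegral C')).ne'
  obtain ⟨lam, hlam⟩ := (hsp.of_dvd hne hmin).exists_eval_eq_zero hdeg
  obtain ⟨w, hw⟩ := (Module.End.hasEigenvalue_of_isRoot (f := C') (μ := lam) hlam).exists_hasEigenvector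
  have hw1 : T w + T⁻¹ w = lam • (w : V) := congrArg Subtype.val hw.apply_eq_smul
  have hw0 : (w : V) ≠ 0 := fun h => hw.2 (Subtype.ext h)
  refine ⟨lam, fun v hv => ?_⟩
  have key := D.eq_of_eq (C : V →ₗ[F] V).toAddMonoidHom (LinearMap.lsmul F V lam).toAddMonoidHom
    (fun v => by
      show T (Y v) + T⁻¹ (Y v) = Y (T v + T⁻¹ v)
      rw [t.comm, t.inv_comm, map_add])
    (fun v => by
      show lam • Y v = Y (lam • v)
      rw [map_smul]) w.2 hw0 hw1 (t.mem_H D hv)
  have key' : T (T v) + T⁻¹ (T v) = lam • T v := key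
  have h2 : T⁻¹ (T v) = v := LinearEquiv.symm_apply_apply T v
  rw [h2] at key'
  rw [← key', add_sub_cancel_right]

/-- `V = F l + H` -/
theorem _root_.Cfsg.Agent.H832.PoSeven.Dat.decomp (D : Dat Q p a r Y l) (v : V) : ∃ c : F, v - c • l ∈ D.H := by
  have h : polar Q l l ≠ 0 := fun h => D.l_not_mem (D.mem_H.2 h)
  refine ⟨polar Q l v * (polar Q l l)⁻¹, ?_⟩
  rw [D.mem_H, polar_sub_right, polar_smul_right, smul_eq_mul, mul_assoc, inv_mul_cancel₀ h, mul_one, sub_self]

theorem sq_ne (t : Tor Q Y T l) (D : Dat Q p a r Y l) {v : V} (hv : v ∈ D.H) (h0 : v ≠ 0) : T (T v) ≠ v := by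
  intro h
  apply t.sq
  have h1 : ∀ w ∈ D.H, T (T w) = w := by
    intro w hw
    exact D.eq_of_eq ((T : V →ₗ[F] V).comp (T : V →ₗ[F] V)).toAddMonoidHom (AddMonoidHom.id V)
      (fun v => by
        show T (T (Y v)) = Y (T (T v))
        rw [t.comm, t.comm]) (fun v => rfl) hv h0 h hw
  ext v
  obtain ⟨c, hc⟩ := D.decomp v
  have h2 := h1 _ hc
  rw [map_sub, map_sub, map_smul, map_smul, t.fl, t.fl] at h2
  exact sub_left_injective h2

/-- `T` has no eigenvector in `H` -/
theorem no_eig (t : Tor Q Y T l) (D : Dat Q p a r Y l) {v : V} (hv : v ∈ D.H) (h0 : v ≠ 0) (e : F) : T v ≠ e • v := by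
  intro h
  have hn : ∀ n : ℕ, (T ^ n) v = e ^ n • v := by
    intro n
    induction n with
    | zero => rw [pow_zero, pow_zero, one_smul]; rfl
    | succ n ih =>
      rw [pow_succ, pow_succ]
      show (T ^ n) (T v) = _
      rw [h, map_smul, ih, smul_smul, mul_comm]
  have h1 := hn (Nat.card F + 1)
  rw [t.pow] at h1
  have h2 : e ^ Nat.card F = e := by
    have := Fintype.ofFinite F
    rw [Nat.card_eq_fintype_card]
    exact FiniteField.pow_card e
  rw [pow_succ, h2] at h1
  have h3 : v = (e * e) • v := h1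
  apply t.sq_ne D hv h0
  rw [h, map_smul, h, smul_smul, ← h3]

/-- `x² - lam x + 1` has no root -/
theorem no_root (t : Tor Q Y T l) (D : Dat Q p a r Y l) (hl : ∀ v ∈ D.H, T (T v) = lam • T v - v) (e : F) :
    e * e - lam * e + 1 ≠ 0 := by
  intro h
  obtain ⟨v, hv, hv0⟩ := D.exists_ne
  by_cases h1 : T v - (lam - e) • v = 0
  · exact t.no_eig D hv hv0 _ (sub_eq_zero.1 h1)
  · have h2 : T v - (lam - e) • v ∈ D.H := D.H.sub_mem (t.mem_H D hv) (D.H.smul_mem _ hv)
    apply t.no_eig D h2 h1 e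
    rw [map_sub, map_smul, hl v hv, smul_sub, smul_smul]
    have h3 : e * (lam - e) = 1 := by linear_combination -h
    rw [h3, sub_smul, one_smul]
    abel

theorem four_sub_ne (t : Tor Q Y T l) (D : Dat Q p a r Y l) (hl : ∀ v ∈ D.H, T (T v) = lam • T v - v) :
    4 - lam * lam ≠ 0 := by
  intro h
  apply t.no_root D hl (lam / 2)
  have h2 := D.two
  field_simp
  linear_combination h

/-- norm form -/
theorem polar_v_Tv (t : Tor Q Y T l) (D : Dat Q p a r Y l) (hl : ∀ v ∈ D.H, T (T v) = lam • T v - v) {v : V}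
    (hv : v ∈ D.H) : polar Q v (T v) = lam * Q v := by
  have h1 := t.polar_T v (T v)
  rw [hl v hv, polar_sub_right, polar_smul_right, polar_self, t.iso, polar_comm Q (T v) v, smul_eq_mul,
    nsmul_eq_mul] at h1
  have h2 : (2 : F) * (polar Q v (T v) - lam * Q v) = 0 := by
    push_cast at h1
    linear_combination -h1
  exact sub_eq_zero.1 ((mul_eq_zero.1 h2).resolve_left D.two)

theorem Q_comb (t : Tor Q Y T l) (D : Dat Q p a r Y l) (hl : ∀ v ∈ D.H, T (T v) = lam • T v - v) {v : V}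
    (hv : v ∈ D.H) (x y : F) : Q (x • v + y • T v) = (x * x + lam * x * y + y * y) * Q v := by
  rw [Q_add, QuadraticMap.map_smul, QuadraticMap.map_smul, polar_smul_left, polar_smul_right, t.iso,
    t.polar_v_Tv D hl hv, smul_eq_mul, smul_eq_mul, smul_eq_mul, smul_eq_mul]
  ring

/-- the plane of `v` contains vectors with the value of `l` -/
theorem exists_val (t : Tor Q Y T l) (D : Dat Q p a r Y l) (hl : ∀ v ∈ D.H, T (T v) = lam • T v - v) {v : V}
    (hv : v ∈ D.H) (hQ : Q v ≠ 0) : ∃ x y : F, Q (x • v + y • T v) = Q l := by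
  have := Fintype.ofFinite F
  have h4 := t.four_sub_ne D hl
  have h2 := D.two
  have hd : (1 - lam * lam / 4) ≠ 0 := by
    intro h
    apply h4
    have h5 : (4 : F) ≠ 0 := by
      have : (4 : F) = 2 * 2 := by norm_num
      rw [this]
      exact mul_ne_zero h2 h2
    field_simp at h
    linear_combination h
  have hodd : Fintype.card F % 2 = 1 := by
    rcases FiniteField.even_card_iff_char_two (F := F) with h
    by_contra hc
    have h6 := h.2 (by omega)
    have h7 : ((2 : ℕ) : F) = 0 := by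
      rw [← h6]; exact ringChar.Nat.cast_ringChar
    exact h2 (by exact_mod_cast h7)
  obtain ⟨x, y, hxy⟩ := FiniteField.exists_root_sum_quadratic
    (f := Polynomial.C (1 : F) * Polynomial.X ^ 2 + Polynomial.C 0 * Polynomial.X + Polynomial.C 0)
    (g := Polynomial.C (1 - lam * lam / 4) * Polynomial.X ^ 2 + Polynomial.C 0 * Polynomial.X +
      Polynomial.C (-(Q l / Q v)))
    (Polynomial.degree_quadratic one_ne_zero) (Polynomial.degree_quadratic hd) hodd
  refine ⟨x - lam * y / 2, y, ?_⟩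
  rw [t.Q_comb D hl hv]
  have h8 : x * x + (1 - lam * lam / 4) * (y * y) = Q l / Q v := by
    simp only [Polynomial.eval_add, Polynomial.eval_mul, Polynomial.eval_C, Polynomial.eval_pow, Polynomial.eval_X]
      at hxy
    linear_combination hxy
  have h9 : (x - lam * y / 2) * (x - lam * y / 2) + lam * (x - lam * y / 2) * y + y * y =
      x * x + (1 - lam * lam / 4) * (y * y) := by
    have h5 : (4 : F) ≠ 0 := by
      have : (4 : F) = 2 * 2 := by norm_num
      rw [this]
      exact mul_ne_zero h2 h2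
    field_simp
    ring
  rw [h9, h8, div_mul_cancel₀ _ hQ]

theorem solve (t : Tor Q Y T l) (D : Dat Q p a r Y l) (hl : ∀ v ∈ D.H, T (T v) = lam • T v - v) {c : F} (hc : c ≠ 0)
    (A B : F) : ∃ x y : F, x * (2 * c) + y * (lam * c) = A ∧ x * (lam * c) + y * (2 * c) = B := by
  have h4 : 4 - lam ^ 2 ≠ 0 := by
    rw [pow_two]
    exact t.four_sub_ne D hl
  refine ⟨(2 * A - lam * B) / ((4 - lam ^ 2) * c), (2 * B - lam * A) / ((4 - lam ^ 2) * c), ?_, ?_⟩
  · field_simp
    ring
  · field_simp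
    ring

/-- admissible subspaces of `H` -/
structure Sub (_ : Tor Q Y T l) (D : Dat Q p a r Y l) (W : Submodule F V) : Prop where
  le : W ≤ D.H
  st : ∀ w ∈ W, T w ∈ W
  nd : ∀ u ∈ W, (∀ w ∈ W, polar Q u w = 0) → u = 0

theorem sub_H (t : Tor Q Y T l) (D : Dat Q p a r Y l) : t.Sub D D.H := by
  refine ⟨le_rfl, fun w hw => t.mem_H D hw, fun u hu h => ?_⟩
  apply D.nd
  intro v
  obtain ⟨c, hc⟩ := D.decomp v
  have h1 := h _ hc
  rw [polar_sub_right, polar_smul_right, polar_comm Q u l, D.mem_H.1 hu, smul_zero, sub_zero] at h1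
  exact h1

theorem Sub.exists_vec {t : Tor Q Y T l} {D : Dat Q p a r Y l} (hl : ∀ v ∈ D.H, T (T v) = lam • T v - v)
    {W : Submodule F V} (hW : t.Sub D W) (h : 0 < finrank F W) : ∃ v ∈ W, Q v = Q l := by
  have h1 : ∃ u ∈ W, Q u ≠ 0 := by
    by_contra hcon
    push Not at hcon
    have h2 : W = ⊥ := by
      rw [eq_bot_iff]
      intro u hu
      exact hW.nd u hu fun w hw => by rw [polar, hcon _ (W.add_mem hu hw), hcon _ hu, hcon _ hw, sub_zero, sub_zero]
    rw [h2, finrank_bot] at h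
    exact lt_irrefl _ h
  obtain ⟨u, hu, hQ⟩ := h1
  obtain ⟨x, y, hxy⟩ := t.exists_val D hl (hW.le hu) hQ
  exact ⟨_, W.add_mem (W.smul_mem x hu) (W.smul_mem y (hW.st u hu)), hxy⟩

theorem Sub.step {t : Tor Q Y T l} {D : Dat Q p a r Y l} (hl : ∀ v ∈ D.H, T (T v) = lam • T v - v)
    {W : Submodule F V} (hW : t.Sub D W) {v : V} (hv : v ∈ W) (hQ : Q v = Q l) :
    ∃ W' : Submodule F V, t.Sub D W' ∧ W' ≤ W ∧ finrank F W' + 2 = finrank F W ∧
      (∀ w ∈ W', polar Q v w = 0 ∧ polar Q (T v) w = 0) ∧ ∀ w ∈ W, ∃ x y : F, w - (x • v + y • T v) ∈ W' := by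
  have hQ0 : Q v ≠ 0 := by rw [hQ]; exact D.ql
  have hvH := hW.le hv
  have hTv := hW.st v hv
  let W' : Submodule F V := W ⊓ LinearMap.ker (polarBilin Q v) ⊓ LinearMap.ker (polarBilin Q (T v))
  have hm : ∀ w, w ∈ W' ↔ w ∈ W ∧ polar Q v w = 0 ∧ polar Q (T v) w = 0 := by
    intro w
    rw [Submodule.mem_inf, Submodule.mem_inf, LinearMap.mem_ker, LinearMap.mem_ker, polarBilin_apply_apply,
      polarBilin_apply_apply, and_assoc]
  have hvv : polar Q v v = 2 * Q v := by rw [polar_self, nsmul_eq_mul]; norm_num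
  have hTT : polar Q (T v) (T v) = 2 * Q v := by rw [t.polar_T, hvv]
  have hvT : polar Q v (T v) = lam * Q v := t.polar_v_Tv D hl hvH
  have hTv' : polar Q (T v) v = lam * Q v := by rw [polar_comm, hvT]
  have hp1 : ∀ x y : F, polar Q v (x • v + y • T v) = x * (2 * Q v) + y * (lam * Q v) := by
    intro x y
    rw [polar_add_right, polar_smul_right, polar_smul_right, hvv, hvT, smul_eq_mul, smul_eq_mul]
  have hp2 : ∀ x y : F, polar Q (T v) (x • v + y • T v) = x * (lam * Q v) + y * (2 * Q v) := by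
    intro x y
    rw [polar_add_right, polar_smul_right, polar_smul_right, hTT, hTv', smul_eq_mul, smul_eq_mul]
  have hproj : ∀ w ∈ W, ∃ x y : F, w - (x • v + y • T v) ∈ W' := by
    intro w hw
    obtain ⟨x, y, h1, h2⟩ := t.solve D hl hQ0 (polar Q v w) (polar Q (T v) w)
    refine ⟨x, y, (hm _).2 ⟨W.sub_mem hw (W.add_mem (W.smul_mem x hv) (W.smul_mem y hTv)), ?_, ?_⟩⟩
    · rw [polar_sub_right, hp1, h1, sub_self]
    · rw [polar_sub_right, hp2, h2, sub_self]
  refine ⟨W', ⟨?_, ?_, ?_⟩, ?_, ?_, ?_, hproj⟩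
  · intro w hw
    exact hW.le ((hm w).1 hw).1
  · intro w hw
    obtain ⟨h1, h2, h3⟩ := (hm w).1 hw
    refine (hm _).2 ⟨hW.st w h1, ?_, ?_⟩
    · have h5 : polar Q (T v) (T w) = 0 := by rw [t.polar_T, h2]
      have h6 : polar Q (T (T v)) (T w) = 0 := by rw [t.polar_T, h3]
      rw [hl v hvH, polar_sub_left, polar_smul_left, h5, smul_zero, zero_sub, neg_eq_zero] at h6
      exact h6
    · rw [t.polar_T, h2]
  · intro u hu h
    apply hW.nd u ((hm u).1 hu).1
    intro w hw
    obtain ⟨x, y, hxy⟩ := hproj w hw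
    have h1 := h _ hxy
    rw [polar_sub_right, polar_add_right, polar_smul_right, polar_smul_right, polar_comm Q u v,
      polar_comm Q u (T v), ((hm u).1 hu).2.1, ((hm u).1 hu).2.2, smul_zero, smul_zero, add_zero, sub_zero] at h1
    exact h1
  · intro w hw
    exact ((hm w).1 hw).1
  · let φ : W →ₗ[F] F × F := ((polarBilin Q v).comp W.subtype).prod ((polarBilin Q (T v)).comp W.subtype)
    have hφ : ∀ w : W, φ w = (polar Q v w, polar Q (T v) w) := fun w => rfl
    have h1 : LinearMap.range φ = ⊤ := by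
      rw [LinearMap.range_eq_top]
      rintro ⟨A, B⟩
      obtain ⟨x, y, h1, h2⟩ := t.solve D hl hQ0 A B
      refine ⟨⟨x • v + y • T v, W.add_mem (W.smul_mem x hv) (W.smul_mem y hTv)⟩, ?_⟩
      rw [hφ]
      exact Prod.ext ((hp1 x y).trans h1) ((hp2 x y).trans h2)
    have h2 := LinearMap.finrank_range_add_finrank_ker φ
    rw [h1, finrank_top, finrank_prod, finrank_self] at h2
    have h3 : LinearMap.ker φ = W'.comap W.subtype := by
      ext w
      rw [LinearMap.mem_ker, hφ, Submodule.mem_comap, hm, Prod.mk_eq_zero]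
      exact ⟨fun h => ⟨w.2, h.1, h.2⟩, fun h => h.2⟩
    have h4 : finrank F (W'.comap W.subtype) = finrank F W' :=
      LinearEquiv.finrank_eq (Submodule.comapSubtypeEquivOfLe (p := W') (q := W) fun w hw => ((hm w).1 hw).1)
    rw [h3, h4] at h2
    omega
  · intro w hw
    exact ((hm w).1 hw).2

/-- three orthogonal planes -/
structure Three (t : Tor Q Y T l) (D : Dat Q p a r Y l) (v : Fin 3 → V) : Prop where
  mem : ∀ i, v i ∈ D.H
  val : ∀ i, Q (v i) = Q l
  orth : ∀ i j, i ≠ j → polar Q (v i) (v j) = 0 ∧ polar Q (v i) (T (v j)) = 0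
  gen : ∀ w : V, ∃ (c : F) (x y : Fin 3 → F), w = c • l + ∑ i, (x i • v i + y i • T (v i))

theorem exists_three (t : Tor Q Y T l) (D : Dat Q p a r Y l) (hl : ∀ v ∈ D.H, T (T v) = lam • T v - v) :
    ∃ v : Fin 3 → V, t.Three D v := by
  have h0 := t.sub_H D
  obtain ⟨v₀, hv₀, hq₀⟩ := h0.exists_vec hl (by rw [D.finrank_H]; norm_num)
  obtain ⟨W₁, h1, hle1, hf1, ho1, hg1⟩ := h0.step hl hv₀ hq₀
  rw [D.finrank_H] at hf1
  obtain ⟨v₁, hv₁, hq₁⟩ := h1.exists_vec hl (by omega)
  obtain ⟨W₂, h2, hle2, hf2, ho2, hg2⟩ := h1.step hl hv₁ hq₁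
  obtain ⟨v₂, hv₂, hq₂⟩ := h2.exists_vec hl (by omega)
  obtain ⟨W₃, h3, hle3, hf3, ho3, hg3⟩ := h2.step hl hv₂ hq₂
  have hbot : W₃ = ⊥ := by
    rw [← Submodule.finrank_eq_zero (R := F)]
    omega
  refine ⟨![v₀, v₁, v₂], ?_, ?_, ?_, ?_⟩
  · intro i
    fin_cases i
    · exact hv₀
    · exact h1.le hv₁
    · exact h2.le hv₂
  · intro i
    fin_cases i
    · exact hq₀
    · exact hq₁
    · exact hq₂
  · have key : ∀ {u w : V} {W : Submodule F V}, (∀ w ∈ W, polar Q u w = 0 ∧ polar Q (T u) w = 0) → w ∈ W →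
        T w ∈ W → u ∈ D.H → (polar Q u w = 0 ∧ polar Q u (T w) = 0) ∧ (polar Q w u = 0 ∧ polar Q w (T u) = 0) := by
      intro u w W h hw hTw _
      exact ⟨⟨(h w hw).1, (h _ hTw).1⟩, by rw [polar_comm]; exact (h w hw).1, by rw [polar_comm]; exact (h w hw).2⟩
    have k01 := key ho1 hv₁ (h1.st _ hv₁) hv₀
    have k02 := key ho1 (hle2 hv₂) (h1.st _ (hle2 hv₂)) hv₀
    have k12 := key ho2 hv₂ (h2.st _ hv₂) (h1.le hv₁)
    intro i j hij
    fin_cases i <;> fin_cases j <;> first | exact absurd rfl hij | skip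
    · exact k01.1
    · exact k02.1
    · exact k01.2
    · exact k12.1
    · exact k02.2
    · exact k12.2
  · intro w
    obtain ⟨c, hc⟩ := D.decomp w
    obtain ⟨x₀, y₀, e0⟩ := hg1 _ hc
    obtain ⟨x₁, y₁, e1⟩ := hg2 _ e0
    obtain ⟨x₂, y₂, e2⟩ := hg3 _ e1
    rw [hbot, Submodule.mem_bot] at e2
    refine ⟨c, ![x₀, x₁, x₂], ![y₀, y₁, y₂], ?_⟩
    rw [Fin.sum_univ_three]
    show w = c • l + ((x₀ • v₀ + y₀ • T v₀) + (x₁ • v₁ + y₁ • T v₁) + (x₂ • v₂ + y₂ • T v₂))
    rw [← sub_eq_zero, ← e2]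
    abel

end Tor

end Cfsg.Agent.H832.PoSeven
end

-- part: H832/PoSeven/Conj
section
/-!
# `T` is the product of three conjugates of `T` (helper832)
-/

set_option autoImplicit false
set_option linter.unusedSectionVars false

namespace Cfsg.Agent.H832.PoSeven

open Module QuadraticMap Cfsg.Agent.LieClassical.OrthCore Cfsg.Agent.LieClassical.OrthTrans
open Cfsg.Agent.H436 (Prim)

variable {F V : Type*} [Field F] [Finite F] [AddCommGroup V] [Module F V] [Finite V] {Q : QuadraticForm F V}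
  {p a r : ℕ} {Y T : V ≃ₗ[F] V} {l : V} {lam : F}

namespace Tor

/-- the plane of `v` -/
def Pl (T : V ≃ₗ[F] V) (v : V) : Submodule F V := Submodule.span F {v, T v}

theorem mem_Pl {v w : V} : w ∈ Pl T v ↔ ∃ x y : F, x • v + y • T v = w := Submodule.mem_span_pair

theorem inv_T (T : V ≃ₗ[F] V) (v : V) : T⁻¹ (T v) = v := LinearEquiv.symm_apply_apply T v

theorem T_inv (T : V ≃ₗ[F] V) (v : V) : T (T⁻¹ v) = v := LinearEquiv.apply_symm_apply T v

theorem Pl_st {D : Dat Q p a r Y l} (hl : ∀ v ∈ D.H, T (T v) = lam • T v - v) {v : V} (hv : v ∈ D.H) {w : V}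
    (hw : w ∈ Pl T v) : T w ∈ Pl T v ∧ T⁻¹ w ∈ Pl T v := by
  obtain ⟨x, y, rfl⟩ := mem_Pl.1 hw
  have h1 := hl v hv
  constructor
  · refine mem_Pl.2 ⟨-y, x + y * lam, ?_⟩
    rw [map_add, map_smul, map_smul, h1]
    module
  · refine mem_Pl.2 ⟨x * lam + y, -x, ?_⟩
    apply T.injective
    rw [T_inv, map_add, map_smul, map_smul, h1]
    module

/-- linear maps are determined by their values on `l` and on the three planes -/
theorem Three.ext {t : Tor Q Y T l} {D : Dat Q p a r Y l} {v : Fin 3 → V} (h : t.Three D v) {f g : V ≃ₗ[F] V}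
    (hl : f l = g l) (hP : ∀ i, ∀ w ∈ Pl T (v i), f w = g w) : f = g := by
  ext w
  obtain ⟨c, x, y, rfl⟩ := h.gen w
  rw [map_add, map_add, map_smul, map_smul, hl, map_sum, map_sum]
  congr 1
  apply Finset.sum_congr rfl
  intro i _
  exact hP i _ (mem_Pl.2 ⟨x i, y i, rfl⟩)

/-- **The conjugates.** -/
theorem exists_conj (hG : Good Q) (t : Tor Q Y T l) (D : Dat Q p a r Y l) (hl : ∀ v ∈ D.H, T (T v) = lam • T v - v)
    {v : Fin 3 → V} (h : t.Three D v) (i : Fin 3) : ∃ s ∈ E Q, ∃ G : V ≃ₗ[F] V, G = s * T * s⁻¹ ∧ G l = l ∧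
      (∀ w ∈ Pl T (v i), G w = T⁻¹ w) ∧ ∀ j, j ≠ i → ∀ w ∈ Pl T (v j), G w = T w := by
  have hqi : Q (v i) ≠ 0 := by rw [h.val]; exact D.ql
  have hli : polar Q l (v i) = 0 := D.mem_H.1 (h.mem i)
  have hlTi : polar Q l (T (v i)) = 0 := D.mem_H.1 (t.mem_H D (h.mem i))
  have hil : polar Q (v i) l = 0 := by rw [polar_comm]; exact hli
  let s : V ≃ₗ[F] V := refl Q (v i) hqi * refl Q l D.ql
  have hs : s ∈ E Q := hG.refl_mul_refl_mem D.ql hqi (h.val i).symm
  have hsw : ∀ w, s w = refl Q (v i) hqi (refl Q l D.ql w) := fun w => rfl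
  have hself : ∀ (u : V) (hu : Q u ≠ 0), refl Q u hu u = -u := by
    intro u hu
    rw [refl_apply, polar_self, nsmul_eq_mul]
    have e : (Q u)⁻¹ * (((2 : ℕ) : F) * Q u) = 2 := by field_simp; norm_num
    rw [e]
    module
  have hperp : ∀ (u : V) (hu : Q u ≠ 0) (w : V), polar Q u w = 0 → refl Q u hu w = w := by
    intro u hu w hw
    rw [refl_apply, hw, mul_zero, zero_smul, sub_zero]
  have s_l : s l = -l := by rw [hsw, hself, map_neg, hperp _ _ _ hil]
  have s_i : s (v i) = -(v i) := by rw [hsw, hperp _ _ _ hli, hself]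
  have s_Ti : s (T (v i)) = T (v i) - lam • v i := by
    rw [hsw, hperp _ _ _ hlTi, refl_apply, t.polar_v_Tv D hl (h.mem i)]
    have e : (Q (v i))⁻¹ * (lam * Q (v i)) = lam := by field_simp
    rw [e]
  have s_j : ∀ j, j ≠ i → ∀ w ∈ Pl T (v j), s w = w := by
    intro j hj w hw
    have hwH : polar Q l w = 0 := by
      obtain ⟨x, y, rfl⟩ := mem_Pl.1 hw
      exact D.mem_H.1 (D.H.add_mem (D.H.smul_mem x (h.mem j)) (D.H.smul_mem y (t.mem_H D (h.mem j))))
    have hwi : polar Q (v i) w = 0 := by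
      obtain ⟨x, y, rfl⟩ := mem_Pl.1 hw
      rw [polar_add_right, polar_smul_right, polar_smul_right, (h.orth i j hj.symm).1, (h.orth i j hj.symm).2,
        smul_zero, smul_zero, add_zero]
    rw [hsw, hperp _ _ _ hwH, hperp _ _ _ hwi]
  refine ⟨s, hs, s * T * s⁻¹, rfl, ?_, ?_, ?_⟩
  all_goals
    have key : ∀ w, (s * T * s⁻¹) (s w) = s (T w) := by
      intro w
      show s (T (s⁻¹ (s w))) = _
      rw [inv_T]
  · have h1 := key l
    rw [s_l, t.fl, s_l, map_neg] at h1
    exact neg_injective h1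
  · have h1 := key (v i)
    rw [s_i, s_Ti, map_neg] at h1
    have h2 : (s * T * s⁻¹) (v i) = lam • v i - T (v i) := by
      rw [← neg_eq_iff_eq_neg.2 (h1.trans (neg_sub _ _).symm)]
      rw [neg_neg]
    have h3 := key (T (v i))
    rw [s_Ti, hl _ (h.mem i), map_sub, map_smul, h2, map_sub, map_smul, s_Ti, s_i] at h3
    have h4 : (s * T * s⁻¹) (T (v i)) = v i := by
      have h5 := sub_eq_iff_eq_add.1 h3
      rw [h5]
      module
    intro w hw
    obtain ⟨x, y, rfl⟩ := mem_Pl.1 hw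
    apply T.injective
    rw [T_inv, _root_.LinearEquiv.map_add, _root_.LinearEquiv.map_smul, _root_.LinearEquiv.map_smul, h2, h4, _root_.LinearEquiv.map_add, _root_.LinearEquiv.map_smul, _root_.LinearEquiv.map_smul, map_sub, _root_.LinearEquiv.map_smul, hl _ (h.mem i)]
    module
  · intro j hj w hw
    have h1 := key w
    rw [s_j j hj w hw, s_j j hj _ (Pl_st hl (h.mem j) hw).1] at h1
    exact h1

/-- **`T` is a product of three conjugates of `T` under `E Q`.** -/
theorem main (hG : Good Q) (t : Tor Q Y T l) (D : Dat Q p a r Y l) :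
    ∃ s : Fin 3 → (V ≃ₗ[F] V), (∀ i, s i ∈ E Q) ∧
      (s 0 * T * (s 0)⁻¹) * (s 1 * T * (s 1)⁻¹) * (s 2 * T * (s 2)⁻¹) = T ∧
      (∀ i, T * (s i * T * (s i)⁻¹) = (s i * T * (s i)⁻¹) * T) ∧
      ∀ i, (s i * T * (s i)⁻¹) l = l ∧ ∀ k : ℤ, s i * T * (s i)⁻¹ ≠ T ^ k := by
  obtain ⟨lam, hl⟩ := t.exists_lam D
  obtain ⟨v, h⟩ := t.exists_three D hl
  choose s hs G hGs hGl hGi hGj using exists_conj hG t D hl h
  have hst : ∀ (j : Fin 3), ∀ w ∈ Pl T (v j), T w ∈ Pl T (v j) ∧ T⁻¹ w ∈ Pl T (v j) := fun j w hw =>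
    Pl_st hl (h.mem j) hw
  refine ⟨s, hs, ?_, ?_, ?_⟩
  · rw [← hGs, ← hGs, ← hGs]
    apply h.ext
    · show G 0 (G 1 (G 2 l)) = T l
      rw [hGl, hGl, hGl, t.fl]
    · intro j w hw
      show G 0 (G 1 (G 2 w)) = T w
      fin_cases j
      · rw [hGj 2 0 (by decide) w hw, hGj 1 0 (by decide) _ (hst 0 w hw).1,
          hGi 0 _ (hst 0 _ (hst 0 w hw).1).1, inv_T]
      · rw [hGj 2 1 (by decide) w hw, hGi 1 _ (hst 1 w hw).1, inv_T, hGj 0 1 (by decide) w hw]
      · rw [hGi 2 w hw, hGj 1 2 (by decide) _ (hst 2 w hw).2, T_inv, hGj 0 2 (by decide) w hw]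
  · intro i
    rw [← hGs]
    apply h.ext
    · show T (G i l) = G i (T l)
      rw [hGl, t.fl, hGl]
    · intro j w hw
      show T (G i w) = G i (T w)
      by_cases hj : j = i
      · subst hj
        rw [hGi j w hw, T_inv, hGi j _ (hst j w hw).1, inv_T]
      · rw [hGj i j hj w hw, hGj i j hj _ (hst j w hw).1]
  · intro i
    rw [← hGs]
    refine ⟨hGl i, fun k hk => ?_⟩
    obtain ⟨j, hj⟩ : ∃ j : Fin 3, j ≠ i := ⟨i + 1, by fin_cases i <;> decide⟩
    have hTk : ∀ w, (T ^ k) (Y w) = Y ((T ^ k) w) := by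
      have hc : Commute T Y := by
        show T * Y = Y * T
        ext w
        exact t.comm w
      intro w
      have := (hc.zpow_left k).eq
      exact LinearEquiv.congr_fun this w
    have hv : ∀ w : V, w ∈ Pl T w := fun w => Submodule.subset_span (Or.inl rfl)
    have h0 : ∀ i, v i ≠ 0 := by
      intro i h1
      have h2 := h.val i
      rw [h1, QuadraticMap.map_zero] at h2
      exact D.ql h2.symm
    have e1 : (T ^ k) (v j) = T (v j) := by rw [← hk, hGj i j hj _ (hv _)]
    have e2 : (T ^ k) (v i) = T⁻¹ (v i) := by rw [← hk, hGi i _ (hv _)]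
    have e3 : (T ^ k) (v i) = T (v i) := D.eq_of_eq ((T ^ k : V ≃ₗ[F] V) : V →ₗ[F] V).toAddMonoidHom
      (T : V →ₗ[F] V).toAddMonoidHom hTk t.comm (h.mem j) (h0 j) e1 (h.mem i)
    apply t.sq_ne D (h.mem i) (h0 i)
    rw [← e3, e2, T_inv]

end Tor

end Cfsg.Agent.H832.PoSeven
end

-- part: H832/PoSeven/Core
section
/-!
# The group-theoretic form (helper832)

`core` : `R` a group with a normal subgroup `S ≅ PΩ₇(q)`, `C_R(S) = 1`, `y` of order `r` (a primitive prime divisor of
`p ^ (6 a) - 1`, `q = p ^ a` odd) and `t` commuting with `y`, `t ^ (q + 1) = 1`, `t² ≠ 1`: then `t` is the product of three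
conjugates of `t` which commute with `t` and are not powers of `t`.
-/

set_option autoImplicit false
set_option linter.unusedSectionVars false

namespace Cfsg.Agent.H832.PoSeven

open Module QuadraticMap Cfsg.Agent.LieClassical.OrthCore Cfsg.Agent.LieClassical.OrthTrans
  Cfsg.Agent.ClassicalGeometry.OrthSemi Cfsg.Agent.ClassicalGeometry.OrthAut1
open Cfsg.Agent.H436 (Prim)

section

variable {F V : Type*} [Field F] [AddCommGroup V] [Module F V] {Q : QuadraticForm F V}

/-- isometries as semisimilitudes -/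
def ofO (Q : QuadraticForm F V) : O Q →* Gam Q where
  toFun g := ⟨(g : V ≃ₗ[F] V).toEquiv, RingEquiv.refl F, 1, one_ne_zero, fun u v => map_add (g : V ≃ₗ[F] V) u v,
    fun c v => map_smul (g : V ≃ₗ[F] V) c v, fun v => by rw [one_mul]; exact g.2 v⟩
  map_one' := rfl
  map_mul' g h := rfl

theorem Psi_ofO {g : V ≃ₗ[F] V} (hg : g ∈ E Q) :
    Psi Q (ofO Q ⟨g, E_le_O hg⟩) = MulAut.conj (QuotientGroup.mk (⟨g, hg⟩ : ↥(E Q)) : P Q) := by
  ext x
  have hob_ := QuotientGroup.mk_surjective x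
  obtain ⟨h, rfl⟩ := hob_
  simp only [Psi_mk, MulAut.conj_apply, ← QuotientGroup.mk_inv, ← QuotientGroup.mk_mul, ← QuotientGroup.mk_mul]
  congr 1

/-- a linear equivalence from a permutation -/
def mkLin (M : Equiv.Perm V) (hadd : ∀ u v, M (u + v) = M u + M v) (hsm : ∀ (c : F) (v : V), M (c • v) = c • M v)
    (d : F) (hd : d ≠ 0) : V ≃ₗ[F] V where
  toFun v := d • M v
  invFun v := M.symm (d⁻¹ • v)
  map_add' u v := by rw [hadd, smul_add]
  map_smul' c v := by rw [hsm, smul_comm]; rfl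
  left_inv v := by
    show M.symm (d⁻¹ • d • M v) = v
    rw [smul_smul, inv_mul_cancel₀ hd, one_smul, Equiv.symm_apply_apply]
  right_inv v := by
    show d • M (M.symm (d⁻¹ • v)) = v
    rw [Equiv.apply_symm_apply, smul_smul, mul_inv_cancel₀ hd, one_smul]

/-- equality modulo scalars -/
theorem Psi_eq_iff (hG : Good Q) (M N : Gam Q) : Psi Q M = Psi Q N ↔ ∃ b : Fˣ, ∀ v, M.1 v = (b : F) • N.1 v := by
  constructor
  · intro h
    have h1 : M * N⁻¹ ∈ (Psi Q).ker := by simp only [MonoidHom.mem_ker, map_mul, map_inv, h, mul_inv_cancel]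
    rw [ker_Psi hG] at h1
    obtain ⟨b, hb⟩ := h1
    refine ⟨b, fun v => ?_⟩
    have h2 : M = scal Q b * N := by rw [hb, inv_mul_cancel_right]
    rw [h2]
    rfl
  · rintro ⟨b, hb⟩
    have h2 : M = scal Q b * N := by
      apply Subtype.ext
      ext v
      exact hb v
    have h3 : scal Q b ∈ (Psi Q).ker := by rw [ker_Psi hG]; exact ⟨b, rfl⟩
    simp only [h2, map_mul, MonoidHom.mem_ker.1 h3, one_mul]

end

variable {F V : Type*} [Field F] [Finite F] [AddCommGroup V] [Module F V] [Finite V] {Q : QuadraticForm F V}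
  {p a r : ℕ}

/-- the first element -/
theorem exists_Y (hG : Good Q) (hd : finrank F V = 7) (h2 : (2 : F) ≠ 0) (hp : p.Prime) (ha : 1 ≤ a)
    (hr : Prim p (6 * a) r) (hF : Nat.card F = p ^ a) {β : MulAut (P Q)} (hs : Function.Surjective (Psi Q))
    (hβ : β ^ r = 1) (hβ1 : β ≠ 1) : ∃ (Y : O Q) (l : V), Psi Q (ofO Q Y) = β ∧ Dat Q p a r Y l := by
  have hob_ := hs β
  obtain ⟨M, hM⟩ := hob_
  have hob_ := M.2
  obtain ⟨σ, c, h⟩ := hob_
  have hker : Psi Q (M ^ r) = Psi Q 1 := by simp only [map_pow, hM, hβ, map_one]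
  have hob_ := (Psi_eq_iff hG _ _).1 hker
  obtain ⟨b, hb⟩ := hob_
  have hb' : ∀ v, (M.1 ^ r) v = (b : F) • v := hb
  have hob_ := hG.exists_hyp
  obtain ⟨x₀, y₀, hxy⟩ := hob_
  have hx₀ : x₀ ≠ 0 := hxy.left_ne
  have hσn : ∀ (n : ℕ) (s : F) (v : V), (M.1 ^ n) (s • v) = σ^[n] s • (M.1 ^ n) v := by
    intro n
    induction n with
    | zero => intro s v; rfl
    | succ n ih =>
      intro s v
      rw [pow_succ', Function.iterate_succ_apply']
      show M.1 ((M.1 ^ n) (s • v)) = _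
      rw [ih, h.smul]
      rfl
  have hσr : ∀ s, σ^[r] s = s := by
    intro s
    have h1 := hσn r s x₀
    rw [hb', hb'] at h1
    have h3 : (σ^[r] s - s) • ((b : F) • x₀) = 0 := by
      rw [sub_smul, ← h1, smul_smul, smul_smul, mul_comm, sub_self]
    exact sub_eq_zero.1 ((smul_eq_zero.1 h3).resolve_right (smul_ne_zero b.ne_zero hx₀))
  have hσ := ringEquiv_eq_refl hp ha hr hF σ hσr
  have hsm : ∀ (s : F) (v : V), M.1 (s • v) = s • M.1 v := fun s v => by rw [h.smul, hσ]
  have hform : ∀ v, Q (M.1 v) = c * Q v := fun v => by rw [h.form, hσ]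
  have hQn : ∀ (n : ℕ) v, Q ((M.1 ^ n) v) = c ^ n * Q v := by
    intro n
    induction n with
    | zero => intro v; rw [pow_zero, pow_zero, one_mul]; rfl
    | succ n ih =>
      intro v
      rw [pow_succ']
      show Q (M.1 ((M.1 ^ n) v)) = _
      rw [hform, ih, pow_succ]
      ring
  have hob_ : ∃ w, Q w ≠ 0 := by
    refine ⟨x₀ + y₀, ?_⟩
    rw [Q_add, hxy.left, hxy.right, hxy.pair]
    norm_num
  obtain ⟨w, hw⟩ := hob_
  have hbc : (b : F) * b = c ^ r := by
    have h1 := hQn r w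
    rw [hb', QuadraticMap.map_smul, smul_eq_mul] at h1
    exact mul_right_cancel₀ hw h1
  have hrodd : r % 2 = 1 := hr.odd (by omega)
  have hob_ : ∃ k, r = 2 * k + 1 := ⟨r / 2, by omega⟩
  obtain ⟨k, hk⟩ := hob_
  have hc0 : c ≠ 0 := h.ne
  have hob_ : ∃ d : F, d = b / c ^ k := ⟨_, rfl⟩
  obtain ⟨d, hdd⟩ := hob_
  have hd0 : d ≠ 0 := by
    rw [hdd]
    exact div_ne_zero b.ne_zero (pow_ne_zero _ hc0)
  have hdc : d * d = c := by
    rw [hdd, div_mul_div_comm, hbc, hk]
    rw [div_eq_iff (mul_ne_zero (pow_ne_zero _ hc0) (pow_ne_zero _ hc0))]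
    ring
  have hdr : d ^ r = b := by
    rw [hk, pow_succ, pow_mul, pow_two, hdc, hdd, mul_div_cancel₀ _ (pow_ne_zero _ hc0)]
  let Y : V ≃ₗ[F] V := mkLin M.1 h.add hsm d⁻¹ (inv_ne_zero hd0)
  have hY : ∀ v, Y v = d⁻¹ • M.1 v := fun v => rfl
  have hYO : Y ∈ O Q := by
    intro v
    rw [hY, QuadraticMap.map_smul, hform, smul_eq_mul, ← hdc]
    field_simp
  have hPsi : Psi Q (ofO Q ⟨Y, hYO⟩) = β := by
    rw [← hM, Psi_eq_iff hG]
    exact ⟨Units.mk0 d⁻¹ (inv_ne_zero hd0), fun v => rfl⟩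
  have hYn : ∀ (n : ℕ) v, (Y ^ n) v = (d⁻¹) ^ n • (M.1 ^ n) v := by
    intro n
    induction n with
    | zero => intro v; rw [pow_zero, pow_zero, one_smul]; rfl
    | succ n ih =>
      intro v
      rw [pow_succ', pow_succ' M.1]
      show Y ((Y ^ n) v) = _ • M.1 ((M.1 ^ n) v)
      rw [ih, hY, hsm, smul_smul, pow_succ']
  have hYr : Y ^ r = 1 := by
    ext v
    rw [hYn, hb', smul_smul, inv_pow, hdr, inv_mul_cancel₀ b.ne_zero, one_smul]
    rfl
  have hY1 : Y ≠ 1 := by
    intro h1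
    apply hβ1
    rw [← hPsi]
    have h3 : (⟨Y, hYO⟩ : O Q) = 1 := Subtype.ext h1
    simp only [h3, map_one, map_one]
  have hob_ := exists_dat hp ha hr hF h2 hG.nondeg hd hYO hYr hY1
  obtain ⟨l, D⟩ := hob_
  exact ⟨⟨Y, hYO⟩, l, hPsi, D⟩

/-- the second element -/
theorem exists_T (hG : Good Q) {Y : O Q} {l : V} (D : Dat Q p a r Y l) {α : MulAut (P Q)}
    (hs : Function.Surjective (Psi Q)) (hc : α * Psi Q (ofO Q Y) = Psi Q (ofO Q Y) * α)
    (hpow : α ^ (Nat.card F + 1) = 1) (hsq : α * α ≠ 1) :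
    ∃ T : O Q, Psi Q (ofO Q T) = α ∧ Tor Q (Y : V ≃ₗ[F] V) T l := by
  have hob_ := hs α
  obtain ⟨M, hM⟩ := hob_
  have hob_ := M.2
  obtain ⟨τ, c, h⟩ := hob_
  have h1 : Psi Q (M * ofO Q Y) = Psi Q (ofO Q Y * M) := by simp only [map_mul, map_mul, hM, hc]
  have hob_ := (Psi_eq_iff hG _ _).1 h1
  obtain ⟨b, hb⟩ := hob_
  have hb' : ∀ v, M.1 ((Y : V ≃ₗ[F] V) v) = (b : F) • (Y : V ≃ₗ[F] V) (M.1 v) := hb
  have hbb : (b : F) * b = 1 := by
    have h2 := congrArg Q (hb' l)
    rw [D.fl, QuadraticMap.map_smul, D.iso, h.form, smul_eq_mul] at h2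
    have h3 : c * τ (Q l) ≠ 0 := mul_ne_zero h.ne (by
      rw [Ne, EmbeddingLike.map_eq_zero_iff]
      exact D.ql)
    have h4 : ((b : F) * b - 1) * (c * τ (Q l)) = 0 := by linear_combination -h2
    exact sub_eq_zero.1 ((mul_eq_zero.1 h4).resolve_right h3)
  have hl0 : l ≠ 0 := by
    rintro rfl
    exact D.ql (QuadraticMap.map_zero Q)
  have hbn : ∀ (n : ℕ) v, M.1 (((Y : V ≃ₗ[F] V) ^ n) v) = (b : F) ^ n • ((Y : V ≃ₗ[F] V) ^ n) (M.1 v) := by
    intro n
    induction n with
    | zero => intro v; rw [pow_zero, pow_zero, one_smul]; rfl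
    | succ n ih =>
      intro v
      rw [pow_succ']
      show M.1 ((Y : V ≃ₗ[F] V) (((Y : V ≃ₗ[F] V) ^ n) v)) = _ • (Y : V ≃ₗ[F] V) (((Y : V ≃ₗ[F] V) ^ n) (M.1 v))
      rw [hb', ih, map_smul, smul_smul, pow_succ']
  have hM0 : M.1 l ≠ 0 := fun h2 => hl0 (M.1.injective (by rw [h2, h.map_zero]))
  have hbr : (b : F) ^ r = 1 := by
    have h2 := hbn r l
    rw [D.pow] at h2
    have h3 : M.1 l = (b : F) ^ r • M.1 l := h2
    have h4 : ((b : F) ^ r - 1) • M.1 l = 0 := by rw [sub_smul, one_smul, ← h3, sub_self]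
    exact sub_eq_zero.1 ((smul_eq_zero.1 h4).resolve_right hM0)
  have hb1 : (b : F) = 1 := by
    have hrodd : r % 2 = 1 := D.prim.odd (by have := D.ha; omega)
    obtain ⟨k, hk⟩ : ∃ k, r = 2 * k + 1 := ⟨r / 2, by omega⟩
    rw [hk, pow_succ, pow_mul, pow_two, hbb, one_pow, one_mul] at hbr
    exact hbr
  have hcomm : ∀ v, M.1 ((Y : V ≃ₗ[F] V) v) = (Y : V ≃ₗ[F] V) (M.1 v) := fun v => by rw [hb', hb1, one_smul]
  have hob_ := D.fix (M.1 l) (by rw [← hcomm, D.fl])
  obtain ⟨ε, hε⟩ := hob_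
  have hε0 : ε ≠ 0 := by
    rintro rfl
    rw [zero_smul] at hε
    exact hM0 hε
  -- the normalized permutation
  let M' : Gam Q := scal Q (Units.mk0 ε⁻¹ (inv_ne_zero hε0)) * M
  have hM' : ∀ v, M'.1 v = ε⁻¹ • M.1 v := fun v => rfl
  have hM'l : M'.1 l = l := by rw [hM', hε, smul_smul, inv_mul_cancel₀ hε0, one_smul]
  have hPsi' : Psi Q M' = α := by
    rw [← hM, Psi_eq_iff hG]
    exact ⟨Units.mk0 ε⁻¹ (inv_ne_zero hε0), fun v => rfl⟩
  have hadd : ∀ u v, M'.1 (u + v) = M'.1 u + M'.1 v := fun u v => by rw [hM', hM', hM', h.add, smul_add]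
  have hsmτ : ∀ (s : F) (v : V), M'.1 (s • v) = τ s • M'.1 v := fun s v => by
    rw [hM', hM', h.smul, smul_comm]
  have hcomm' : ∀ v, M'.1 ((Y : V ≃ₗ[F] V) v) = (Y : V ≃ₗ[F] V) (M'.1 v) := fun v => by
    rw [hM', hM', hcomm, map_smul]
  have hform' : ∀ v, Q (M'.1 v) = (ε⁻¹ * ε⁻¹ * c) * τ (Q v) := fun v => by
    rw [hM', QuadraticMap.map_smul, h.form, smul_eq_mul]
    ring
  have hpol : ∀ u v, polar Q (M'.1 u) (M'.1 v) = (ε⁻¹ * ε⁻¹ * c) * τ (polar Q u v) := fun u v => by
    rw [polar, polar, ← hadd, hform', hform', hform', map_sub, map_sub]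
    ring
  have hHst : ∀ v ∈ D.H, M'.1 v ∈ D.H := by
    intro v hv
    rw [D.mem_H] at hv ⊢
    have h2 := hpol l v
    rw [hM'l, hv, map_zero, mul_zero] at h2
    exact h2
  have hτ := D.linear M'.1 τ hadd hsmτ hcomm' hHst
  have hsm : ∀ (s : F) (v : V), M'.1 (s • v) = s • M'.1 v := fun s v => by rw [hsmτ, hτ]
  have hc1 : ε⁻¹ * ε⁻¹ * c = 1 := by
    have h2 := hform' l
    rw [hM'l, hτ] at h2
    have h3 : (ε⁻¹ * ε⁻¹ * c - 1) * Q l = 0 := by linear_combination -h2
    exact sub_eq_zero.1 ((mul_eq_zero.1 h3).resolve_right D.ql)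
  let T : V ≃ₗ[F] V := mkLin M'.1 hadd hsm 1 one_ne_zero
  have hT : ∀ v, T v = M'.1 v := fun v => one_smul F _
  have hTO : T ∈ O Q := by
    intro v
    rw [hT, hform', hc1, one_mul, hτ]
  have hPsiT : Psi Q (ofO Q ⟨T, hTO⟩) = α := by
    rw [← hPsi', Psi_eq_iff hG]
    exact ⟨1, fun v => rfl⟩
  have hTl : T l = l := by rw [hT, hM'l]
  refine ⟨⟨T, hTO⟩, hPsiT, hTO, fun v => ?_, hTl, ?_, ?_⟩
  · show T ((Y : V ≃ₗ[F] V) v) = (Y : V ≃ₗ[F] V) (T v)
    rw [hT, hT, hcomm']
  · have h2 : Psi Q (ofO Q (⟨T, hTO⟩ ^ (Nat.card F + 1))) = Psi Q 1 := by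
      simp only [map_pow, map_pow, hPsiT, hpow, map_one]
    obtain ⟨s, hs⟩ := (Psi_eq_iff hG _ _).1 h2
    have hs' : ∀ v, (T ^ (Nat.card F + 1)) v = (s : F) • v := hs
    have h3 : ∀ n : ℕ, (T ^ n) l = l := by
      intro n
      induction n with
      | zero => rfl
      | succ n ih =>
        rw [pow_succ]
        show (T ^ n) (T l) = l
        rw [hTl, ih]
    have h4 := hs' l
    rw [h3] at h4
    have h5 : ((s : F) - 1) • l = 0 := by rw [sub_smul, one_smul, ← h4, sub_self]
    have h6 : (s : F) = 1 := sub_eq_zero.1 ((smul_eq_zero.1 h5).resolve_right hl0)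
    show T ^ (Nat.card F + 1) = 1
    ext v
    rw [hs', h6, one_smul]
    rfl
  · intro h2
    apply hsq
    have h3 : (⟨T, hTO⟩ : O Q) * ⟨T, hTO⟩ = 1 := Subtype.ext h2
    simp only [← hPsiT, ← map_mul, ← map_mul, h3, map_one, map_one]

/-! ### The group `R` -/

section

variable {R P : Type*} [Group R] [Group P] (S : Subgroup R) [S.Normal] (e : S ≃* P)

/-- the action of `R` on `S ≅ P` -/
noncomputable def act : R →* MulAut P := (MulAut.congr e).toMonoidHom.comp (MulAut.conjNormal (H := S))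

theorem act_apply (g : R) (x : S) (h : g * x * g⁻¹ ∈ S) : act S e g (e x) = e ⟨g * x * g⁻¹, h⟩ := by
  show e (MulAut.conjNormal g (e.symm (e x))) = _
  rw [e.symm_apply_apply]
  congr 1

theorem act_injective (hC : Subgroup.centralizer (S : Set R) = ⊥) : Function.Injective (act S e) := by
  rw [injective_iff_map_eq_one]
  intro g hg
  have h1 : g ∈ Subgroup.centralizer (S : Set R) := by
    rw [Subgroup.mem_centralizer_iff]
    intro x hx
    have hn : g * x * g⁻¹ ∈ S := ‹S.Normal›.conj_mem x hx g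
    have h2 := act_apply S e g ⟨x, hx⟩ hn
    rw [hg, MulAut.one_apply] at h2
    have h3 := congrArg Subtype.val (e.injective h2)
    have h4 : x = g * x * g⁻¹ := h3
    rw [eq_mul_inv_iff_mul_eq] at h4
    exact h4
  rw [hC] at h1
  exact Subgroup.mem_bot.1 h1

theorem act_coe (s : S) : act S e (s : R) = MulAut.conj (e s) := by
  ext x
  obtain ⟨y, rfl⟩ := e.surjective x
  rw [act_apply S e _ y (S.mul_mem (S.mul_mem s.2 y.2) (S.inv_mem s.2)), MulAut.conj_apply, ← _root_.MulEquiv.map_inv, ← _root_.MulEquiv.map_mul,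
    ← _root_.MulEquiv.map_mul]
  rfl

end

/-- **The theorem.** -/
theorem core (hG : Good Q) (hd : finrank F V = 7) (h2 : (2 : F) ≠ 0) (hp : p.Prime) (ha : 1 ≤ a)
    (hr : Prim p (6 * a) r) (hF : Nat.card F = p ^ a) {R : Type*} [Group R] (S : Subgroup R) [S.Normal]
    (hC : Subgroup.centralizer (S : Set R) = ⊥) (e : S ≃* P Q) {y t : R} (hy : y ^ r = 1) (hy1 : y ≠ 1)
    (hyt : y * t = t * y) (htp : t ^ (Nat.card F + 1) = 1) (ht2 : t * t ≠ 1) :
    ∃ t₁ t₂ t₃ : R, IsConj t t₁ ∧ IsConj t t₂ ∧ IsConj t t₃ ∧ t * t₁ = t₁ * t ∧ t * t₂ = t₂ * t ∧ t * t₃ = t₃ * t ∧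
      t₁ ∉ Subgroup.zpowers t ∧ t₂ ∉ Subgroup.zpowers t ∧ t₃ ∉ Subgroup.zpowers t ∧ t₁ * t₂ * t₃ = t := by
  have hfd : FiniteDimensional F V := Module.finite_of_finrank_pos (by rw [hd]; norm_num)
  have hs : Function.Surjective (Psi Q) := AutOrth.Final.surjective_of_no_four hG (by rw [hd]) fun h => by
    rw [hd] at h
    norm_num at h
  have hinj := act_injective S e hC
  have hone : ∀ g, act S e g = 1 ↔ g = 1 := fun g => by rw [← hinj.eq_iff, map_one]
  obtain ⟨Y, l, hY, D⟩ := exists_Y hG hd h2 hp ha hr hF hs (β := act S e y) (by rw [← map_pow, hy, map_one])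
    (fun h => hy1 ((hone y).1 h))
  obtain ⟨T, hT, tor⟩ := exists_T hG D hs (α := act S e t) (by simp only [hY, ← map_mul, ← map_mul, hyt])
    (by rw [← map_pow, htp, map_one]) (fun h => ht2 ((hone _).1 (by rw [map_mul]; exact h)))
  obtain ⟨s, hsE, hprod, hcomm, hz⟩ := tor.main hG D
  -- the conjugators
  have hsO : ∀ i, s i ∈ O Q := fun i => E_le_O (hsE i)
  let g : Fin 3 → R := fun i => ((e.symm (QuotientGroup.mk (⟨s i, hsE i⟩ : ↥(E Q)))) : S)
  have hg : ∀ i, act S e (g i) = Psi Q (ofO Q ⟨s i, hsO i⟩) := by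
    intro i
    ((conv => enter [@2]; rw [act_coe]); simp only [e.apply_symm_apply]; rewrite [Psi_ofO (hsE i)]; with_reducible rfl)
  let G : Fin 3 → O Q := fun i => ⟨s i, hsO i⟩ * T * ⟨s i, hsO i⟩⁻¹
  have hGl : ∀ i, (G i : V ≃ₗ[F] V) = s i * T * (s i)⁻¹ := fun i => rfl
  have hact : ∀ i, act S e (g i * t * (g i)⁻¹) = Psi Q (ofO Q (G i)) := by
    intro i
    (simp +singlePass only [map_mul]; simp only [map_mul]; simp only [map_inv]; simp only [hg]; simp only [← hT]; simp +singlePass only [← map_inv]; simp only [← map_inv]; (conv => enter [@2, @5]; rw [← map_mul]); (conv => enter [@2]; rw [← map_mul]); (conv => enter [@2, @6, @5]; rw [← map_mul]); simp only [← map_mul]; with_reducible rfl)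
  have hcj : ∀ i, IsConj t (g i * t * (g i)⁻¹) := fun i => isConj_iff.2 ⟨g i, rfl⟩
  have hcm : ∀ i, t * (g i * t * (g i)⁻¹) = (g i * t * (g i)⁻¹) * t := by
    intro i
    apply hinj
    have e1 : act S e (t * (g i * t * (g i)⁻¹)) = act S e t * act S e (g i * t * (g i)⁻¹) := map_mul _ _ _
    have e2 : act S e (g i * t * (g i)⁻¹ * t) = act S e (g i * t * (g i)⁻¹) * act S e t := map_mul _ _ _
    simp only [e1, e2, hact, ← hT, ← map_mul, ← map_mul, ← map_mul, ← map_mul]
    congr 2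
    exact Subtype.ext (hcomm i)
  have hzp : ∀ i, g i * t * (g i)⁻¹ ∉ Subgroup.zpowers t := by
    rintro i ⟨k, hk⟩
    have h1 : Psi Q (ofO Q (G i)) = Psi Q (ofO Q (T ^ k)) := by
      simp only [← hact i, map_zpow (ofO Q) T k, map_zpow (Psi Q) ((ofO Q) T) k, hT, ← map_zpow (act S e) t k]
      exact congrArg _ hk.symm
    obtain ⟨b, hb⟩ := (Psi_eq_iff hG _ _).1 h1
    have hb' : ∀ v, (G i : V ≃ₗ[F] V) v = (b : F) • ((T : V ≃ₗ[F] V) ^ k) v := hb
    have hl0 : l ≠ 0 := by
      rintro rfl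
      exact D.ql (QuadraticMap.map_zero Q)
    have hTk : ∀ n : ℕ, ((T : V ≃ₗ[F] V) ^ n) l = l := by
      intro n
      induction n with
      | zero => rfl
      | succ n ih =>
        rw [pow_succ]
        show ((T : V ≃ₗ[F] V) ^ n) ((T : V ≃ₗ[F] V) l) = l
        rw [tor.fl, ih]
    have hTz : ((T : V ≃ₗ[F] V) ^ k) l = l := by
      obtain ⟨n, rfl | rfl⟩ := k.eq_nat_or_neg
      · rw [zpow_natCast, hTk]
      · rw [zpow_neg, zpow_natCast]
        apply (((T : V ≃ₗ[F] V) ^ n)).injective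
        rw [Tor.T_inv, hTk]
    have h3 := hb' l
    rw [hTz] at h3
    have h4 : (G i : V ≃ₗ[F] V) l = l := (hz i).1
    rw [h4] at h3
    have h5 : ((b : F) - 1) • l = 0 := by rw [sub_smul, one_smul, ← h3, sub_self]
    have h6 : (b : F) = 1 := sub_eq_zero.1 ((smul_eq_zero.1 h5).resolve_right hl0)
    apply (hz i).2 k
    ext v
    have h7 := hb' v
    rw [h6, one_smul] at h7
    exact h7
  refine ⟨g 0 * t * (g 0)⁻¹, g 1 * t * (g 1)⁻¹, g 2 * t * (g 2)⁻¹, hcj 0, hcj 1, hcj 2, hcm 0, hcm 1, hcm 2,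
    hzp 0, hzp 1, hzp 2, ?_⟩
  apply hinj
  simp_rw [_root_.MonoidHom.map_mul (act S e) (g 0 * t * (g 0)⁻¹ * (g 1 * t * (g 1)⁻¹)) (g 2 * t * (g 2)⁻¹), _root_.MonoidHom.map_mul (act S e) (g 0 * t * (g 0)⁻¹) (g 1 * t * (g 1)⁻¹), hact 0, hact 1, hact 2, ← hT, ← _root_.MonoidHom.map_mul (Psi Q) ((ofO Q) (G 0)) ((ofO Q) (G 1)), ← _root_.MonoidHom.map_mul (Psi Q) ((ofO Q) (G 0) * (ofO Q) (G 1)) ((ofO Q) (G 2)), ← _root_.MonoidHom.map_mul (ofO Q) (G 0) (G 1), ← _root_.MonoidHom.map_mul (ofO Q) (G 0 * G 1) (G 2)]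
  congr 2
  exact Subtype.ext hprod

end Cfsg.Agent.H832.PoSeven
end

-- part: H832/PoSeven/Row
section
/-!
# S3938-OPLUS8, (O7): `PΩ₇(q)` (helper832)

`po7_conj` : in an almost simple group with socle `PΩ₇(q)`, `q` odd, an element `t` of order `(q + 1) / 2` which commutes with an
element of order `r ^ k`, `r` a primitive prime divisor of `p ^ (6 a) - 1`, is the product of three conjugates of `t`, which
commute with `t` and are not powers of `t`.
-/

set_option autoImplicit false

namespace Cfsg.Agent.H832.PoSeven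

open Cfsg Cfsg.Agent.H823.O8S Module

variable {K : Type} [Field K] [Fintype K] {p a r k : ℕ} {R : Type} [Group R] [Finite R] (S : Subgroup R) [S.Normal]
  (hC : Subgroup.centralizer (S : Set R) = ⊥) {x t : R} (hx : orderOf x = r ^ k) (ht : orderOf t = _root_.Cfsg.Agent.H823.O8S.mt (p ^ a))
  (hxt : x * t = t * x)

include hC hx ht hxt in
/-- **(O7) `PΩ₇(q)`, `q` odd: three conjugates of `t`** (weak hypothesis, including `q = 5`) -/
theorem po7_conj_w (hp : p ≠ 2) (hK : Fintype.card K = p ^ a) (h : RW p a r k)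
    (e : S ≃* POmega K (quadFormOdd 3 K)) :
    ∃ t₁ t₂ t₃ : R, IsConj t t₁ ∧ IsConj t t₂ ∧ IsConj t t₃ ∧ t * t₁ = t₁ * t ∧ t * t₂ = t₂ * t ∧ t * t₃ = t₃ * t ∧
      t₁ ∉ Subgroup.zpowers t ∧ t₂ ∉ Subgroup.zpowers t ∧ t₃ ∉ Subgroup.zpowers t ∧ t₁ * t₂ * t₃ = t := by
  have hcard : Nat.card K = p ^ a := by rw [Nat.card_eq_fintype_card, hK]
  have hr := h.prim.prime
  have h2 : (2 : K) ≠ 0 := by
    intro h0
    obtain ⟨q, hq⟩ := CharP.exists K
    have hqp : q.Prime := (CharP.char_is_prime_or_zero K q).resolve_right (CharP.char_ne_zero_of_finite K q)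
    have : Fact q.Prime := ⟨hqp⟩
    obtain ⟨n, -, hn⟩ := FiniteField.card K q
    have h1 : q ∣ 2 := (CharP.cast_eq_zero_iff K q 2).1 (by exact_mod_cast h0)
    have h3 : q = 2 := (Nat.prime_dvd_prime_iff_eq hqp Nat.prime_two).1 h1
    rw [hK, h3] at hn
    have h4 : p ∣ 2 ^ (n : ℕ) := by
      rw [← hn]
      exact dvd_pow_self p (by have := h.ha; omega)
    exact hp ((Nat.prime_dvd_prime_iff_eq h.hp Nat.prime_two).1 (h.hp.dvd_of_dvd_pow h4))
  have hG := H198.Carriers.good_oddQ (F := K) (m := 3) (by norm_num) h2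
  let e' : S ≃* ClassicalGeometry.OrthAut1.P (H198.Carriers.oddQ 3 K) := e.trans ((AutOrth.Main.pe hG :))
  -- the element of order `r`
  have hk : 1 ≤ k := h.hk
  have hpow : r ^ (k - 1) * r = r ^ k := by rw [← pow_succ, Nat.sub_add_cancel hk]
  have hy : (x ^ r ^ (k - 1)) ^ r = 1 := by rw [← pow_mul, hpow, ← hx, pow_orderOf_eq_one]
  have hy1 : x ^ r ^ (k - 1) ≠ 1 := by
    intro h1
    have h3 := Nat.le_of_dvd (pow_pos hr.pos _) (orderOf_dvd_of_pow_eq_one h1)
    rw [hx] at h3
    exact absurd h3 (not_le.2 (Nat.pow_lt_pow_right hr.one_lt (by omega)))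
  have hyt : x ^ r ^ (k - 1) * t = t * x ^ r ^ (k - 1) :=
    ((show Commute x t from hxt).pow_left (r ^ (k - 1))).eq
  -- the order of `t`
  have hodd : p ^ a % 2 = 1 := by
    rcases Nat.Prime.eq_two_or_odd h.hp with h1 | h1
    · exact absurd h1 hp
    · rw [Nat.pow_mod, h1, one_pow, Nat.one_mod]
  have hfour := h.four
  have hmt : Cfsg.Agent.H823.O8S.mt (p ^ a) = (p ^ a + 1) / 2 := by
    rw [Cfsg.Agent.H823.O8S.mt]
    congr 1
    exact Nat.gcd_eq_left (by omega)
  have htp : t ^ (Nat.card K + 1) = 1 := by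
    apply orderOf_dvd_iff_pow_eq_one.1
    rw [ht, hmt, hcard]
    exact ⟨2, by omega⟩
  have ht2 : t * t ≠ 1 := by
    intro h1
    have h3 : orderOf t ∣ 2 := orderOf_dvd_of_pow_eq_one (by rw [pow_two, h1])
    have h4 := Nat.le_of_dvd (by norm_num) h3
    rw [ht, hmt] at h4
    omega
  exact core hG (by rw [Module.finrank_fintype_fun_eq_card]; rfl) h2 h.hp h.ha h.prim hcard S hC e' hy hy1 hyt htp ht2

include hC hx ht hxt in
/-- **(O7) `PΩ₇(q)`, `q` odd: three conjugates of `t`** -/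
theorem po7_conj (hp : p ≠ 2) (hK : Fintype.card K = p ^ a) (h : RK p a r k)
    (e : S ≃* POmega K (quadFormOdd 3 K)) :
    ∃ t₁ t₂ t₃ : R, IsConj t t₁ ∧ IsConj t t₂ ∧ IsConj t t₃ ∧ t * t₁ = t₁ * t ∧ t * t₂ = t₂ * t ∧ t * t₃ = t₃ * t ∧
      t₁ ∉ Subgroup.zpowers t ∧ t₂ ∉ Subgroup.zpowers t ∧ t₃ ∉ Subgroup.zpowers t ∧ t₁ * t₂ * t₃ = t :=
  po7_conj_w S hC hx ht hxt hp hK h.weak e

end Cfsg.Agent.H832.PoSeven
end

-- part: H823/O8S/RowFin
section
/-!
# S3938-OPLUS8: **`Spr (PΩ⁺₈(q))`, `q ≥ 4`, `q ≠ 5`** (helper823)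
-/

set_option autoImplicit false

namespace Cfsg.Agent.H823.O8S

open Cfsg Cfsg.Agent.H424.Spr
open Cfsg.Agent.H708.O8 (T8)

theorem po7 : Po7 := by
  intro p a r k h R _ _ S _ hC x t hx ht hxt K _ _ hp hK e
  exact H832.PoSeven.po7_conj S hC hx ht hxt hp hK h e

theorem spr_row (hKn : ∀ (X : Type) [Group X] [Finite X] [IsSimpleGroup X], Cfsg.IsKnownSimple' X)
    {F : Type} [Field F] [Fintype F] (h4 : 4 ≤ Nat.card F) (h5 : Nat.card F ≠ 5) :
    Spr (POmega F (quadFormPlus 4 F)) := spr_row_po7 hKn po7 h4 h5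

end Cfsg.Agent.H823.O8S
end

private theorem dce_9612e78e2a97 : _root_.True := by
  try have : _root_.True := by simp only [_root_.Cfsg.Agent.H832.PoSeven.Dat.H.eq_1]
  try have : _root_.True := by simp only [_root_.Cfsg.Agent.H832.PoSeven.Dat.H.congr_simp]
  try have : _root_.True := by simp only [_root_.Cfsg.Agent.H604.Spr.QM.eq_1]
  exact _root_.True.intro
end
end
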